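import Mathlib

/-!
# Two involutions in a finite group, and an abstract closing theorem

`dihedral`: the alternative "conjugate / common central involution" for two involutions of a finite group.
`eq_top`: let `B ≤ Y ≤ X`, `R ⊆ B` a `Y`-invariant set of involutions such that `r ^ x ∈ Y` implies `x ∈ Y` for
`r ∈ R`; under some combinatorial conditions on `(B, R)` the group `Y` is the whole of `X`.
-/

set_option autoImplicit false

namespace Cfsg.Agent.StdAlt.Dihedral

variable {X : Type*} [Group X]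

theorem left_swap {a b : X} (ha : a * a = 1) (hb : b * b = 1) (j : ℕ) :
    a * ((a * b) ^ j)⁻¹ = (a * b) ^ j * a := by
  have h1 : a⁻¹ = a := inv_eq_of_mul_eq_one_left ha
  have h2 : b⁻¹ = b := inv_eq_of_mul_eq_one_left hb
  have h3 : SemiconjBy a (a * b)⁻¹ (a * b) := by
    show a * (a * b)⁻¹ = a * b * a
    rw [mul_inv_rev, h1, h2, mul_assoc]
  have h4 := h3.pow_right j
  rw [inv_pow] at h4
  exact h4

theorem right_swap {a b : X} (ha : a * a = 1) (hb : b * b = 1) (j : ℕ) :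
    b * ((a * b) ^ j)⁻¹ = (a * b) ^ j * b := by
  have h1 : a⁻¹ = a := inv_eq_of_mul_eq_one_left ha
  have h2 : b⁻¹ = b := inv_eq_of_mul_eq_one_left hb
  have h3 : SemiconjBy b (a * b)⁻¹ (a * b) := by
    show b * (a * b)⁻¹ = a * b * b
    rw [mul_inv_rev, h1, h2, ← mul_assoc, hb, one_mul, mul_assoc, hb, mul_one]
  have h4 := h3.pow_right j
  rw [inv_pow] at h4
  exact h4

/-- conjugation by a power of `a b` -/
theorem pow_mul_self {a b : X} (ha : a * a = 1) (hb : b * b = 1) (j : ℕ) :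
    (a * b) ^ j * a * ((a * b) ^ j)⁻¹ = (a * b) ^ (2 * j) * a := by
  rw [mul_assoc, left_swap ha hb, ← mul_assoc, ← pow_add, two_mul]

theorem pow_mul_right {a b : X} (ha : a * a = 1) (hb : b * b = 1) (j : ℕ) :
    (a * b) ^ j * b * ((a * b) ^ j)⁻¹ = (a * b) ^ (2 * j) * b := by
  rw [mul_assoc, right_swap ha hb, ← mul_assoc, ← pow_add, two_mul]

/-- Two involutions of a finite group are conjugate under a power of their product, or they commute with a
common involution `c`, and (`a c ~ a`, `b c ~ b`) or (`b c ~ a`, `a c ~ b`). -/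
theorem dihedral [Finite X] {a b : X} (ha : a * a = 1) (hb : b * b = 1) :
    (∃ j : ℕ, (a * b) ^ j * a * ((a * b) ^ j)⁻¹ = b) ∨
    ∃ c : X, c ≠ 1 ∧ c * c = 1 ∧ (∃ m : ℕ, c = (a * b) ^ m) ∧ a * c = c * a ∧ b * c = c * b ∧
      (((∃ j : ℕ, (a * b) ^ j * a * ((a * b) ^ j)⁻¹ = a * c) ∧
        ∃ j : ℕ, (a * b) ^ j * b * ((a * b) ^ j)⁻¹ = b * c) ∨
      ((∃ j : ℕ, (a * b) ^ j * a * ((a * b) ^ j)⁻¹ = b * c) ∧
        ∃ j : ℕ, (a * b) ^ j * b * ((a * b) ^ j)⁻¹ = a * c)) := by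
  set n := orderOf (a * b) with hn
  have hpos : 0 < n := orderOf_pos _
  have hn1 : (a * b) ^ n = 1 := pow_orderOf_eq_one _
  have e2 : (a * b) * b = a := by rw [mul_assoc, hb, mul_one]
  have hA : ∀ j : ℕ, (a * b) ^ j * a * ((a * b) ^ j)⁻¹ = (a * b) ^ (2 * j + 1) * b := by
    intro j
    rw [pow_mul_self ha hb, pow_succ, mul_assoc ((a * b) ^ (2 * j)), e2]
  rcases Nat.even_or_odd n with h | h
  · right
    obtain ⟨m, hm⟩ := h
    have hm0 : 0 < m := by omega
    set c := (a * b) ^ m with hc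
    have hcc : c * c = 1 := by rw [hc, ← pow_add, ← hm, hn1]
    have hc1 : c ≠ 1 := by
      intro h1
      have h2 : n ∣ m := orderOf_dvd_of_pow_eq_one h1
      have := Nat.le_of_dvd hm0 h2
      omega
    have hci : c⁻¹ = c := inv_eq_of_mul_eq_one_left hcc
    have hca : a * c = c * a := by
      have h1 := left_swap ha hb m
      rwa [← hc, hci] at h1
    have hcb : b * c = c * b := by
      have h1 := right_swap ha hb m
      rwa [← hc, hci] at h1
    refine ⟨c, hc1, hcc, ⟨m, hc⟩, hca, hcb, ?_⟩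
    rcases Nat.even_or_odd m with h | h
    · left
      obtain ⟨k, hk⟩ := h
      refine ⟨⟨k, ?_⟩, ⟨k, ?_⟩⟩
      · rw [pow_mul_self ha hb, show 2 * k = m by omega, ← hc, hca]
      · rw [pow_mul_right ha hb, show 2 * k = m by omega, ← hc, hcb]
    · right
      obtain ⟨k, hk⟩ := h
      refine ⟨⟨k, ?_⟩, ⟨k + 1, ?_⟩⟩
      · rw [hA, ← hk, ← hc, hcb]
      · rw [pow_mul_right ha hb, show 2 * (k + 1) = m + 1 by omega, pow_succ, mul_assoc, e2, ← hc, hca]
  · left
    obtain ⟨k, hk⟩ := h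
    refine ⟨k, ?_⟩
    rw [hA, ← hk, hn1, one_mul]

/-- conjugation by an element, for commuting arguments -/
theorem comm_pow {a b c : X} (ha : c * a = a * c) (hb : c * b = b * c) (j : ℕ) :
    c * (a * b) ^ j = (a * b) ^ j * c :=
  ((Commute.mul_right (show Commute c a from ha) (show Commute c b from hb)).pow_right j)

/-- The combinatorial conditions on a pair `(B, R)`. -/
structure Comb (B : Set X) (R : Set X) : Prop where
  /-- two commuting elements of `R` whose product is neither trivial nor in `R` -/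
  exists_pair : ∃ a ∈ R, ∃ d ∈ R, a * d = d * a ∧ a ≠ d ∧ a * d ∉ R
  /-- the local condition at the product -/
  local_pair : ∀ a ∈ R, ∀ d ∈ R, a * d = d * a → a ≠ d → a * d ∉ R →
    ∃ b ∈ R, b * (a * d) = (a * d) * b ∧ b * (a * d) ∉ R ∧
      (∀ a' ∈ R, a' * (a * d) ∈ R → a' * a = a * a' → a' * a ∉ R → a' ≠ a → a' = d) ∧
      (∀ b' ∈ R, b' * (a * d) ∈ R → b' * b = b * b' → b * b' ∉ R → b' ≠ b → b * (b' * (a * d)) ∈ R)

section closing

variable {B Y : Subgroup X} {R : Set X}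

/-- the fusion hypotheses -/
structure Fus (B Y : Subgroup X) (R : Set X) : Prop where
  subB : ∀ r ∈ R, r ∈ B
  le : B ≤ Y
  sq : ∀ r ∈ R, r * r = 1
  conj : ∀ y ∈ Y, ∀ r ∈ R, y * r * y⁻¹ ∈ R
  fus : ∀ r ∈ R, ∀ x, x * r * x⁻¹ ∈ Y → x ∈ Y

namespace Fus

theorem mem_of_comm (h : Fus B Y R) {r x : X} (hr : r ∈ R) (hx : x * r = r * x) : x ∈ Y := by
  apply h.fus r hr
  rw [hx, mul_inv_cancel_right]
  exact h.le (h.subB r hr)

theorem mem_R (h : Fus B Y R) {r x : X} (hr : r ∈ R) (hx : x * r * x⁻¹ ∈ Y) : x * r * x⁻¹ ∈ R :=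
  h.conj x (h.fus r hr x hx) r hr

/-- step A -/
theorem stepA [Finite X] (h : Fus B Y R) (hC : Comb (B : Set X) R) {a d : X} (ha : a ∈ R) (hd : d ∈ R)
    (hc : a * d = d * a) (hne : a ≠ d) (hR : a * d ∉ R) {g : X} (hg : g * (a * d) = (a * d) * g) :
    g ∈ Y := by
  by_contra hgY
  obtain ⟨b, hb, hbc, hbR, h1, h2⟩ := hC.local_pair a ha d hd hc hne hR
  set c := a * d with hcdef
  have haa := h.sq a ha
  have hdd := h.sq d hd
  have hbb := h.sq b hb
  have hcc : c * c = 1 := by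
    rw [hcdef, mul_assoc, ← mul_assoc d, ← hc, mul_assoc a d d, hdd, mul_one, haa]
  have hac : a * c = d := by rw [hcdef, ← mul_assoc, haa, one_mul]
  have hca : c * a = a * c := by rw [hac, hc, mul_assoc, haa, mul_one]
  have hcY : c ∈ Y := Y.mul_mem (h.le (h.subB a ha)) (h.le (h.subB d hd))
  -- the root at `g`
  set b' := g * b * g⁻¹ with hb'
  have hb'b' : b' * b' = 1 := by
    rw [hb']; rw [show g * b * g⁻¹ * (g * b * g⁻¹) = g * (b * b) * g⁻¹ by group, hbb]; group
  have hgi : g⁻¹ * c = c * g⁻¹ := by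
    rw [inv_mul_eq_iff_eq_mul, ← mul_assoc, hg, mul_inv_cancel_right]
  have hb'c : b' * c = c * b' := by
    calc b' * c = g * b * (g⁻¹ * c) := by rw [hb', mul_assoc]
      _ = g * (b * c) * g⁻¹ := by rw [hgi]; group
      _ = (g * c) * b * g⁻¹ := by rw [hbc]; group
      _ = c * b' := by rw [hg, hb']; group
  have hcb' : c * b' = b' * c := hb'c.symm
  have hgb'c : g⁻¹ * (b' * c) * g = b * c := by
    rw [hb', show g⁻¹ * (g * b * g⁻¹ * c) * g = b * (g⁻¹ * c) * g by group, hgi]; group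
  have hbY : b ∈ Y := h.le (h.subB b hb)
  have hinv : ∀ {x : X}, x⁻¹ ∈ Y → x ∈ Y := fun hx => Y.inv_mem_iff.1 hx
  -- an element commuting with `b'` has its `g`-conjugate in `Y`
  have hcommb : ∀ x : X, x * b' = b' * x → g⁻¹ * x * g ∈ Y := by
    intro x hx
    apply h.mem_of_comm hb
    calc g⁻¹ * x * g * b = g⁻¹ * (x * b') * g := by rw [hb']; group
      _ = b * (g⁻¹ * x * g) := by rw [hx, hb']; group
  rcases dihedral haa hb'b' with ⟨j, hj⟩ | ⟨z, hz1, hzz, -, haz, hbz, hcase⟩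
  · -- odd case
    set y := (a * b') ^ j with hy
    have hyc : c * y = y * c := comm_pow hca hcb' j
    have hyc' : y⁻¹ * c = c * y⁻¹ := by
      rw [inv_mul_eq_iff_eq_mul, ← mul_assoc, ← hyc, mul_inv_cancel_right]
    apply hbR
    have e : (g⁻¹ * y) * d * (g⁻¹ * y)⁻¹ = b * c := by
      rw [← hgb'c, ← hj, ← hac]
      calc g⁻¹ * y * (a * c) * (g⁻¹ * y)⁻¹ = g⁻¹ * (y * a * (c * y⁻¹)) * g := by group
        _ = g⁻¹ * (y * a * y⁻¹ * c) * g := by rw [← hyc']; group
    rw [← e]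
    apply h.mem_R hd
    rw [e]
    exact Y.mul_mem hbY hcY
  · have hzR : z ∉ R := by
      intro hz
      have h3 : b' ∈ Y := h.mem_of_comm hz hbz
      exact hgY (h.fus b hb g h3)
    have hzY : z ∈ Y := h.mem_of_comm ha haz.symm
    rcases hcase with ⟨⟨j, hj⟩, ⟨i, hi⟩⟩ | ⟨⟨j, hj⟩, -⟩
    · -- `m` even
      set y := (a * b') ^ j with hy
      have hyc : c * y = y * c := comm_pow hca hcb' j
      have hyc' : y⁻¹ * c = c * y⁻¹ := by
        rw [inv_mul_eq_iff_eq_mul, ← mul_assoc, ← hyc, mul_inv_cancel_right]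
      have hazY : a * z ∈ Y := Y.mul_mem (h.le (h.subB a ha)) hzY
      have hazR : a * z ∈ R := by
        rw [← hj]; apply h.mem_R ha; rw [hj]; exact hazY
      have hazcR : a * z * c ∈ R := by
        have e : y * d * y⁻¹ = a * z * c := by
          rw [← hj, ← hac, mul_assoc, mul_assoc, mul_assoc (y * a), hyc']; group
        rw [← e]; apply h.mem_R hd; rw [e]; exact Y.mul_mem hazY hcY
      have haza : a * z * a = z := by rw [haz, mul_assoc, haa, mul_one]
      have hzd : a * z = d := by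
        apply h1 (a * z) hazR hazcR
        · rw [haza, ← mul_assoc, haa, one_mul]
        · rw [haza]; exact hzR
        · intro h4
          apply hz1
          rwa [mul_eq_left] at h4
      have hzc : z = c := by
        rw [hcdef, ← hzd, ← mul_assoc, haa, one_mul]
      set y' := (a * b') ^ i with hy'
      rw [hzc] at hi
      apply hbR
      have e : (g⁻¹ * y' * g) * b * (g⁻¹ * y' * g)⁻¹ = b * c := by
        rw [← hgb'c, ← hi, hb']; group
      rw [← e]; apply h.mem_R hb; rw [e]; exact Y.mul_mem hbY hcY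
    · -- `m` odd
      set y := (a * b') ^ j with hy
      have hyc : c * y = y * c := comm_pow hca hcb' j
      have hyc' : y⁻¹ * c = c * y⁻¹ := by
        rw [inv_mul_eq_iff_eq_mul, ← mul_assoc, ← hyc, mul_inv_cancel_right]
      set z' := g⁻¹ * z * g with hz'
      have hz'Y : z' ∈ Y := hcommb z hbz.symm
      set b1 := b * z' with hb1
      have e1 : b1 = (g⁻¹ * y) * a * (g⁻¹ * y)⁻¹ := by
        rw [show (g⁻¹ * y) * a * (g⁻¹ * y)⁻¹ = g⁻¹ * (y * a * y⁻¹) * g by group, hj, hb1, hz', hb']; group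
      have hb1Y : b1 ∈ Y := Y.mul_mem hbY hz'Y
      have hb1R : b1 ∈ R := by
        rw [e1]; apply h.mem_R ha; rw [← e1]; exact hb1Y
      have e2 : b1 * c = (g⁻¹ * y) * d * (g⁻¹ * y)⁻¹ := by
        rw [e1, ← hac]
        calc g⁻¹ * y * a * (g⁻¹ * y)⁻¹ * c = g⁻¹ * y * a * y⁻¹ * (g * c) := by group
          _ = g⁻¹ * y * a * (y⁻¹ * c) * g := by rw [hg]; group
          _ = g⁻¹ * y * (a * c) * (g⁻¹ * y)⁻¹ := by rw [hyc']; group
      have hb1cR : b1 * c ∈ R := by
        rw [e2]; apply h.mem_R hd; rw [← e2]; exact Y.mul_mem hb1Y hcY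
      have hbz' : b * z' = z' * b := by
        have : g⁻¹ * (b' * z) * g = g⁻¹ * (z * b') * g := by rw [hbz]
        rw [hb'] at this
        calc b * z' = g⁻¹ * (g * b * g⁻¹ * z) * g := by rw [hz']; group
          _ = g⁻¹ * (z * (g * b * g⁻¹)) * g := this
          _ = z' * b := by rw [hz']; group
      have hbb1 : b * b1 = z' := by rw [hb1, ← mul_assoc, hbb, one_mul]
      have hz'R : z' ∉ R := by
        intro h3
        -- `a` commutes with `z`
        have h4 : g⁻¹ * a * g ∈ Y := by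
          apply h.mem_of_comm h3
          calc g⁻¹ * a * g * z' = g⁻¹ * (a * z) * g := by rw [hz']; group
            _ = z' * (g⁻¹ * a * g) := by rw [haz, hz']; group
        have h5 : g⁻¹ ∈ Y := h.fus a ha g⁻¹ (by rwa [inv_inv])
        exact hgY (hinv h5)
      have h6 : b * (b1 * c) ∈ R := by
        apply h2 b1 hb1R hb1cR
        · rw [hb1, hbz', mul_assoc, hbb, mul_one, ← hbz', ← mul_assoc, hbb, one_mul]
        · rw [hbb1]; exact hz'R
        · intro h7
          apply hz1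
          rw [hb1, mul_eq_left] at h7
          rw [hz'] at h7
          have : z = g * (g⁻¹ * z * g) * g⁻¹ := by group
          rw [this, h7]; group
      rw [← mul_assoc, hbb1] at h6
      have h7 : g * (z' * c) * g⁻¹ ∈ Y := by
        have e3 : g * (z' * c) * g⁻¹ = z * c := by
          rw [hz']
          calc g * (g⁻¹ * z * g * c) * g⁻¹ = z * (g * c) * g⁻¹ := by group
            _ = z * c := by rw [hg]; group
        rw [e3]; exact Y.mul_mem hzY hcY
      exact hgY (h.fus _ h6 g h7)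

/-- step B: roots at different points are conjugate under a power of their product -/
theorem stepB [Finite X] (h : Fus B Y R) (hC : Comb (B : Set X) R) {a b : X} (ha : a ∈ R) (hb : b ∈ R) {g : X}
    (hg : g ∉ Y) : ∃ j : ℕ, (a * (g * b * g⁻¹)) ^ j * a * ((a * (g * b * g⁻¹)) ^ j)⁻¹ = g * b * g⁻¹ := by
  have haa := h.sq a ha
  have hbb := h.sq b hb
  set b' := g * b * g⁻¹ with hb'
  have hb'b' : b' * b' = 1 := by
    rw [hb', show g * b * g⁻¹ * (g * b * g⁻¹) = g * (b * b) * g⁻¹ by group, hbb]; group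
  rcases dihedral haa hb'b' with hj | ⟨z, hz1, hzz, -, haz, hbz, hcase⟩
  · exact hj
  · exfalso
    have hzY : z ∈ Y := h.mem_of_comm ha haz.symm
    have hazY : a * z ∈ Y := Y.mul_mem (h.le (h.subB a ha)) hzY
    have hazR : a * z ∈ R := by
      rcases hcase with ⟨⟨j, hj⟩, -⟩ | ⟨-, ⟨j, hj⟩⟩
      · rw [← hj]; apply h.mem_R ha; rw [hj]; exact hazY
      · have e : ((a * b') ^ j * g) * b * ((a * b') ^ j * g)⁻¹ = a * z := by
          rw [← hj, hb']; group
        rw [← e]; apply h.mem_R hb; rw [e]; exact hazY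
    have hzR : z ∉ R := by
      intro hz
      have h3 : b' ∈ Y := h.mem_of_comm hz hbz
      exact hg (h.fus b hb g h3)
    have e : a * (a * z) = z := by rw [← mul_assoc, haa, one_mul]
    have h1 : b' ∈ Y := by
      apply h.stepA hC ha hazR (d := a * z)
      · rw [e, haz, mul_assoc, haa, mul_one]
      · intro h2
        apply hz1
        have := h2.symm
        rwa [mul_eq_left] at this
      · rw [e]; exact hzR
      · rw [e]; exact hbz
    exact hg (h.fus b hb g h1)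

/-- condition on the action of the involutions of `Y` -/
structure InvCond (B Y : Subgroup X) (R : Set X) : Prop where
  exists_comm : ∀ h ∈ Y, h * h = 1 → ∃ r ∈ R, h * r = r * h
  exists_two : ∀ h ∈ Y, h * h = 1 → (∀ b ∈ B, h * b = b * h) ∨
    ∃ a₁ ∈ R, ∃ a₂ ∈ R, h * a₁ = a₁ * h ∧ h * a₂ = a₂ * h ∧ ∀ y ∈ Y, y * h = h * y → y * a₁ * y⁻¹ ≠ a₂

theorem stepC [Finite X] (h : Fus B Y R) (hC : Comb (B : Set X) R) (hI : InvCond B Y R) {g : X} (hg : g ∉ Y) {t : X}
    (ht : t ∈ Y) (htg : g⁻¹ * t * g ∈ Y) (htt : t * t = 1) : ∀ b ∈ B, t * b = b * t := by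
  rcases hI.exists_two t ht htt with h1 | ⟨a₁, ha₁, a₂, ha₂, ht₁, ht₂, hy⟩
  · exact h1
  · exfalso
    obtain ⟨b, hb, htb⟩ := hI.exists_comm (g⁻¹ * t * g) htg (by
      rw [show g⁻¹ * t * g * (g⁻¹ * t * g) = g⁻¹ * (t * t) * g by group, htt]; group)
    have htb' : t * (g * b * g⁻¹) = (g * b * g⁻¹) * t := by
      calc t * (g * b * g⁻¹) = g * (g⁻¹ * t * g * b) * g⁻¹ := by group
        _ = (g * b * g⁻¹) * t := by rw [htb]; group
    obtain ⟨i, hi⟩ := h.stepB hC ha₁ hb hg
    obtain ⟨j, hj⟩ := h.stepB hC ha₂ hb hg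
    set y₁ := (a₁ * (g * b * g⁻¹)) ^ i with hy₁
    set y₂ := (a₂ * (g * b * g⁻¹)) ^ j with hy₂
    have h1 : t * y₁ = y₁ * t := comm_pow ht₁ htb' i
    have h2 : t * y₂ = y₂ * t := comm_pow ht₂ htb' j
    have e : (y₂⁻¹ * y₁) * a₁ * (y₂⁻¹ * y₁)⁻¹ = a₂ := by
      calc (y₂⁻¹ * y₁) * a₁ * (y₂⁻¹ * y₁)⁻¹ = y₂⁻¹ * (y₁ * a₁ * y₁⁻¹) * y₂ := by group
        _ = y₂⁻¹ * (y₂ * a₂ * y₂⁻¹) * y₂ := by rw [hi, hj]
        _ = a₂ := by group
    refine hy (y₂⁻¹ * y₁) ?_ ?_ e
    · apply h.fus a₁ ha₁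
      rw [e]; exact h.le (h.subB _ ha₂)
    · have c1 : Commute y₂⁻¹ t := (show Commute t y₂ from h2).symm.inv_left
      exact (c1.mul_left (show Commute t y₁ from h1).symm)

/-- **The abstract closing theorem.** -/
theorem eq_top [Finite X] (h : Fus B Y R) (hC : Comb (B : Set X) R) (hI : InvCond B Y R)
    (hZ : ∀ z ∈ B, (∀ b ∈ B, z * b = b * z) → z = 1) : Y = ⊤ := by
  rw [Subgroup.eq_top_iff']
  intro g
  by_contra hg
  obtain ⟨a, ha, d, hd, hc, hne, hR⟩ := hC.exists_pair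
  set c := a * d with hcdef
  have haa := h.sq a ha
  have hdd := h.sq d hd
  have hcc : c * c = 1 := by
    rw [hcdef, mul_assoc, ← mul_assoc d, ← hc, hcdef, mul_assoc a d d, hdd, mul_one, haa]
  have hcY : c ∈ Y := Y.mul_mem (h.le (h.subB a ha)) (h.le (h.subB d hd))
  set b' := g * a * g⁻¹ with hb'
  have hb'b' : b' * b' = 1 := by
    rw [hb', show g * a * g⁻¹ * (g * a * g⁻¹) = g * (a * a) * g⁻¹ by group, haa]; group
  rcases dihedral hcc hb'b' with ⟨j, hj⟩ | ⟨z, hz1, hzz, -, hcz, hbz, hcase⟩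
  · -- `c` would be a root
    apply hR
    set y := (c * b') ^ j with hy
    have e : (y⁻¹ * g) * a * (y⁻¹ * g)⁻¹ = c := by
      calc (y⁻¹ * g) * a * (y⁻¹ * g)⁻¹ = y⁻¹ * (g * a * g⁻¹) * y := by group
        _ = y⁻¹ * (y * c * y⁻¹) * y := by rw [hj, hb']
        _ = c := by group
    rw [← e]; apply h.mem_R ha; rw [e]; exact hcY
  · have hzY : z ∈ Y := h.stepA hC ha hd hc hne hR (hcz.symm)
    have hzgY : g⁻¹ * z * g ∈ Y := by
      apply h.mem_of_comm ha
      calc g⁻¹ * z * g * a = g⁻¹ * (z * b') * g := by rw [hb']; group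
        _ = a * (g⁻¹ * z * g) := by rw [← hbz, hb']; group
    have hzB : ∀ b ∈ B, z * b = b * z := h.stepC hC hI hg hzY hzgY hzz
    have hg' : g⁻¹ ∉ Y := fun h1 => hg (Y.inv_mem_iff.1 h1)
    have hzgB : ∀ b ∈ B, (g⁻¹ * z * g) * b = b * (g⁻¹ * z * g) := by
      apply h.stepC hC hI hg' hzgY
      · rw [show g⁻¹⁻¹ * (g⁻¹ * z * g) * g⁻¹ = z by group]; exact hzY
      · rw [show g⁻¹ * z * g * (g⁻¹ * z * g) = g⁻¹ * (z * z) * g by group, hzz]; group
    rcases hcase with ⟨-, ⟨j, hj⟩⟩ | ⟨-, ⟨j, hj⟩⟩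
    · -- `b z ~ b`
      set y := (c * b') ^ j with hy
      set z' := g⁻¹ * z * g with hz'
      have e : (g⁻¹ * y * g) * a * (g⁻¹ * y * g)⁻¹ = a * z' := by
        calc (g⁻¹ * y * g) * a * (g⁻¹ * y * g)⁻¹ = g⁻¹ * (y * (g * a * g⁻¹) * y⁻¹) * g := by group
          _ = g⁻¹ * (b' * z) * g := by rw [← hj, hb']
          _ = a * z' := by rw [hb', hz']; group
      have h1 : a * z' ∈ R := by
        rw [← e]; apply h.mem_R ha; rw [e]
        exact Y.mul_mem (h.le (h.subB a ha)) hzgY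
      have h2 : z' ∈ B := by
        have := B.mul_mem (h.subB a ha) (h.subB _ h1)
        rwa [← mul_assoc, haa, one_mul] at this
      have h3 : z' = 1 := hZ z' h2 hzgB
      apply hz1
      have : z = g * (g⁻¹ * z * g) * g⁻¹ := by group
      rw [this, ← hz', h3]; group
    · set y := (c * b') ^ j with hy
      have e : (y * g) * a * (y * g)⁻¹ = c * z := by
        rw [← hj, hb']; group
      have h1 : c * z ∈ R := by
        rw [← e]; apply h.mem_R ha; rw [e]; exact Y.mul_mem hcY hzY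
      have hcB : c ∈ B := B.mul_mem (h.subB a ha) (h.subB d hd)
      have h2 : z ∈ B := by
        have := B.mul_mem hcB (h.subB _ h1)
        rwa [← mul_assoc, hcc, one_mul] at this
      exact hz1 (hZ z h2 hzB)

end Fus

end closing

end Cfsg.Agent.StdAlt.Dihedral
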