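import Mathlib
import Cfsg.Agent.StdAlt.Dihedral

/-!
# Double transpositions ("roots") in the symmetric group

Combinatorics needed for `Cfsg.Agent.StdAlt.Dihedral.Fus.eq_top`.
-/

set_option autoImplicit false

namespace Cfsg.Agent.StdAlt.Roots

open Equiv Equiv.Perm

variable {Ω : Type*}

theorem apply_apply {u : Perm Ω} (h : u * u = 1) (x : Ω) : u (u x) = x := by
  have := congrArg (fun f : Perm Ω => f x) h
  simpa using this

theorem comm_apply {u v : Perm Ω} (h : u * v = v * u) (x : Ω) : u (v x) = v (u x) := by
  have := congrArg (fun f : Perm Ω => f x) h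
  simpa using this

variable [Fintype Ω] [DecidableEq Ω]

/-- a product of two disjoint transpositions -/
def IsRoot (u : Perm Ω) : Prop := u * u = 1 ∧ u.support.card = 4

theorem IsRoot.sq {u : Perm Ω} (h : IsRoot u) : u * u = 1 := h.1

theorem IsRoot.conj {u : Perm Ω} (h : IsRoot u) (σ : Perm Ω) : IsRoot (σ * u * σ⁻¹) := by
  refine ⟨?_, ?_⟩
  · rw [show σ * u * σ⁻¹ * (σ * u * σ⁻¹) = σ * (u * u) * σ⁻¹ by group, h.1]; group
  · rw [Equiv.Perm.card_support_conj]; exact h.2

/-- commuting distinct roots whose supports meet have a root as product -/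
theorem isRoot_mul {u v : Perm Ω} (hu : IsRoot u) (hv : IsRoot v) (hc : u * v = v * u) (hne : u ≠ v)
    {x : Ω} (hxu : u x ≠ x) (hxv : v x ≠ x) : IsRoot (u * v) := by
  have uu := apply_apply hu.1
  have vv := apply_apply hv.1
  have cc := comm_apply hc
  refine ⟨by rw [mul_assoc, ← mul_assoc v, ← hc, mul_assoc u, hv.1, mul_one, hu.1], ?_⟩
  -- `v x` is moved by `u`
  have hm : ∀ y, u y ≠ y → u (v y) ≠ v y := by
    intro y hy h
    rw [cc] at h
    exact hy (v.injective h)
  by_cases hxy : v x = u x
  · -- the products share `(x, u x)`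
    set y := u x with hy
    have huy : u y = x := uu x
    have hvy : v y = x := by rw [← hxy]; exact vv x
    -- supports outside `{x, y}`
    have hcu : (u.support \ {x, y}).card = 2 := by
      rw [Finset.card_sdiff_of_subset, hu.2, Finset.card_pair (Ne.symm hxu)]
      intro t ht
      simp only [Finset.mem_insert, Finset.mem_singleton] at ht
      rw [mem_support]
      rcases ht with rfl | rfl
      · exact hxu
      · rw [huy]; exact Ne.symm hxu
    have hcv : (v.support \ {x, y}).card = 2 := by
      rw [Finset.card_sdiff_of_subset, hv.2, Finset.card_pair (Ne.symm hxu)]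
      intro t ht
      simp only [Finset.mem_insert, Finset.mem_singleton] at ht
      rw [mem_support]
      rcases ht with rfl | rfl
      · exact hxv
      · rw [hvy]; exact Ne.symm hxu
    -- `v` fixes the rest of the support of `u`
    have hfix : ∀ z, u z ≠ z → z ≠ x → z ≠ y → v z = z := by
      intro z hz h1 h2
      by_contra hvz
      -- the support of `u` is `{x, y, z, u z}`
      have huz1 : u z ≠ x := fun h => h2 (by rw [hy, ← h, uu])
      have huz2 : u z ≠ y := fun h => h1 (u.injective h)
      have hsupp : u.support = {x, y, z, u z} := by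
        symm
        apply Finset.eq_of_subset_of_card_le
        · intro t ht
          simp only [Finset.mem_insert, Finset.mem_singleton] at ht
          rw [mem_support]
          rcases ht with rfl | rfl | rfl | rfl
          · exact hxu
          · rw [huy]; exact Ne.symm hxu
          · exact hz
          · rw [uu]; exact Ne.symm hz
        · rw [hu.2, Finset.card_insert_of_notMem, Finset.card_insert_of_notMem,
            Finset.card_insert_of_notMem, Finset.card_singleton]
          · rw [Finset.mem_singleton]; exact Ne.symm hz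
          · simp only [Finset.mem_insert, Finset.mem_singleton, not_or]
            exact ⟨Ne.symm h2, Ne.symm huz2⟩
          · simp only [Finset.mem_insert, Finset.mem_singleton, not_or]
            exact ⟨Ne.symm hxu, Ne.symm h1, Ne.symm huz1⟩
      have hvzm : v z ∈ u.support := mem_support.2 (hm z hz)
      rw [hsupp] at hvzm
      simp only [Finset.mem_insert, Finset.mem_singleton] at hvzm
      have hvzu : v z = u z := by
        rcases hvzm with h | h | h | h
        · exfalso; apply h2; rw [← vv z, h, hxy]
        · exfalso; apply h1; rw [← vv z, h, hvy]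
        · exact absurd h hvz
        · exact h
      apply hne
      -- `u = v` on the support of `u`
      have hagree : ∀ t ∈ u.support, v t = u t := by
        intro t ht
        rw [hsupp] at ht
        simp only [Finset.mem_insert, Finset.mem_singleton] at ht
        rcases ht with rfl | rfl | rfl | rfl
        · exact hxy
        · rw [hvy, huy]
        · exact hvzu
        · rw [uu, ← hvzu, vv]
      have hsub : u.support ⊆ v.support := by
        intro t ht
        rw [mem_support, hagree t ht]; exact mem_support.1 ht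
      have hse : u.support = v.support :=
        Finset.eq_of_subset_of_card_le hsub (by rw [hu.2, hv.2])
      ext t
      by_cases ht : t ∈ u.support
      · rw [hagree t ht]
      · have ht' : t ∉ v.support := by rwa [← hse]
        rw [notMem_support.1 ht, notMem_support.1 ht']
    have hsupp : (u * v).support = (u.support \ {x, y}) ∪ (v.support \ {x, y}) := by
      ext t
      simp only [mem_support, Finset.mem_union, Finset.mem_sdiff, Finset.mem_insert,
        Finset.mem_singleton, not_or, Perm.mul_apply]
      constructor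
      · intro h
        have htx : t ≠ x := by
          rintro rfl; exact h (by rw [hxy, huy])
        have hty : t ≠ y := by
          intro h'; rw [h'] at h; exact h (by rw [hvy])
        by_cases hv' : v t = t
        · left; rw [hv'] at h; exact ⟨h, htx, hty⟩
        · right; exact ⟨hv', htx, hty⟩
      · rintro (⟨h1, h2, h3⟩ | ⟨h1, h2, h3⟩)
        · rw [hfix t h1 h2 h3]; exact h1
        · have hvtx : v t ≠ x := fun h => h3 (by rw [← hxy, ← h, vv])
          have hvty : v t ≠ y := fun h => h2 (v.injective (h.trans hxy.symm))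
          have h4 : u (v t) = v t := by
            by_contra h5
            have := hfix (v t) h5 hvtx hvty
            rw [vv] at this
            exact h1 this.symm
          rw [h4]; exact h1
    rw [hsupp, Finset.card_union_of_disjoint, hcu, hcv]
    rw [Finset.disjoint_left]
    intro t ht ht'
    simp only [mem_support, Finset.mem_sdiff, Finset.mem_insert, Finset.mem_singleton, not_or] at ht ht'
    exact ht'.1 (hfix t ht.1 ht.2.1 ht.2.2)
  · -- four points
    set y := u x with hy
    set z := v x with hz
    have huy : u y = x := uu x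
    have hvz : v z = x := vv x
    have huz : u z = v y := by rw [hz, cc]
    set w := v y with hw
    have hvw : v w = y := vv y
    have huw : u w = z := by rw [← huz, uu]
    have hxy1 : x ≠ y := Ne.symm hxu
    have hxz : x ≠ z := Ne.symm hxv
    have hyz : y ≠ z := fun h => hxy h.symm
    have hxw : x ≠ w := by
      intro h; apply hyz; rw [← huw, ← h]
    have hyw : y ≠ w := by
      intro h; apply hxz; rw [← huw, ← h, huy]
    have hzw : z ≠ w := by
      intro h; apply hxy1; rw [← hvz, h, hvw]
    have hcard : ({x, y, z, w} : Finset Ω).card = 4 := by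
      rw [Finset.card_insert_of_notMem, Finset.card_insert_of_notMem,
        Finset.card_insert_of_notMem, Finset.card_singleton]
      · rw [Finset.mem_singleton]; exact hzw
      · simp only [Finset.mem_insert, Finset.mem_singleton, not_or]
        exact ⟨hyz, hyw⟩
      · simp only [Finset.mem_insert, Finset.mem_singleton, not_or]
        exact ⟨hxy1, hxz, hxw⟩
    have hsu : u.support = {x, y, z, w} := by
      symm
      apply Finset.eq_of_subset_of_card_le
      · intro t ht
        simp only [Finset.mem_insert, Finset.mem_singleton] at ht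
        rw [mem_support]
        rcases ht with rfl | rfl | rfl | rfl
        · exact hxu
        · rw [huy]; exact hxy1
        · rw [huz]; exact Ne.symm hzw
        · rw [huw]; exact hzw
      · rw [hcard, hu.2]
    have hsv : v.support = {x, y, z, w} := by
      symm
      apply Finset.eq_of_subset_of_card_le
      · intro t ht
        simp only [Finset.mem_insert, Finset.mem_singleton] at ht
        rw [mem_support]
        rcases ht with rfl | rfl | rfl | rfl
        · exact hxv
        · exact Ne.symm hyw
        · rw [hvz]; exact hxz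
        · rw [hvw]; exact hyw
      · rw [hcard, hv.2]
    have hs : (u * v).support = {x, y, z, w} := by
      apply Finset.Subset.antisymm
      · intro t ht
        by_contra hn
        have h1 : t ∉ u.support := by rw [hsu]; exact hn
        have h2 : t ∉ v.support := by rw [hsv]; exact hn
        rw [mem_support, Perm.mul_apply, notMem_support.1 h2, notMem_support.1 h1] at ht
        exact ht rfl
      · intro t ht
        simp only [Finset.mem_insert, Finset.mem_singleton] at ht
        rw [mem_support, Perm.mul_apply]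
        rcases ht with rfl | rfl | rfl | rfl
        · show u z ≠ t
          rw [huz]; exact Ne.symm hxw
        · show u w ≠ _
          rw [huw]; exact Ne.symm hyz
        · rw [hvz]; exact hyz
        · rw [hvw, huy]; exact hxw
    rw [hs, hcard]

/-- commuting distinct roots whose product is not a root are disjoint -/
theorem fix_of_not {u v : Perm Ω} (hu : IsRoot u) (hv : IsRoot v) (hc : u * v = v * u) (hne : u ≠ v)
    (hR : ¬ IsRoot (u * v)) {x : Ω} (hxu : u x ≠ x) : v x = x := by
  by_contra h
  exact hR (isRoot_mul hu hv hc hne hxu h)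

/-- the local conditions at a product of two disjoint roots -/
theorem local_pair {a d : Perm Ω} (ha : IsRoot a) (hd : IsRoot d) (hc : a * d = d * a) (hne : a ≠ d)
    (hR : ¬ IsRoot (a * d)) :
    ∃ b : Perm Ω, IsRoot b ∧ b * (a * d) = (a * d) * b ∧ ¬ IsRoot (b * (a * d)) ∧
      (∀ a', IsRoot a' → IsRoot (a' * (a * d)) → a' * a = a * a' → ¬ IsRoot (a' * a) → a' ≠ a → a' = d) ∧
      (∀ b', IsRoot b' → IsRoot (b' * (a * d)) → b' * b = b * b' → ¬ IsRoot (b * b') → b' ≠ b →
        IsRoot (b * (b' * (a * d)))) := by
  have aa := apply_apply ha.1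
  have dd := apply_apply hd.1
  have hfd : ∀ x, a x ≠ x → d x = x := fun x hx => fix_of_not ha hd hc hne hR hx
  have hfa : ∀ x, d x ≠ x → a x = x := fun x hx => by
    by_contra h; exact hx (hfd x h)
  have hcc : (a * d) * (a * d) = 1 := by
    rw [mul_assoc, ← mul_assoc d, ← hc, mul_assoc a d d, hd.1, mul_one, ha.1]
  -- `c = a * d` agrees with `a` resp. `d` on the supports
  have hca : ∀ x, a x ≠ x → (a * d) x = a x := fun x hx => by rw [Perm.mul_apply, hfd x hx]
  have hcd : ∀ x, d x ≠ x → (a * d) x = d x := fun x hx => by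
    rw [hc, Perm.mul_apply, hfa x hx]
  have hsub : ∀ x, (a * d) x ≠ x → a x ≠ x ∨ d x ≠ x := by
    intro x hx
    by_contra hcon
    push Not at hcon
    exact hx (by rw [Perm.mul_apply, hcon.2, hcon.1])
  -- a root `r` with `r * c` a root is the restriction of `c` to its support
  have key : ∀ r : Perm Ω, IsRoot r → IsRoot (r * (a * d)) →
      (∀ x, r x ≠ x → (a * d) x = r x) ∧ (∀ x, (a * d) x ≠ x → r x = x → (r * (a * d)) x ≠ x) := by
    intro r hr hrc
    have hcomm : r * (a * d) = (a * d) * r := by
      have h1 := hrc.1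
      have h2 : (r * (a * d))⁻¹ = r * (a * d) := inv_eq_of_mul_eq_one_left h1
      have h3 : r⁻¹ = r := inv_eq_of_mul_eq_one_left hr.1
      have h4 : (a * d)⁻¹ = a * d := inv_eq_of_mul_eq_one_left hcc
      rw [mul_inv_rev, h3, h4] at h2
      exact h2.symm
    have hprod : r * (r * (a * d)) = a * d := by rw [← mul_assoc, hr.1, one_mul]
    have hdis : ∀ x, r x ≠ x → (r * (a * d)) x = x := by
      intro x hx
      apply fix_of_not hr hrc _ _ _ hx
      · rw [hprod, mul_assoc, ← hcomm, hprod]
      · intro h
        have h1 : a * d = 1 := by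
          have := h.symm
          rwa [mul_eq_left] at this
        obtain ⟨x, hx⟩ : ∃ x, a x ≠ x := by
          by_contra hcon
          push Not at hcon
          have : a = 1 := Equiv.ext hcon
          have h2 := ha.2
          rw [this] at h2
          simp at h2
        have h3 := hca x hx
        rw [h1] at h3
        exact hx h3.symm
      · rw [hprod]; exact hR
    refine ⟨fun x hx => ?_, fun x hx hrx => ?_⟩
    · have h1 := hdis x hx
      rw [Perm.mul_apply] at h1
      rw [← apply_apply hr.1 ((a * d) x), h1]
    · rw [hcomm, Perm.mul_apply, hrx]; exact hx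
  -- choose `b` on the support of `a`
  obtain ⟨x, hx⟩ : ∃ x, a x ≠ x := by
    by_contra hcon
    push Not at hcon
    have : a = 1 := Equiv.ext hcon
    have h2 := ha.2
    rw [this] at h2
    simp at h2
  obtain ⟨z, hz, hzx, hzy⟩ : ∃ z, a z ≠ z ∧ z ≠ x ∧ z ≠ a x := by
    by_contra hcon
    push Not at hcon
    have h1 : a.support ⊆ {x, a x} := by
      intro t ht
      simp only [Finset.mem_insert, Finset.mem_singleton]
      by_cases h : t = x
      · left; exact h
      · right; exact hcon t (mem_support.1 ht) h
    have h2 := Finset.card_le_card h1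
    rw [ha.2] at h2
    have := Finset.card_le_two (a := x) (b := a x)
    omega
  set y := a x with hy
  set w := a z with hw
  have hay : a y = x := aa x
  have haw : a w = z := aa z
  have hxw : x ≠ w := fun h => hzy (by rw [hy, h, haw])
  have hyw : y ≠ w := fun h => hzx (a.injective (h.symm))
  have hyx : y ≠ x := hx
  have hwz : w ≠ z := hz
  have hsa : a.support = {x, y, z, w} := by
    symm
    apply Finset.eq_of_subset_of_card_le
    · intro t ht
      simp only [Finset.mem_insert, Finset.mem_singleton] at ht
      rw [mem_support]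
      rcases ht with rfl | rfl | rfl | rfl
      · exact hx
      · rw [hay]; exact Ne.symm hyx
      · exact hz
      · rw [haw]; exact Ne.symm hwz
    · rw [ha.2, Finset.card_insert_of_notMem, Finset.card_insert_of_notMem,
        Finset.card_insert_of_notMem, Finset.card_singleton]
      · rw [Finset.mem_singleton]; exact Ne.symm hwz
      · simp only [Finset.mem_insert, Finset.mem_singleton, not_or]
        exact ⟨Ne.symm hzy, hyw⟩
      · simp only [Finset.mem_insert, Finset.mem_singleton, not_or]
        exact ⟨Ne.symm hyx, Ne.symm hzx, hxw⟩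
  set b : Perm Ω := swap x z * swap y w with hb
  have bx : b x = z := by
    rw [hb, Perm.mul_apply, swap_apply_of_ne_of_ne (Ne.symm hyx) hxw, swap_apply_left]
  have bz : b z = x := by
    rw [hb, Perm.mul_apply, swap_apply_of_ne_of_ne hzy (Ne.symm hwz), swap_apply_right]
  have by' : b y = w := by
    rw [hb, Perm.mul_apply, swap_apply_left, swap_apply_of_ne_of_ne (Ne.symm hxw) hwz]
  have bw : b w = y := by
    rw [hb, Perm.mul_apply, swap_apply_right, swap_apply_of_ne_of_ne hyx (Ne.symm hzy)]
  have bfix : ∀ t, a t = t → b t = t := by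
    intro t ht
    have h1 : t ∉ a.support := by rw [mem_support]; exact fun h => h ht
    rw [hsa] at h1
    simp only [Finset.mem_insert, Finset.mem_singleton, not_or] at h1
    obtain ⟨h1, h2, h3, h4⟩ := h1
    rw [hb, Perm.mul_apply, swap_apply_of_ne_of_ne h2 h4, swap_apply_of_ne_of_ne h1 h3]
  clear_value b
  have hcase : ∀ t, a t ≠ t → t = x ∨ t = y ∨ t = z ∨ t = w := by
    intro t ht
    have h1 : t ∈ a.support := mem_support.2 ht
    rw [hsa] at h1
    simpa only [Finset.mem_insert, Finset.mem_singleton] using h1
  have bmove : ∀ t, a t ≠ t → b t ≠ t := by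
    intro t ht
    rcases hcase t ht with rfl | rfl | rfl | rfl
    · rw [bx]; exact hzx
    · rw [by']; exact Ne.symm hyw
    · rw [bz]; exact Ne.symm hzx
    · rw [bw]; exact hyw
  have hsb : b.support = a.support := by
    ext t
    rw [mem_support, mem_support]
    exact ⟨fun h h' => h (bfix t h'), fun h => bmove t h⟩
  have hbb : b * b = 1 := by
    ext t
    rw [Perm.mul_apply, Perm.one_apply]
    by_cases ht : a t = t
    · rw [bfix t ht, bfix t ht]
    · rcases hcase t ht with rfl | rfl | rfl | rfl
      · rw [bx, bz]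
      · rw [by', bw]
      · rw [bz, bx]
      · rw [bw, by']
  have hbroot : IsRoot b := ⟨hbb, by rw [hsb, ha.2]⟩
  have hba : b * a = a * b := by
    ext t
    rw [Perm.mul_apply, Perm.mul_apply]
    by_cases ht : a t = t
    · rw [ht, bfix t ht, ht]
    · rcases hcase t ht with rfl | rfl | rfl | rfl
      · rw [← hy, by', bx]
      · rw [hay, bx, by', haw]
      · rw [← hw, bw, bz]
      · rw [haw, bz, bw, hay]
  have hbd : b * d = d * b := by
    ext t
    rw [Perm.mul_apply, Perm.mul_apply]
    by_cases ht : a t = t
    · rw [bfix t ht]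
      have h1 : a (d t) = d t := by rw [comm_apply hc, ht]
      rw [bfix _ h1]
    · rw [hfd t ht]
      have h1 : a (b t) ≠ b t := by
        rw [← comm_apply hba]
        exact fun h => ht (b.injective h)
      rw [hfd _ h1]
  have hbc : b * (a * d) = (a * d) * b := by
    rw [← mul_assoc, hba, mul_assoc, hbd, mul_assoc]
  have hbcR : ¬ IsRoot (b * (a * d)) := by
    intro h
    have h1 : d.support ⊆ (b * (a * d)).support := by
      intro t ht
      rw [mem_support] at ht ⊢
      rw [Perm.mul_apply, hcd t ht]
      have h2 : a (d t) = d t := by rw [comm_apply hc, hfa t ht]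
      rw [bfix _ h2]; exact ht
    have h2 : d.support = (b * (a * d)).support :=
      Finset.eq_of_subset_of_card_le h1 (by rw [h.2, hd.2])
    have h3 : x ∈ (b * (a * d)).support := by
      rw [mem_support, Perm.mul_apply, hca x hx, ← hy, by']; exact Ne.symm hxw
    rw [← h2, mem_support] at h3
    exact h3 (hfd x hx)
  refine ⟨b, hbroot, hbc, hbcR, ?_, ?_⟩
  · -- first condition
    intro a' ha' ha'c hcomm hnR hne'
    obtain ⟨k1, -⟩ := key a' ha' ha'c
    have hdis : ∀ t, a' t ≠ t → a t = t := fun t ht => fix_of_not ha' ha hcomm hne' hnR ht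
    have hsub' : a'.support ⊆ d.support := by
      intro t ht
      rw [mem_support] at ht ⊢
      have h1 := k1 t ht
      rcases hsub t (by rw [h1]; exact ht) with h2 | h2
      · exact absurd (hdis t ht) h2
      · exact h2
    have hse : a'.support = d.support :=
      Finset.eq_of_subset_of_card_le hsub' (by rw [ha'.2, hd.2])
    ext t
    by_cases ht : a' t = t
    · have h1 : t ∉ d.support := by rw [← hse, mem_support]; exact fun h => h ht
      rw [ht, notMem_support.1 h1]
    · have h1 : t ∈ d.support := by rw [← hse, mem_support]; exact ht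
      rw [← k1 t ht, hcd t (mem_support.1 h1)]
  · intro b' hb' hb'c hcomm hnR hne'
    obtain ⟨k1, k2⟩ := key b' hb' hb'c
    have hdis : ∀ t, b t ≠ t → b' t = t := fun t ht =>
      fix_of_not hbroot hb' hcomm.symm (Ne.symm hne') hnR ht
    have hb'cc : b' * (a * d) = (a * d) * b' := by
      have h2 : (b' * (a * d))⁻¹ = b' * (a * d) := inv_eq_of_mul_eq_one_left hb'c.1
      have h3 : b'⁻¹ = b' := inv_eq_of_mul_eq_one_left hb'.1
      have h4 : (a * d)⁻¹ = a * d := inv_eq_of_mul_eq_one_left hcc
      rw [mul_inv_rev, h3, h4] at h2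
      exact h2.symm
    apply isRoot_mul (x := x) hbroot hb'c
    · calc b * (b' * (a * d)) = (b * b') * (a * d) := by rw [mul_assoc]
        _ = b' * (b * (a * d)) := by rw [← hcomm, mul_assoc]
        _ = b' * (a * d) * b := by rw [hbc, mul_assoc, mul_assoc, mul_assoc]
    · intro h
      apply hbcR
      rw [h, mul_assoc, hcc, mul_one]
      exact hb'
    · exact bmove x hx
    · apply k2 x
      · rw [hca x hx]; exact hx
      · exact hdis x (bmove x hx)

/-- an explicit root -/
theorem isRoot_swap_mul {x y z w : Ω} (hxy : x ≠ y) (hxz : x ≠ z) (hxw : x ≠ w) (hyz : y ≠ z)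
    (hyw : y ≠ w) (hzw : z ≠ w) : IsRoot (swap x y * swap z w) := by
  have hd : Disjoint (swap x y) (swap z w) := by
    intro t
    by_cases h1 : t = x
    · right; rw [h1]; exact swap_apply_of_ne_of_ne hxz hxw
    by_cases h2 : t = y
    · right; rw [h2]; exact swap_apply_of_ne_of_ne hyz hyw
    left; exact swap_apply_of_ne_of_ne h1 h2
  refine ⟨?_, ?_⟩
  · rw [mul_assoc, ← mul_assoc (swap z w), ← hd.commute.eq, mul_assoc (swap x y) (swap z w), swap_mul_self,
      mul_one, swap_mul_self]
  · rw [hd.card_support_mul, card_support_swap hxy, card_support_swap hzw]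

omit [Fintype Ω] in
/-- a permutation commutes with `swap (x) (y)` if it commutes with the pair -/
theorem swap_comm_of {σ : Perm Ω} {x y : Ω} (h : (σ x = x ∧ σ y = y) ∨ (σ x = y ∧ σ y = x)) :
    σ * swap x y = swap x y * σ := by
  rcases h with ⟨h1, h2⟩ | ⟨h1, h2⟩
  · have := swap_apply_apply σ x y
    rw [h1, h2] at this
    rw [eq_mul_inv_iff_mul_eq] at this
    exact this.symm
  · have := swap_apply_apply σ x y
    rw [h1, h2, swap_comm y x] at this
    rw [eq_mul_inv_iff_mul_eq] at this
    exact this.symm

theorem exists_notMem {n : ℕ} (s : Finset Ω) (hs : s.card ≤ n) (hn : n < Fintype.card Ω) : ∃ x, x ∉ s := by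
  by_contra hcon
  push Not at hcon
  have h1 : (Finset.univ : Finset Ω) ⊆ s := fun x _ => hcon x
  have h2 := Finset.card_le_card h1
  rw [Finset.card_univ] at h2
  omega

/-- two roots centralised by a nontrivial permutation of order two, not conjugate in its centraliser -/
theorem exists_two (h6 : 6 ≤ Fintype.card Ω) {σ : Perm Ω} (hσ : σ * σ = 1) (hne : σ ≠ 1) :
    ∃ a₁ a₂ : Perm Ω, IsRoot a₁ ∧ IsRoot a₂ ∧ σ * a₁ = a₁ * σ ∧ σ * a₂ = a₂ * σ ∧
      ∀ τ : Perm Ω, τ * σ = σ * τ → τ * a₁ * τ⁻¹ ≠ a₂ := by
  have ss := apply_apply hσ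
  -- it suffices to have supports of different size
  have key : ∀ a₁ a₂ : Perm Ω, (a₁ * σ).support.card < (a₂ * σ).support.card →
      ∀ τ : Perm Ω, τ * σ = σ * τ → τ * a₁ * τ⁻¹ ≠ a₂ := by
    intro a₁ a₂ hlt τ hτ h
    have h1 : τ * (a₁ * σ) * τ⁻¹ = a₂ * σ := by
      rw [← h]
      have h2 : τ⁻¹ * σ = σ * τ⁻¹ := by
        rw [inv_mul_eq_iff_eq_mul, ← mul_assoc, hτ, mul_inv_cancel_right]
      calc τ * (a₁ * σ) * τ⁻¹ = τ * a₁ * (σ * τ⁻¹) := by group
        _ = τ * a₁ * τ⁻¹ * σ := by rw [← h2]; group
    have h3 := Equiv.Perm.card_support_conj (σ := τ) (τ := a₁ * σ)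
    rw [h1] at h3
    omega
  obtain ⟨x, hx⟩ : ∃ x, σ x ≠ x := by
    by_contra hcon
    push Not at hcon
    exact hne (Equiv.ext hcon)
  set y := σ x with hy
  have hsy : σ y = x := ss x
  by_cases hz : ∃ z, z ≠ x ∧ z ≠ y ∧ σ z ≠ z
  · obtain ⟨z, hzx, hzy, hz⟩ := hz
    set w := σ z with hw
    have hsw : σ w = z := ss z
    have hwx : w ≠ x := fun h => hzy (by rw [hy, ← h, hsw])
    have hwy : w ≠ y := fun h => hzx (σ.injective h)
    have hr1 : IsRoot (swap x y * swap z w) :=
      isRoot_swap_mul (Ne.symm hx) (Ne.symm hzx) (Ne.symm hwx) (Ne.symm hzy) (Ne.symm hwy) (Ne.symm hz)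
    have hr2 : IsRoot (swap x z * swap y w) :=
      isRoot_swap_mul (Ne.symm hzx) (Ne.symm hx) (Ne.symm hwx) hzy (Ne.symm hz) (Ne.symm hwy)
    have hc1 : σ * (swap x y * swap z w) = (swap x y * swap z w) * σ := by
      rw [← mul_assoc, swap_comm_of (Or.inr ⟨hy.symm, hsy⟩), mul_assoc,
        swap_comm_of (Or.inr ⟨hw.symm, hsw⟩), mul_assoc]
    have hc2 : σ * (swap x z * swap y w) = (swap x z * swap y w) * σ := by
      have e1 : swap y w = σ * swap x z * σ⁻¹ := swap_apply_apply σ x z
      have e2 : swap x z = σ * swap y w * σ⁻¹ := by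
        have := swap_apply_apply σ y w
        rwa [hsy, hsw] at this
      have h1 : σ * (swap x z * swap y w) * σ⁻¹ = swap x z * swap y w := by
        calc σ * (swap x z * swap y w) * σ⁻¹ = (σ * swap x z * σ⁻¹) * (σ * swap y w * σ⁻¹) := by group
          _ = swap y w * swap x z := congrArg₂ (· * ·) e1.symm e2.symm
          _ = swap x z * swap y w := by
              have hd : Disjoint (swap x z) (swap y w) := by
                intro t
                by_cases h1 : t = x
                · right; rw [h1]; exact swap_apply_of_ne_of_ne (Ne.symm hx) (Ne.symm hwx)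
                by_cases h2 : t = z
                · right; rw [h2]; exact swap_apply_of_ne_of_ne hzy (Ne.symm hz)
                left; exact swap_apply_of_ne_of_ne h1 h2
              exact hd.commute.eq.symm
      exact mul_inv_eq_iff_eq_mul.1 h1
    refine ⟨_, _, hr1, hr2, hc1, hc2, key _ _ ?_⟩
    have hlt : ((swap x y * swap z w) * σ).support ⊂ σ.support := by
      rw [Finset.ssubset_iff_of_subset]
      · refine ⟨x, mem_support.2 hx, ?_⟩
        rw [notMem_support, Perm.mul_apply, ← hy, Perm.mul_apply,
          swap_apply_of_ne_of_ne (Ne.symm hzy) (Ne.symm hwy), swap_apply_right]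
      · intro t ht
        rw [mem_support] at ht ⊢
        intro h
        apply ht
        rw [Perm.mul_apply, h, Perm.mul_apply]
        have h1 : t ≠ x := by rintro rfl; exact hx h
        have h2 : t ≠ y := by intro h'; rw [h', hsy] at h; exact hx h.symm
        have h3 : t ≠ z := by rintro rfl; exact hz h
        have h4 : t ≠ w := by intro h'; rw [h', hsw] at h; exact hz h.symm
        rw [swap_apply_of_ne_of_ne h3 h4, swap_apply_of_ne_of_ne h1 h2]
    have hle : σ.support ⊆ ((swap x z * swap y w) * σ).support := by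
      intro t ht
      rw [mem_support] at ht ⊢
      rw [Perm.mul_apply, Perm.mul_apply]
      by_cases h1 : t = x
      · rw [h1, ← hy, swap_apply_left, swap_apply_of_ne_of_ne hwx hz]; exact hwx
      by_cases h2 : t = y
      · rw [h2, hsy, swap_apply_of_ne_of_ne (Ne.symm hx) (Ne.symm hwx), swap_apply_left]; exact hzy
      by_cases h3 : t = z
      · rw [h3, ← hw, swap_apply_right, swap_apply_of_ne_of_ne hx (Ne.symm hzy)]; exact Ne.symm hzy
      by_cases h4 : t = w
      · rw [h4, hsw, swap_apply_of_ne_of_ne hzy (Ne.symm hz), swap_apply_right]; exact Ne.symm hwx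
      have h5 : σ t ≠ x := fun h => h2 (by rw [hy, ← h, ss])
      have h6 : σ t ≠ y := fun h => h1 (σ.injective h)
      have h7 : σ t ≠ z := fun h => h4 (by rw [hw, ← h, ss])
      have h8 : σ t ≠ w := fun h => h3 (σ.injective h)
      rw [swap_apply_of_ne_of_ne h6 h8, swap_apply_of_ne_of_ne h5 h7]; exact ht
    exact lt_of_lt_of_le (Finset.card_lt_card hlt) (Finset.card_le_card hle)
  · push Not at hz
    -- `σ` is a transposition
    obtain ⟨z, hz0⟩ := exists_notMem (n := 5) ({x, y} : Finset Ω)
      ((Finset.card_le_two).trans (by omega)) (by omega)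
    obtain ⟨w, hw0⟩ := exists_notMem (n := 5) ({x, y, z} : Finset Ω)
      ((Finset.card_le_three).trans (by omega)) (by omega)
    obtain ⟨u, hu0⟩ := exists_notMem (n := 5) ({x, y, z, w} : Finset Ω)
      ((Finset.card_le_four).trans (by omega)) (by omega)
    obtain ⟨v, hv0⟩ := exists_notMem (n := 5) ({x, y, z, w, u} : Finset Ω)
      (Finset.card_le_five) (by omega)
    simp only [Finset.mem_insert, Finset.mem_singleton, not_or] at hz0 hw0 hu0 hv0
    obtain ⟨zx, zy⟩ := hz0
    obtain ⟨wx, wy, wz⟩ := hw0
    obtain ⟨ux, uy, uz, uw⟩ := hu0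
    obtain ⟨vx, vy, vz, vw, vu⟩ := hv0
    have sz := hz z zx zy
    have sw := hz w wx wy
    have su := hz u ux uy
    have sv := hz v vx vy
    have hxy : x ≠ y := Ne.symm hx
    have hr1 : IsRoot (swap x y * swap z w) :=
      isRoot_swap_mul hxy (Ne.symm zx) (Ne.symm wx) (Ne.symm zy) (Ne.symm wy) (Ne.symm wz)
    have hr2 : IsRoot (swap z w * swap u v) :=
      isRoot_swap_mul (Ne.symm wz) (Ne.symm uz) (Ne.symm vz) (Ne.symm uw) (Ne.symm vw) (Ne.symm vu)
    have hc1 : σ * (swap x y * swap z w) = (swap x y * swap z w) * σ := by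
      rw [← mul_assoc, swap_comm_of (Or.inr ⟨hy.symm, hsy⟩), mul_assoc,
        swap_comm_of (Or.inl ⟨sz, sw⟩), mul_assoc]
    have hc2 : σ * (swap z w * swap u v) = (swap z w * swap u v) * σ := by
      rw [← mul_assoc, swap_comm_of (Or.inl ⟨sz, sw⟩), mul_assoc,
        swap_comm_of (Or.inl ⟨su, sv⟩), mul_assoc]
    refine ⟨_, _, hr1, hr2, hc1, hc2, key _ _ ?_⟩
    have h1 : ((swap x y * swap z w) * σ).support ⊆ {z, w} := by
      intro t ht
      simp only [Finset.mem_insert, Finset.mem_singleton]
      by_contra hcon
      push Not at hcon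
      apply mem_support.1 ht
      rw [Perm.mul_apply, Perm.mul_apply]
      by_cases h1 : t = x
      · rw [h1, ← hy, swap_apply_of_ne_of_ne (Ne.symm zy) (Ne.symm wy), swap_apply_right]
      by_cases h2 : t = y
      · rw [h2, hsy, swap_apply_of_ne_of_ne (Ne.symm zx) (Ne.symm wx), swap_apply_left]
      rw [hz t h1 h2, swap_apply_of_ne_of_ne hcon.1 hcon.2, swap_apply_of_ne_of_ne h1 h2]
    have h2 : ({x, y, z} : Finset Ω) ⊆ ((swap z w * swap u v) * σ).support := by
      intro t ht
      simp only [Finset.mem_insert, Finset.mem_singleton] at ht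
      rw [mem_support, Perm.mul_apply, Perm.mul_apply]
      rcases ht with h | h | h
      · rw [h, ← hy, swap_apply_of_ne_of_ne (Ne.symm uy) (Ne.symm vy),
          swap_apply_of_ne_of_ne (Ne.symm zy) (Ne.symm wy)]; exact hx
      · rw [h, hsy, swap_apply_of_ne_of_ne (Ne.symm ux) (Ne.symm vx),
          swap_apply_of_ne_of_ne (Ne.symm zx) (Ne.symm wx)]; exact hxy
      · rw [h, sz, swap_apply_of_ne_of_ne (Ne.symm uz) (Ne.symm vz), swap_apply_left]; exact wz
    have h3 := Finset.card_le_card h1
    have h4 := Finset.card_le_card h2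
    have h5 : ({z, w} : Finset Ω).card ≤ 2 := Finset.card_le_two
    have h6 : ({x, y, z} : Finset Ω).card = 3 := by
      rw [Finset.card_eq_three]
      exact ⟨x, y, z, hxy, Ne.symm zx, Ne.symm zy, rfl⟩
    omega

theorem exists_root (h4 : 4 ≤ Fintype.card Ω) : ∃ a : Perm Ω, IsRoot a := by
  obtain ⟨x, -⟩ := exists_notMem (n := 3) (∅ : Finset Ω) (by simp) (by omega)
  obtain ⟨y, hy0⟩ := exists_notMem (n := 3) ({x} : Finset Ω) (by simp) (by omega)
  obtain ⟨z, hz0⟩ := exists_notMem (n := 3) ({x, y} : Finset Ω)
      ((Finset.card_le_two).trans (by omega)) (by omega)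
  obtain ⟨w, hw0⟩ := exists_notMem (n := 3) ({x, y, z} : Finset Ω) (Finset.card_le_three) (by omega)
  simp only [Finset.mem_insert, Finset.mem_singleton, not_or] at hy0 hz0 hw0
  obtain ⟨zx, zy⟩ := hz0
  obtain ⟨wx, wy, wz⟩ := hw0
  exact ⟨_, isRoot_swap_mul (Ne.symm hy0) (Ne.symm zx) (Ne.symm wx) (Ne.symm zy) (Ne.symm wy) (Ne.symm wz)⟩

theorem exists_comm (h6 : 6 ≤ Fintype.card Ω) {σ : Perm Ω} (hσ : σ * σ = 1) :
    ∃ a : Perm Ω, IsRoot a ∧ σ * a = a * σ := by
  by_cases h : σ = 1
  · obtain ⟨a, ha⟩ := exists_root (Ω := Ω) (by omega)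
    exact ⟨a, ha, by rw [h, one_mul, mul_one]⟩
  · obtain ⟨a, -, ha, -, hc, -⟩ := exists_two h6 hσ h
    exact ⟨a, ha, hc⟩

/-- two disjoint roots -/
theorem exists_pair (h8 : 8 ≤ Fintype.card Ω) :
    ∃ a d : Perm Ω, IsRoot a ∧ IsRoot d ∧ a * d = d * a ∧ a ≠ d ∧ ¬ IsRoot (a * d) := by
  obtain ⟨a, ha⟩ := exists_root (Ω := Ω) (by omega)
  have hcard : 4 ≤ (Finset.univ \ a.support).card := by
    rw [Finset.card_sdiff_of_subset (Finset.subset_univ _), Finset.card_univ, ha.2]; omega
  obtain ⟨t, hts, htc⟩ := Finset.exists_subset_card_eq hcard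
  obtain ⟨x, y, z, w, hxy, hxz, hxw, hyz, hyw, hzw, rfl⟩ := Finset.card_eq_four.1 htc
  have hfix : ∀ u ∈ ({x, y, z, w} : Finset Ω), a u = u := by
    intro u hu
    have := hts hu
    rw [Finset.mem_sdiff] at this
    exact notMem_support.1 this.2
  have hdr : IsRoot (swap x y * swap z w) := isRoot_swap_mul hxy hxz hxw hyz hyw hzw
  have hdis : Disjoint a (swap x y * swap z w) := by
    intro u
    by_cases hu : u ∈ ({x, y, z, w} : Finset Ω)
    · left; exact hfix u hu
    · right
      simp only [Finset.mem_insert, Finset.mem_singleton, not_or] at hu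
      rw [Perm.mul_apply, swap_apply_of_ne_of_ne hu.2.2.1 hu.2.2.2, swap_apply_of_ne_of_ne hu.1 hu.2.1]
  refine ⟨a, _, ha, hdr, hdis.commute.eq, ?_, ?_⟩
  · intro h
    have h1 : a x = x := hfix x (by simp)
    rw [h, Perm.mul_apply, swap_apply_of_ne_of_ne hxz hxw, swap_apply_left] at h1
    exact hxy h1.symm
  · intro h
    have h1 := hdis.card_support_mul
    rw [h.2, ha.2, hdr.2] at h1
    omega

/-- double transpositions are even -/
theorem IsRoot.mem_alternatingGroup {u : Perm Ω} (hu : IsRoot u) :
    u ∈ alternatingGroup Ω := by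
  rw [Equiv.Perm.mem_alternatingGroup]
  -- `u` is a product of two transpositions
  obtain ⟨x, hx⟩ : ∃ x, u x ≠ x := by
    by_contra hcon
    push Not at hcon
    have : u = 1 := Equiv.ext hcon
    have h2 := hu.2
    rw [this] at h2
    simp at h2
  obtain ⟨z, hz, hzx, hzy⟩ : ∃ z, u z ≠ z ∧ z ≠ x ∧ z ≠ u x := by
    by_contra hcon
    push Not at hcon
    have h1 : u.support ⊆ {x, u x} := by
      intro t ht
      simp only [Finset.mem_insert, Finset.mem_singleton]
      by_cases h : t = x
      · left; exact h
      · right; exact hcon t (mem_support.1 ht) h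
    have h2 := Finset.card_le_card h1
    rw [hu.2] at h2
    have := Finset.card_le_two (a := x) (b := u x)
    omega
  have uu := apply_apply hu.1
  have hxw : x ≠ u z := fun h => hzy (by rw [h, uu])
  have hyw : u x ≠ u z := fun h => hzx (u.injective h.symm)
  have hr := isRoot_swap_mul (x := x) (y := u x) (z := z) (w := u z) (Ne.symm hx) (Ne.symm hzx) hxw
    (Ne.symm hzy) hyw (Ne.symm hz)
  have e : u = swap x (u x) * swap z (u z) := by
    set v := swap x (u x) * swap z (u z) with hv
    have v1 : v x = u x := by
      rw [hv, Perm.mul_apply, swap_apply_of_ne_of_ne (Ne.symm hzx) hxw, swap_apply_left]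
    have v2 : v (u x) = x := by
      rw [hv, Perm.mul_apply, swap_apply_of_ne_of_ne (Ne.symm hzy) hyw, swap_apply_right]
    have v3 : v z = u z := by
      rw [hv, Perm.mul_apply, swap_apply_left, swap_apply_of_ne_of_ne (Ne.symm hxw) (Ne.symm hyw)]
    have v4 : v (u z) = z := by
      rw [hv, Perm.mul_apply, swap_apply_right, swap_apply_of_ne_of_ne hzx hzy]
    have hag : ∀ t ∈ ({x, u x, z, u z} : Finset Ω), v t = u t := by
      intro t ht
      simp only [Finset.mem_insert, Finset.mem_singleton] at ht
      rcases ht with h | h | h | h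
      · rw [h, v1]
      · rw [h, v2, uu]
      · rw [h, v3]
      · rw [h, v4, uu]
    have hcard : ({x, u x, z, u z} : Finset Ω).card = 4 := by
      rw [Finset.card_insert_of_notMem, Finset.card_insert_of_notMem,
        Finset.card_insert_of_notMem, Finset.card_singleton]
      · rw [Finset.mem_singleton]; exact Ne.symm hz
      · simp only [Finset.mem_insert, Finset.mem_singleton, not_or]
        exact ⟨Ne.symm hzy, hyw⟩
      · simp only [Finset.mem_insert, Finset.mem_singleton, not_or]
        exact ⟨Ne.symm hx, Ne.symm hzx, hxw⟩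
    have hmov : ∀ t ∈ ({x, u x, z, u z} : Finset Ω), u t ≠ t := by
      intro t ht
      simp only [Finset.mem_insert, Finset.mem_singleton] at ht
      rcases ht with h | h | h | h
      · rw [h]; exact hx
      · rw [h, uu]; exact Ne.symm hx
      · rw [h]; exact hz
      · rw [h, uu]; exact Ne.symm hz
    have hsu : ({x, u x, z, u z} : Finset Ω) = u.support :=
      Finset.eq_of_subset_of_card_le (fun t ht => mem_support.2 (hmov t ht)) (by rw [hcard, hu.2])
    have hsv : ({x, u x, z, u z} : Finset Ω) = v.support :=
      Finset.eq_of_subset_of_card_le (fun t ht => mem_support.2 (by rw [hag t ht]; exact hmov t ht))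
        (by rw [hcard, hr.2])
    ext t
    by_cases ht : t ∈ ({x, u x, z, u z} : Finset Ω)
    · rw [hag t ht]
    · have h1 : t ∉ u.support := by rwa [← hsu]
      have h2 : t ∉ v.support := by rwa [← hsv]
      rw [notMem_support.1 h1, notMem_support.1 h2]
  rw [e, Perm.sign_mul, sign_swap (Ne.symm hx), sign_swap (Ne.symm hz)]
  rfl

theorem IsRoot.cycleType {u : Perm Ω} (hu : IsRoot u) :
    u.cycleType = Multiset.replicate 2 2 := by
  have h1 : ∀ n ∈ u.cycleType, n = 2 := by
    intro n hn
    have h2 : 2 ≤ n := two_le_of_mem_cycleType hn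
    have h3 : n ∣ 2 := (dvd_of_mem_cycleType hn).trans
      (orderOf_dvd_of_pow_eq_one (by rw [pow_two]; exact hu.1))
    have h4 := Nat.le_of_dvd (by norm_num) h3
    omega
  have h2 := Multiset.eq_replicate_of_mem h1
  have h3 := sum_cycleType u
  rw [hu.2, h2, Multiset.sum_replicate, smul_eq_mul] at h3
  rw [h2, show Multiset.card u.cycleType = 2 by omega]

end Cfsg.Agent.StdAlt.Roots
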