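import Mathlib
import Cfsg.Agent.StdAlt.Roots
import Cfsg.Agent.StandardComponent.AltAut

/-!
# A closing theorem for alternating subgroups

`normal_of_roots`: let `X` be a finite group, `B ≤ X` isomorphic to an alternating group of degree at least
eight; if `u ^ x ∈ N(B)` implies `x ∈ N(B)` for the double transpositions `u` of `B`, then `B` is normal in `X`.
-/

set_option autoImplicit false

namespace Cfsg.Agent.StdAlt.Closing

open Equiv Equiv.Perm Subgroup
open Cfsg.Agent.StdAlt.Roots Cfsg.Agent.StdAlt.Dihedral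

section general

variable {X : Type*} [Group X] {Ω : Type*} [Fintype Ω] [DecidableEq Ω]

/-- the centraliser of the alternating group in the symmetric group is trivial -/
theorem eq_one_of_centralizes (h5 : 5 ≤ Fintype.card Ω) {σ : Perm Ω}
    (h : ∀ x : Perm Ω, IsRoot x → σ * x = x * σ) : σ = 1 := by
  by_contra hne
  obtain ⟨x, hx⟩ : ∃ x, σ x ≠ x := by
    by_contra hcon
    push Not at hcon
    exact hne (Equiv.ext hcon)
  obtain ⟨z, hz0⟩ := exists_notMem (n := 4) ({x, σ x} : Finset Ω)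
      ((Finset.card_le_two).trans (by omega)) (by omega)
  obtain ⟨w, hw0⟩ := exists_notMem (n := 4) ({x, σ x, z} : Finset Ω)
      ((Finset.card_le_three).trans (by omega)) (by omega)
  obtain ⟨v, hv0⟩ := exists_notMem (n := 4) ({x, σ x, z, w} : Finset Ω) (Finset.card_le_four) (by omega)
  simp only [Finset.mem_insert, Finset.mem_singleton, not_or] at hz0 hw0 hv0
  obtain ⟨zx, zy⟩ := hz0
  obtain ⟨wx, wy, wz⟩ := hw0
  obtain ⟨vx, vy, vz, vw⟩ := hv0
  have hr : IsRoot (swap x z * swap w v) :=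
    isRoot_swap_mul (Ne.symm zx) (Ne.symm wx) (Ne.symm vx) (Ne.symm wz) (Ne.symm vz) (Ne.symm vw)
  have h1 := comm_apply (h _ hr) z
  rw [Perm.mul_apply, Perm.mul_apply, swap_apply_of_ne_of_ne (Ne.symm wz) (Ne.symm vz),
    swap_apply_right] at h1
  -- `σ x` would be `r (σ z)`, so `σ z = r (σ x) = σ x`
  have h2 : (swap x z * swap w v) (σ x) = σ x := by
    rw [Perm.mul_apply, swap_apply_of_ne_of_ne (Ne.symm wy) (Ne.symm vy),
      swap_apply_of_ne_of_ne hx (Ne.symm zy)]
  have h3 := apply_apply hr.1 (σ z)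
  have h4 : (swap x z * swap w v) (σ z) = σ x := h1.symm
  rw [h4, h2] at h3
  exact zx (σ.injective h3.symm)

/-- **Closing theorem.** -/
theorem eq_top_of_roots [Finite X] {B Y : Subgroup X} (h8 : 8 ≤ Fintype.card Ω)
    (e : alternatingGroup Ω ≃* B) (hBY : B ≤ Y)
    (φ : Y →* Perm Ω)
    (hφ : ∀ (y : Y) (a a' : alternatingGroup Ω), (a' : Perm Ω) = φ y * a * (φ y)⁻¹ →
      (y : X) * e a * (y : X)⁻¹ = e a')
    (hfus : ∀ a : alternatingGroup Ω, IsRoot (a : Perm Ω) → ∀ x : X, x * e a * x⁻¹ ∈ Y → x ∈ Y) :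
    Y = ⊤ := by
  classical
  set R : Set X := {r | ∃ a : alternatingGroup Ω, IsRoot (a : Perm Ω) ∧ ((e a : B) : X) = r} with hR
  have einj : ∀ {a b : alternatingGroup Ω}, ((e a : B) : X) = e b → a = b := fun h =>
    e.injective (Subtype.ext h)
  have emul : ∀ (a b : alternatingGroup Ω), ((e (a * b) : B) : X) = e a * e b := fun a b => by
    rw [map_mul]; rfl
  have memR : ∀ {a : alternatingGroup Ω}, ((e a : B) : X) ∈ R ↔ IsRoot (a : Perm Ω) := by
    intro a
    constructor
    · rintro ⟨b, hb, hab⟩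
      rwa [← einj hab]
    · intro h; exact ⟨a, h, rfl⟩
  -- an element of `Y` centralising `B` has trivial image
  have hker : ∀ y : Y, (∀ b ∈ B, (y : X) * b = b * y) → φ y = 1 := by
    intro y hy
    apply eq_one_of_centralizes (by omega)
    intro x hx
    set a : alternatingGroup Ω := ⟨x, hx.mem_alternatingGroup⟩ with ha
    set a' : alternatingGroup Ω := ⟨φ y * x * (φ y)⁻¹, (hx.conj _).mem_alternatingGroup⟩ with ha'
    have h1 := hφ y a a' rfl
    rw [hy _ (e a).2, mul_inv_cancel_right] at h1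
    have h2 := congrArg (fun t : alternatingGroup Ω => (t : Perm Ω)) (einj h1)
    simp only [ha, ha'] at h2
    rw [eq_mul_inv_iff_mul_eq] at h2
    exact h2.symm
  have hF : Fus B Y R := by
    refine ⟨?_, hBY, ?_, ?_, ?_⟩
    · rintro r ⟨a, -, rfl⟩; exact (e a).2
    · rintro r ⟨a, ha, rfl⟩
      rw [← emul]
      have : a * a = 1 := Subtype.ext ha.1
      rw [this, map_one]; rfl
    · rintro y hy r ⟨a, ha, rfl⟩
      set a' : alternatingGroup Ω := ⟨φ ⟨y, hy⟩ * a * (φ ⟨y, hy⟩)⁻¹, (ha.conj _).mem_alternatingGroup⟩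
      exact ⟨a', ha.conj _, (hφ ⟨y, hy⟩ a a' rfl).symm⟩
    · rintro r ⟨a, ha, rfl⟩ x hx
      exact hfus a ha x hx
  have hC : Comb (B : Set X) R := by
    refine ⟨?_, ?_⟩
    · obtain ⟨a, d, ha, hd, hc, hne, hnR⟩ := exists_pair h8
      set a' : alternatingGroup Ω := ⟨a, ha.mem_alternatingGroup⟩ with ha'
      set d' : alternatingGroup Ω := ⟨d, hd.mem_alternatingGroup⟩ with hd'
      refine ⟨e a', ⟨a', ha, rfl⟩, e d', ⟨d', hd, rfl⟩, ?_, ?_, ?_⟩
      · rw [← emul, ← emul]
        congr 2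
        exact Subtype.ext hc
      · intro h
        exact hne (congrArg Subtype.val (einj h))
      · rw [← emul, memR]; exact hnR
    · rintro _ ⟨a, ha, rfl⟩ _ ⟨d, hd, rfl⟩ hc hne hnR
      rw [← emul, ← emul] at hc
      rw [← emul, memR] at hnR
      obtain ⟨b, hb, hbc, hbR, h1, h2⟩ := local_pair ha hd (congrArg Subtype.val (einj hc))
        (fun h => hne (by rw [Subtype.ext h])) hnR
      set b' : alternatingGroup Ω := ⟨b, hb.mem_alternatingGroup⟩ with hb'
      refine ⟨e b', ⟨b', hb, rfl⟩, ?_, ?_, ?_, ?_⟩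
      · rw [← emul, ← emul, ← emul]
        congr 2
        exact Subtype.ext hbc
      · rw [← emul, ← emul, memR]; exact hbR
      · rintro _ ⟨x, hx, rfl⟩ k1 k2 k3 k4
        rw [← emul, ← emul, memR] at k1
        rw [← emul, ← emul] at k2
        rw [← emul, memR] at k3
        have := h1 x hx k1 (congrArg Subtype.val (einj k2)) k3 (fun h => k4 (by rw [Subtype.ext h]))
        rw [Subtype.ext this]
      · rintro _ ⟨x, hx, rfl⟩ k1 k2 k3 k4
        rw [← emul, ← emul, memR] at k1
        rw [← emul, ← emul] at k2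
        rw [← emul, memR] at k3
        have := h2 x hx k1 (congrArg Subtype.val (einj k2)) k3
          (fun h => k4 (by rw [show x = b' from Subtype.ext h]))
        rw [← emul, ← emul, ← emul, memR]
        exact this
  -- images of commuting elements commute, images of involutions are involutions
  have hone : ∀ y : Y, (y : X) * y = 1 → φ y * φ y = 1 := by
    intro y hy
    have : y * y = 1 := Subtype.ext hy
    rw [← map_mul, this, map_one]
  have hconj : ∀ (y : Y) (a : alternatingGroup Ω), φ y * a = a * φ y → (y : X) * e a = e a * y := by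
    intro y a h
    have h1 := hφ y a a (by rw [h, mul_inv_cancel_right])
    rw [mul_inv_eq_iff_eq_mul] at h1
    exact h1
  have hI : Fus.InvCond B Y R := by
    refine ⟨?_, ?_⟩
    · intro h hY hh
      obtain ⟨a, ha, hc⟩ := exists_comm (by omega) (hone ⟨h, hY⟩ hh)
      refine ⟨e ⟨a, ha.mem_alternatingGroup⟩, ⟨_, ha, rfl⟩, hconj ⟨h, hY⟩ _ hc⟩
    · intro h hY hh
      by_cases h1 : φ ⟨h, hY⟩ = 1
      · left
        intro b hb
        obtain ⟨a, ha⟩ := e.surjective ⟨b, hb⟩
        have := hconj ⟨h, hY⟩ a (by rw [h1, one_mul, mul_one])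
        rw [ha] at this
        exact this
      · right
        obtain ⟨a₁, a₂, ha₁, ha₂, hc₁, hc₂, hτ⟩ := exists_two (by omega) (hone ⟨h, hY⟩ hh) h1
        refine ⟨e ⟨a₁, ha₁.mem_alternatingGroup⟩, ⟨_, ha₁, rfl⟩, e ⟨a₂, ha₂.mem_alternatingGroup⟩,
          ⟨_, ha₂, rfl⟩, hconj ⟨h, hY⟩ _ hc₁, hconj ⟨h, hY⟩ _ hc₂, ?_⟩
        intro y hy hyh heq
        set y' : Y := ⟨y, hy⟩
        set h' : Y := ⟨h, hY⟩
        have hcm : y' * h' = h' * y' := Subtype.ext hyh
        apply hτ (φ y') (by rw [← map_mul, hcm, map_mul])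
        set a' : alternatingGroup Ω := ⟨φ y' * a₁ * (φ y')⁻¹, (ha₁.conj _).mem_alternatingGroup⟩ with ha'
        have h2 := hφ y' ⟨a₁, ha₁.mem_alternatingGroup⟩ a' rfl
        rw [h2] at heq
        exact congrArg Subtype.val (einj heq)
  refine hF.eq_top hC hI ?_
  intro z hz hcz
  have h1 := hker ⟨z, hBY hz⟩ hcz
  -- `z = e a` with `a` central
  obtain ⟨a, ha⟩ := e.surjective ⟨z, hz⟩
  have hza : ((e a : B) : X) = z := by rw [ha]
  have h2 : (a : Perm Ω) = 1 := by
    apply eq_one_of_centralizes (by omega)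
    intro x hx
    have h3 := hcz _ (e ⟨x, hx.mem_alternatingGroup⟩).2
    rw [← hza, ← emul, ← emul] at h3
    exact congrArg Subtype.val (einj h3)
  rw [← hza, show a = 1 from Subtype.ext h2, map_one]; rfl

/-- all roots are conjugate in the alternating group -/
theorem isConj_roots (h6 : 6 ≤ Fintype.card Ω) {a b : alternatingGroup Ω} (ha : IsRoot (a : Perm Ω))
    (hb : IsRoot (b : Perm Ω)) : ∃ c : alternatingGroup Ω, c * a * c⁻¹ = b := by
  rw [← isConj_iff]
  apply alternatingGroup.isConj_of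
  · rw [isConj_iff_cycleType_eq, ha.cycleType, hb.cycleType]
  · rw [ha.2]; omega

/-- a permutation of order at most two commutes with the four-group on some four points -/
theorem exists_four (h6 : 6 ≤ Fintype.card Ω) {σ : Perm Ω} (hσ : σ * σ = 1) :
    ∃ x y z w : Ω, x ≠ y ∧ x ≠ z ∧ x ≠ w ∧ y ≠ z ∧ y ≠ w ∧ z ≠ w ∧
      σ * (swap x y * swap z w) = (swap x y * swap z w) * σ ∧
      σ * (swap x z * swap y w) = (swap x z * swap y w) * σ := by
  have ss := apply_apply hσ
  have comm4 : ∀ x y z w : Ω, x ≠ y → x ≠ z → x ≠ w → y ≠ z → y ≠ w → z ≠ w →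
      ((σ x = x ∧ σ y = y ∧ σ z = z ∧ σ w = w) ∨ (σ x = y ∧ σ y = x ∧ σ z = w ∧ σ w = z)) →
      σ * (swap x y * swap z w) = (swap x y * swap z w) * σ ∧
      σ * (swap x z * swap y w) = (swap x z * swap y w) * σ := by
    intro x y z w hxy hxz hxw hyz hyw hzw h
    have hd : Disjoint (swap x z) (swap y w) := by
      intro t
      by_cases h1 : t = x
      · right; rw [h1]; exact swap_apply_of_ne_of_ne hxy hxw
      by_cases h2 : t = z
      · right; rw [h2]; exact swap_apply_of_ne_of_ne (Ne.symm hyz) hzw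
      left; exact swap_apply_of_ne_of_ne h1 h2
    rcases h with ⟨h1, h2, h3, h4⟩ | ⟨h1, h2, h3, h4⟩
    · refine ⟨?_, ?_⟩
      · rw [← mul_assoc, swap_comm_of (Or.inl ⟨h1, h2⟩), mul_assoc, swap_comm_of (Or.inl ⟨h3, h4⟩), mul_assoc]
      · rw [← mul_assoc, swap_comm_of (Or.inl ⟨h1, h3⟩), mul_assoc, swap_comm_of (Or.inl ⟨h2, h4⟩), mul_assoc]
    · refine ⟨?_, ?_⟩
      · rw [← mul_assoc, swap_comm_of (Or.inr ⟨h1, h2⟩), mul_assoc, swap_comm_of (Or.inr ⟨h3, h4⟩), mul_assoc]
      · have e1 := swap_apply_apply σ x z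
        have e2 := swap_apply_apply σ y w
        rw [h1, h3] at e1
        rw [h2, h4] at e2
        have h5 : σ * (swap x z * swap y w) * σ⁻¹ = swap x z * swap y w := by
          calc σ * (swap x z * swap y w) * σ⁻¹ = (σ * swap x z * σ⁻¹) * (σ * swap y w * σ⁻¹) := by group
            _ = swap y w * swap x z := congrArg₂ (· * ·) e1.symm e2.symm
            _ = swap x z * swap y w := hd.commute.eq.symm
        exact mul_inv_eq_iff_eq_mul.1 h5
  by_cases hcard : 4 ≤ (Finset.univ \ σ.support).card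
  · obtain ⟨t, hts, htc⟩ := Finset.exists_subset_card_eq hcard
    obtain ⟨x, y, z, w, hxy, hxz, hxw, hyz, hyw, hzw, rfl⟩ := Finset.card_eq_four.1 htc
    have hfix : ∀ u ∈ ({x, y, z, w} : Finset Ω), σ u = u := by
      intro u hu
      have := hts hu
      rw [Finset.mem_sdiff] at this
      exact notMem_support.1 this.2
    refine ⟨x, y, z, w, hxy, hxz, hxw, hyz, hyw, hzw, ?_⟩
    apply comm4 x y z w hxy hxz hxw hyz hyw hzw
    left
    exact ⟨hfix x (by simp), hfix y (by simp), hfix z (by simp), hfix w (by simp)⟩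
  · have h3 : 3 ≤ σ.support.card := by
      rw [Finset.card_sdiff_of_subset (Finset.subset_univ _), Finset.card_univ] at hcard
      omega
    obtain ⟨x, hx⟩ : ∃ x, σ x ≠ x := by
      by_contra hcon
      push Not at hcon
      have : σ = 1 := Equiv.ext hcon
      rw [this] at h3
      simp at h3
    obtain ⟨z, hz, hzx, hzy⟩ : ∃ z, σ z ≠ z ∧ z ≠ x ∧ z ≠ σ x := by
      by_contra hcon
      push Not at hcon
      have h1 : σ.support ⊆ {x, σ x} := by
        intro t ht
        simp only [Finset.mem_insert, Finset.mem_singleton]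
        by_cases h : t = x
        · left; exact h
        · right; exact hcon t (mem_support.1 ht) h
      have h2 := Finset.card_le_card h1
      have := Finset.card_le_two (a := x) (b := σ x)
      omega
    have hxw : x ≠ σ z := fun h => hzy (by rw [h, ss])
    have hyw : σ x ≠ σ z := fun h => hzx (σ.injective h.symm)
    refine ⟨x, σ x, z, σ z, Ne.symm hx, Ne.symm hzx, hxw, Ne.symm hzy, hyw, Ne.symm hz, ?_⟩
    apply comm4 _ _ _ _ (Ne.symm hx) (Ne.symm hzx) hxw (Ne.symm hzy) hyw (Ne.symm hz)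
    right
    exact ⟨rfl, ss x, rfl, ss z⟩

end general

section aut

/-- automorphisms of the alternating group of degree at least seven are induced by permutations -/
theorem exists_autHom (Ω : Type*) [Fintype Ω] [DecidableEq Ω] (h7 : 7 ≤ Fintype.card Ω) :
    ∃ ψ : MulAut (alternatingGroup Ω) →* Perm Ω, ∀ (f : MulAut (alternatingGroup Ω))
      (x : alternatingGroup Ω), ((f x : alternatingGroup Ω) : Perm Ω) = ψ f * x * (ψ f)⁻¹ := by
  obtain ⟨ψ, hψ⟩ := Cfsg.Agent.StandardComponent.AltAut.exists_autHom (Fintype.card Ω) h7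
  let ε := Fintype.equivFin Ω
  let A : alternatingGroup Ω ≃* alternatingGroup (Fin (Fintype.card Ω)) := Equiv.altCongrHom ε
  have hA : ∀ x : alternatingGroup Ω, (A x : Perm (Fin (Fintype.card Ω))) = ε.permCongrHom x := fun x => rfl
  let C : MulAut (alternatingGroup Ω) →* MulAut (alternatingGroup (Fin (Fintype.card Ω))) :=
    { toFun := fun f => (A.symm.trans f).trans A
      map_one' := by ext x : 1; simp
      map_mul' := fun f g => by
        ext x : 1
        simp [MulEquiv.trans_apply] }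
  refine ⟨(ε.permCongrHom.symm.toMonoidHom.comp ψ).comp C, fun f x => ?_⟩
  have h1 := hψ (C f) (A x)
  have h2 : C f (A x) = A (f x) := by
    show A (f (A.symm (A x))) = A (f x)
    rw [MulEquiv.symm_apply_apply]
  rw [h2, hA, hA] at h1
  apply ε.permCongrHom.injective
  rw [h1, map_mul, map_mul, map_inv]
  have h3 : ε.permCongrHom (((ε.permCongrHom.symm.toMonoidHom.comp ψ).comp C) f) = ψ (C f) :=
    ε.permCongrHom.apply_symm_apply (ψ (C f))
  rw [h3]

variable {X : Type*} [Group X] {Ω : Type*} [Fintype Ω] [DecidableEq Ω]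

theorem exists_phi (h7 : 7 ≤ Fintype.card Ω) {B : Subgroup X} (e : alternatingGroup Ω ≃* B) :
    ∃ φ : ↥(normalizer (B : Set X)) →* Perm Ω, ∀ (y : ↥(normalizer (B : Set X)))
      (a a' : alternatingGroup Ω), (a' : Perm Ω) = φ y * a * (φ y)⁻¹ →
      (y : X) * e a * (y : X)⁻¹ = e a' := by
  obtain ⟨ψ, hψ⟩ := exists_autHom Ω h7
  let C : ↥(normalizer (B : Set X)) →* MulAut (alternatingGroup Ω) :=
    { toFun := fun y => (e.trans (B.normalizerMonoidHom y)).trans e.symm
      map_one' := by ext x : 1; simp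
      map_mul' := fun f g => by
        ext x : 1
        simp [MulEquiv.trans_apply] }
  refine ⟨ψ.comp C, fun y a a' h => ?_⟩
  have h1 : C y a = a' := by
    apply Subtype.ext
    rw [hψ, h]; rfl
  have h2 : e (C y a) = B.normalizerMonoidHom y (e a) := by
    show e (e.symm _) = _
    rw [MulEquiv.apply_symm_apply]
    rfl
  rw [← h1, h2]
  rfl

/-- **Closing theorem**: `B` alternating of degree at least eight; fusion of the double transpositions
controlled by `N(B)`. -/
theorem normal_of_roots [Finite X] (h8 : 8 ≤ Fintype.card Ω) {B : Subgroup X}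
    (e : alternatingGroup Ω ≃* B)
    (hfus : ∀ a : alternatingGroup Ω, IsRoot (a : Perm Ω) → ∀ x : X,
      x * e a * x⁻¹ ∈ normalizer (B : Set X) → x ∈ normalizer (B : Set X)) : B.Normal := by
  obtain ⟨φ, hφ⟩ := exists_phi (by omega) e
  have := eq_top_of_roots h8 e le_normalizer φ hφ hfus
  rwa [normalizer_eq_top_iff] at this

/-- **Closing theorem, tightly embedded form.**  `L ≤ X` is alternating of degree at least eight, `K` a subgroup
containing a double transposition of `L`, tightly embedded (in the form `hTI`), with `N(K) ≤ N(L)`, such that each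
conjugate of `K` normalised by the four-group on four points contains a double transposition of `L`. Then `L` is
normal in `X`. -/
theorem normal_of_tight [Finite X] (h8 : 8 ≤ Fintype.card Ω) {L K : Subgroup X}
    (e : alternatingGroup Ω ≃* L) {a₀ : alternatingGroup Ω} (ha₀ : IsRoot (a₀ : Perm Ω))
    (ha₀K : ((e a₀ : L) : X) ∈ K)
    (hTI : ∀ x : X, ∀ t ∈ K, t * t = 1 → t ≠ 1 → x * t * x⁻¹ ∈ K → x ∈ normalizer (K : Set X))
    (hKL : normalizer (K : Set X) ≤ normalizer (L : Set X))
    (hfour : ∀ g : X, ∀ x y z w : Ω, x ≠ y → x ≠ z → x ≠ w → y ≠ z → y ≠ w → z ≠ w →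
      ∀ a₁ a₂ : alternatingGroup Ω, (a₁ : Perm Ω) = swap x y * swap z w →
      (a₂ : Perm Ω) = swap x z * swap y w →
      g⁻¹ * e a₁ * g ∈ normalizer (K : Set X) → g⁻¹ * e a₂ * g ∈ normalizer (K : Set X) →
      ∃ a' : alternatingGroup Ω, IsRoot (a' : Perm Ω) ∧ g⁻¹ * e a' * g ∈ K) : L.Normal := by
  apply normal_of_roots h8 e
  have emul : ∀ (a b : alternatingGroup Ω), ((e (a * b) : L) : X) = e a * e b := fun a b => by
    rw [map_mul]; rfl
  have einv : ∀ (a : alternatingGroup Ω), ((e a⁻¹ : L) : X) = (e a : X)⁻¹ := fun a => by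
    rw [map_inv]; rfl
  have esq : ∀ {a : alternatingGroup Ω}, IsRoot (a : Perm Ω) → ((e a : L) : X) * e a = 1 := by
    intro a ha
    rw [← emul, show a * a = 1 from Subtype.ext ha.1, map_one]; rfl
  have ene : ∀ {a : alternatingGroup Ω}, IsRoot (a : Perm Ω) → ((e a : L) : X) ≠ 1 := by
    intro a ha h
    have h1 : e a = 1 := Subtype.ext h
    have h2 : a = 1 := by
      apply e.injective; rw [h1, map_one]
    have h3 := ha.2
    rw [h2] at h3
    simp at h3
  obtain ⟨φ, hφ⟩ := exists_phi (by omega) e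
  -- it suffices to treat `a₀`
  have key : ∀ x : X, x * e a₀ * x⁻¹ ∈ normalizer (L : Set X) → x ∈ normalizer (L : Set X) := by
    intro x hx
    set y : ↥(normalizer (L : Set X)) := ⟨_, hx⟩ with hy
    have hyy : y * y = 1 := by
      apply Subtype.ext
      show x * e a₀ * x⁻¹ * (x * e a₀ * x⁻¹) = 1
      rw [show x * (e a₀ : X) * x⁻¹ * (x * e a₀ * x⁻¹) = x * (e a₀ * e a₀) * x⁻¹ by group, esq ha₀]
      group
    have hσ : φ y * φ y = 1 := by rw [← map_mul, hyy, map_one]
    obtain ⟨p, q, r, s, hpq, hpr, hps, hqr, hqs, hrs, hc1, hc2⟩ := exists_four (by omega) hσ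
    have hr1 := isRoot_swap_mul hpq hpr hps hqr hqs hrs
    have hr2 := isRoot_swap_mul hpr hpq hps (Ne.symm hqr) hrs hqs
    set a₁ : alternatingGroup Ω := ⟨_, hr1.mem_alternatingGroup⟩ with ha₁
    set a₂ : alternatingGroup Ω := ⟨_, hr2.mem_alternatingGroup⟩ with ha₂
    -- they commute with `y`, hence lie in the normaliser of the conjugate of `K`
    have hN : ∀ a : alternatingGroup Ω, φ y * a = a * φ y → x⁻¹ * e a * x ∈ normalizer (K : Set X) := by
      intro a ha
      have h1 := hφ y a a (by rw [ha, mul_inv_cancel_right])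
      rw [mul_inv_eq_iff_eq_mul] at h1
      apply hTI _ _ ha₀K (esq ha₀) (ene ha₀)
      have h2 : x⁻¹ * (e a : X) * x * e a₀ * (x⁻¹ * e a * x)⁻¹ = e a₀ := by
        have h3 : (e a : X) * (x * e a₀ * x⁻¹) * (e a : X)⁻¹ = x * e a₀ * x⁻¹ := by
          rw [mul_inv_eq_iff_eq_mul]; exact h1.symm
        calc x⁻¹ * (e a : X) * x * e a₀ * (x⁻¹ * e a * x)⁻¹
            = x⁻¹ * ((e a : X) * (x * e a₀ * x⁻¹) * (e a : X)⁻¹) * x := by group
          _ = e a₀ := by rw [h3]; group
      rw [h2]; exact ha₀K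
    obtain ⟨a', ha', hK'⟩ := hfour x p q r s hpq hpr hps hqr hqs hrs a₁ a₂ rfl rfl (hN a₁ hc1) (hN a₂ hc2)
    obtain ⟨c, hc⟩ := isConj_roots (by omega) ha₀ ha'
    have h1 : (x⁻¹ * e c) * (e a₀ : X) * (x⁻¹ * e c)⁻¹ ∈ K := by
      have h2 : (x⁻¹ * e c) * (e a₀ : X) * (x⁻¹ * e c)⁻¹ = x⁻¹ * e a' * x := by
        rw [← hc, emul, emul, einv]; group
      rw [h2]; exact hK'
    have h2 : x⁻¹ * e c ∈ normalizer (L : Set X) := hKL (hTI _ _ ha₀K (esq ha₀) (ene ha₀) h1)
    have h3 : x⁻¹ ∈ normalizer (L : Set X) := by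
      have h4 := mul_mem h2 (inv_mem (le_normalizer (e c).2 : (e c : X) ∈ normalizer (L : Set X)))
      rwa [mul_inv_cancel_right] at h4
    exact (inv_mem_iff).1 h3
  intro a ha x hx
  obtain ⟨c, hc⟩ := isConj_roots (by omega) ha₀ ha
  have h1 : x * e c ∈ normalizer (L : Set X) := by
    apply key
    have h2 : x * e c * (e a₀ : X) * (x * e c)⁻¹ = x * e a * x⁻¹ := by
      rw [← hc, emul, emul, einv]; group
    rw [h2]; exact hx
  have h4 := mul_mem h1 (inv_mem (le_normalizer (e c).2 : (e c : X) ∈ normalizer (L : Set X)))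
  rwa [mul_inv_cancel_right] at h4

end aut

end Cfsg.Agent.StdAlt.Closing
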