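import Cfsg.Agent.StdAlt.PermFour
import Cfsg.Agent.StandardComponent.AltAut

/-!
# Further permutation lemmas for the identification

* `fix_le`: generation of the pointwise stabilizer in the alternating group by 3-cycles;
* `V4_of_even`: even involutions on four points;
* `gen3`: generation of the alternating group by the 3-cycles `(p q r)`;
* `two_fix`: the key lemma for the transposition claim;
* `share`: two transpositions whose product is a 3-cycle;
* `stab_le`, `double_le`: generation of point stabilizers.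
-/

set_option autoImplicit false
set_option linter.unusedSectionVars false

namespace Cfsg.Agent.StdAlt.PermRoot

open Equiv Equiv.Perm Cfsg.Agent.StdAlt
open Cfsg.Agent.StdAlt.PermTypes (cyc cyc_conj cyc_apply_fst cyc_apply_snd cyc_apply_thd
  cyc_apply_of_ne cyc_inv cyc_rot)
open Cfsg.Agent.StandardComponent.AltAut (apply_three mem_three apply_of_not apply_two_ne cube_eq_one)

variable {α : Type*} [Fintype α] [DecidableEq α]

/-- an even permutation fixing the points of `T` is a product of 3-cycles outside of `T` -/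
theorem fix_le {H : Subgroup (Perm α)} {T : Finset α} (hH : ∀ i j k : α, i ∉ T → j ∉ T →
    k ∉ T → i ≠ j → j ≠ k → i ≠ k → cyc i j k ∈ H) {σ : Perm α} (hσ : σ ∈ alternatingGroup α)
    (hT : ∀ i ∈ T, σ i = i) : σ ∈ H := by
  let f : Perm {x // x ∉ T} →* Perm α := Equiv.Perm.ofSubtype
  have hp : ∀ x, σ x ∉ T ↔ x ∉ T := by
    intro x
    rw [not_iff_not]
    constructor
    · intro h
      have h1 := hT _ h
      rwa [σ.injective h1] at h
    · intro h
      rw [hT x h]; exact h
  have hfix : ∀ x, σ x ≠ x → x ∉ T := fun x hx hx' => hx (hT x hx')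
  have hσf : f (σ.subtypePerm hp) = σ := ofSubtype_subtypePerm _ hfix
  have halt : σ.subtypePerm hp ∈ alternatingGroup {x // x ∉ T} := by
    rw [mem_alternatingGroup, ← Equiv.Perm.sign_ofSubtype]
    change Perm.sign (f (σ.subtypePerm hp)) = 1
    rw [hσf]
    exact mem_alternatingGroup.1 hσ
  have hle : alternatingGroup {x // x ∉ T} ≤ H.comap f := by
    rw [← closure_three_cycles_eq_alternating, Subgroup.closure_le]
    intro τ hτ
    obtain ⟨i, j, k, hij, hjk, hik, rfl⟩ := PermTypes.exists_eq_cyc hτ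
    show f (cyc i j k) ∈ H
    have : f (cyc i j k) = cyc (i : α) j k := by
      show ofSubtype (swap i j * swap j k) = _
      rw [map_mul, ofSubtype_swap_eq, ofSubtype_swap_eq]
      rfl
    rw [this]
    exact hH i j k i.2 j.2 k.2 (fun e => hij (Subtype.ext e)) (fun e => hjk (Subtype.ext e))
      (fun e => hik (Subtype.ext e))
  rw [← hσf]
  exact hle halt

section four

variable {a b c d : α}

theorem V4.eq_one_of_fix (h : [a, b, c, d].Nodup) {v : Perm α} (hv : V4 a b c d v) (ha : v a = a) :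
    v = 1 := by
  obtain ⟨⟨m1, m2, m3⟩, ⟨m4, m5⟩, m6⟩ := PermTypes.of_nodup_four h
  rcases hv with rfl | rfl | rfl | rfl
  · rfl
  · rw [(d1_apply h).1] at ha; exact absurd ha.symm m1
  · rw [(d1_apply (PermTypes.nodup_four m2 m1 m3 (Ne.symm m4) m6 m5)).1] at ha
    exact absurd ha.symm m2
  · rw [(d1_apply (PermTypes.nodup_four m3 m1 m2 (Ne.symm m5) (Ne.symm m6) m4)).1] at ha
    exact absurd ha.symm m3

/-- even permutations of four points of order at most two -/
theorem V4_of_even (h : [a, b, c, d].Nodup) {g : Perm α} (hg : Mv a b c d g)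
    (he : g ∈ alternatingGroup α) (hgg : g * g = 1) : V4 a b c d g := by
  obtain ⟨⟨m1, m2, m3⟩, ⟨m4, m5⟩, m6⟩ := PermTypes.of_nodup_four h
  obtain ⟨v, hv, hvg⟩ := s4_decomp h hg
  have hvv := hv.sq h
  have hodd : ∀ p q : α, p ≠ q → v * g = swap p q → False := by
    intro p q hpq h1
    have h2 := mem_alternatingGroup.1 (mul_mem (hv.even h) he)
    rw [h1, sign_swap hpq] at h2
    exact absurd h2 (by decide)
  have hcyc : ∀ {i j k : α}, i ∈ four4 a b c d → j ∈ four4 a b c d → k ∈ four4 a b c d →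
      i ≠ a → j ≠ a → k ≠ a → i ≠ j → j ≠ k → i ≠ k →
      (∀ l, l ∈ four4 a b c d → l = a ∨ l = i ∨ l = j ∨ l = k) → v * g = cyc i j k → False := by
    intro i j k hi hj hk hia hja hka hij hjk hik hall ht
    have hg' : g = v * cyc i j k := by rw [← ht, ← mul_assoc, hvv, one_mul]
    have ha : g a = v a := by
      rw [hg', mul_apply, cyc_apply_of_ne (Ne.symm hia) (Ne.symm hja) (Ne.symm hka)]
    have h1 : g (v a) = a := by rw [← ha, ← mul_apply, hgg, one_apply]
    have h2 : cyc i j k (v a) = v a := by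
      rw [hg', mul_apply] at h1
      apply v.injective
      rw [h1, ← mul_apply, hvv, one_apply]
    have hvM : Mv a b c d v := fun l hl => hv.fix hl
    have h3 := hvM.mem (mem_four4.2 (Or.inl rfl) : a ∈ four4 a b c d)
    have h4 : v a = a := by
      rcases hall _ h3 with e | e | e | e
      · exact e
      · rw [e, cyc_apply_fst hik hij] at h2; exact absurd h2.symm hij
      · rw [e, cyc_apply_snd hik hjk] at h2; exact absurd h2.symm hjk
      · rw [e, cyc_apply_thd] at h2; exact absurd h2 hik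
    have h5 := V4.eq_one_of_fix h hv h4
    rw [h5, one_mul] at hg'
    have h6 := congrArg (fun f : Perm α => f i) hgg
    simp only [mul_apply, one_apply] at h6
    rw [hg', cyc_apply_fst hik hij, cyc_apply_snd hik hjk] at h6
    exact hik h6.symm
  have hb4 : b ∈ four4 a b c d := mem_four4.2 (Or.inr (Or.inl rfl))
  have hc4 : c ∈ four4 a b c d := mem_four4.2 (Or.inr (Or.inr (Or.inl rfl)))
  have hd4 : d ∈ four4 a b c d := mem_four4.2 (Or.inr (Or.inr (Or.inr rfl)))
  rcases hvg with hvg | hvg | hvg | hvg | hvg | hvg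
  · have : g = v := by
      calc g = (v * v) * g := by rw [hvv, one_mul]
        _ = v * (v * g) := mul_assoc _ _ _
        _ = v := by rw [hvg, mul_one]
    rw [this]; exact hv
  · exact (hcyc hb4 hc4 hd4 (Ne.symm m1) (Ne.symm m2) (Ne.symm m3) m4 m6 m5
      (fun l hl => mem_four4.1 hl) hvg).elim
  · refine (hcyc hb4 hd4 hc4 (Ne.symm m1) (Ne.symm m3) (Ne.symm m2) m5 (Ne.symm m6) m4
      (fun l hl => ?_) hvg).elim
    rcases mem_four4.1 hl with e | e | e | e
    · exact Or.inl e
    · exact Or.inr (Or.inl e)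
    · exact Or.inr (Or.inr (Or.inr e))
    · exact Or.inr (Or.inr (Or.inl e))
  · exact (hodd _ _ m6 hvg).elim
  · exact (hodd _ _ m4 hvg).elim
  · exact (hodd _ _ m5 hvg).elim

/-- conjugates of elements of the four-group -/
theorem V4.conj (h : [a, b, c, d].Nodup) {g v : Perm α} (hg : Mv a b c d g) (hv : V4 a b c d v) :
    V4 a b c d (g * v * g⁻¹) := by
  apply V4_of_even h ((hg.mul (fun i hi => hv.fix hi)).mul hg.inv)
  · exact (inferInstance : (alternatingGroup α).Normal).conj_mem _ (hv.even h) g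
  · rw [show g * v * g⁻¹ * (g * v * g⁻¹) = g * (v * v) * g⁻¹ by group, hv.sq h]; group

theorem AF_app {w : Perm α} (hw : w ∈ AF a b c d) {i : α} (hi : i ∈ four4 a b c d) : w i = i := by
  rcases mem_four4.1 hi with e | e | e | e
  · rw [e]; exact hw.2.1
  · rw [e]; exact hw.2.2.1
  · rw [e]; exact hw.2.2.2.1
  · rw [e]; exact hw.2.2.2.2

theorem AF_app_not {w : Perm α} (hw : w ∈ AF a b c d) {i : α} (hi : i ∉ four4 a b c d) :
    w i ∉ four4 a b c d := by
  intro h
  have h1 := AF_app hw h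
  rw [w.injective h1] at h
  exact hi h

theorem Mv.comm_AF {g w : Perm α} (hg : Mv a b c d g) (hw : w ∈ AF a b c d) : g * w = w * g := by
  ext i
  rw [mul_apply, mul_apply]
  by_cases hi : i ∈ four4 a b c d
  · rw [AF_app hw hi, AF_app hw (hg.mem hi)]
  · rw [hg i hi, hg _ (AF_app_not hw hi)]

/-- a permutation commuting with `d₁` and the 3-cycle `(b c d)` fixes the four points -/
theorem fix_of_comm (h : [a, b, c, d].Nodup) {g : Perm α}
    (h1 : g * (swap a b * swap c d) = (swap a b * swap c d) * g)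
    (h2 : g * cyc b c d = cyc b c d * g) : g a = a ∧ g b = b ∧ g c = c ∧ g d = d := by
  obtain ⟨⟨m1, m2, m3⟩, ⟨m4, m5⟩, m6⟩ := PermTypes.of_nodup_four h
  have e1 := d1_apply h
  have g1 : ∀ k, g ((swap a b * swap c d) k) = (swap a b * swap c d) (g k) := fun k => by
    rw [← mul_apply, h1, mul_apply]
  have g2 : ∀ k, g (cyc b c d k) = cyc b c d (g k) := fun k => by
    rw [← mul_apply, h2, mul_apply]
  have ga : g a = a := by
    have h3 := g2 a
    rw [cyc_apply_of_ne m1 m2 m3] at h3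
    rcases mem_of_comm h h1 with e | e | e | e
    · exact e
    · rw [e, cyc_apply_fst m5 m4] at h3; exact absurd h3 m4
    · rw [e, cyc_apply_snd m5 m6] at h3; exact absurd h3 m6
    · rw [e, cyc_apply_thd] at h3; exact absurd h3 (Ne.symm m5)
  have gb : g b = b := by
    have := g1 a
    rwa [e1.1, ga, e1.1] at this
  have gc : g c = c := by
    have := g2 b
    rwa [cyc_apply_fst m5 m4, gb, cyc_apply_fst m5 m4] at this
  have gd : g d = d := by
    have := g2 c
    rwa [cyc_apply_snd m5 m6, gc, cyc_apply_snd m5 m6] at this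
  exact ⟨ga, gb, gc, gd⟩

end four

/-- generation by the 3-cycles `(p q r)` -/
theorem gen3 {M : Subgroup (Perm α)} {T : Finset α} {p q : α} (hp : p ∉ T) (hq : q ∉ T)
    (hpq : p ≠ q) (h : ∀ r, r ∉ T → r ≠ p → r ≠ q → cyc p q r ∈ M) :
    ∀ i j k : α, i ∉ T → j ∉ T → k ∉ T → i ≠ j → j ≠ k → i ≠ k → cyc i j k ∈ M := by
  have conj : ∀ {x y : Perm α}, x ∈ M → y ∈ M → x * y * x⁻¹ ∈ M := fun hx hy =>
    mul_mem (mul_mem hx hy) (inv_mem hx)
  -- `(q s r)`
  have h1 : ∀ s r, s ∉ T → r ∉ T → s ≠ p → s ≠ q → r ≠ p → r ≠ q → s ≠ r → cyc q s r ∈ M := by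
    intro s r hs hr s1 s2 r1 r2 hsr
    have h2 := conj (h s hs s1 s2) (h r hr r1 r2)
    rwa [cyc_conj, cyc_apply_fst (Ne.symm s1) hpq, cyc_apply_snd (Ne.symm s1) (Ne.symm s2),
      cyc_apply_of_ne r1 r2 (Ne.symm hsr)] at h2
  -- `(p q r)⁻¹`
  have h0 : ∀ r, r ∉ T → r ≠ p → r ≠ q → cyc p r q ∈ M := by
    intro r hr r1 r2
    have := inv_mem (h r hr r1 r2)
    rw [cyc_inv] at this
    rw [cyc_rot (Ne.symm r1) r2 hpq]
    exact this
  -- `(p s r)`
  have h2 : ∀ s r, s ∉ T → r ∉ T → s ≠ p → s ≠ q → r ≠ p → r ≠ q → s ≠ r → cyc p s r ∈ M := by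
    intro s r hs hr s1 s2 r1 r2 hsr
    -- choose `(q s t)`-type element: `(p s q)` maps `p ↦ s ↦ q ↦ p`
    have h3 := conj (h0 s hs s1 s2) (h r hr r1 r2)
    rw [cyc_conj, cyc_apply_fst hpq (Ne.symm s1), cyc_apply_thd,
      cyc_apply_of_ne r1 (Ne.symm hsr) r2] at h3
    -- `(s p r)`
    have h4 := inv_mem h3
    rw [cyc_inv] at h4
    rw [cyc_rot (Ne.symm s1) hsr (Ne.symm r1)]
    -- `(s r p) = (r p s)`
    rw [cyc_rot hsr r1 s1]
    exact h4
  -- with `p` in first place
  have hP : ∀ j k, j ∉ T → k ∉ T → j ≠ p → k ≠ p → j ≠ k → cyc p j k ∈ M := by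
    intro j k hj hk hjp hkp hjk
    by_cases hjq : j = q
    · subst hjq; exact h k hk hkp (Ne.symm hjk)
    by_cases hkq : k = q
    · subst hkq; exact h0 j hj hjp hjk
    exact h2 j k hj hk hjp hjq hkp hkq hjk
  intro i j k hi hj hk hij hjk hik
  by_cases hip : i = p
  · subst hip; exact hP j k hj hk (Ne.symm hij) (Ne.symm hik) hjk
  by_cases hjp : j = p
  · subst hjp
    rw [cyc_rot hij hjk hik]
    exact hP k i hk hi (Ne.symm hjk) hij (Ne.symm hik)
  by_cases hkp : k = p
  · subst hkp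
    rw [cyc_rot hij hjk hik, cyc_rot hjk (Ne.symm hik) (Ne.symm hij)]
    exact hP i j hi hj hik hjk hij
  -- none is `p`
  have h3 := conj (hP i j hi hj hip hjp hij) (hP i k hi hk hip hkp hik)
  rwa [cyc_conj, cyc_apply_fst (Ne.symm hjp) (Ne.symm hip), cyc_apply_snd (Ne.symm hjp) hij,
    cyc_apply_of_ne hkp (Ne.symm hik) (Ne.symm hjk)] at h3

/-- an involution inverting a 3-cycle has exactly one 2-cycle on it -/
theorem inv_fix {x κ : Perm α} (hu : κ.IsThreeCycle) (hxx : x * x = 1)
    (hκ : ∀ l, κ (x (κ l)) = x l) {i k : α} (hi : κ i ≠ i) (hxi : x i ≠ i) (hxk : x k ≠ k)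
    (hki : k ≠ i) (hkxi : k ≠ x i) : κ k = k := by
  by_contra hk
  have hx2 : ∀ k, x (x k) = k := PermTypes.app_app hxx
  have hm : κ (x i) ≠ x i := by
    intro e
    have h1 := hκ (κ (κ i))
    rw [apply_three hu, e] at h1
    exact apply_two_ne hu hi (x.injective h1).symm
  rcases mem_three hu hi hm with e | e | e
  · exact hxi e
  · have h1 := hκ (κ (κ i))
    rw [apply_three hu, e] at h1
    rcases mem_three hu hi hk with e' | e' | e'
    · exact hki e'
    · exact hkxi (e'.trans e.symm)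
    · apply hxk
      rw [e', ← h1]
  · have h1 := hκ i
    rw [e] at h1
    have h2 : x (κ i) = κ i := κ.injective h1
    rcases mem_three hu hi hk with e' | e' | e'
    · exact hki e'
    · apply hxk
      rw [e', h2]
    · exact hkxi (e'.trans e.symm)

/-- a 3-cycle does not move four points -/
theorem not_four {u : Perm α} (hu : u.IsThreeCycle) {i j k l : α} (h : [i, j, k, l].Nodup)
    (hi : u i ≠ i) (hj : u j ≠ j) (hk : u k ≠ k) (hl : u l ≠ l) : False := by
  obtain ⟨⟨m1, m2, m3⟩, ⟨m4, m5⟩, m6⟩ := PermTypes.of_nodup_four h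
  rcases mem_three hu hi hj with e | e | e
  · exact m1 e.symm
  · rcases mem_three hu hi hk with e' | e' | e'
    · exact m2 e'.symm
    · exact m4 (e.trans e'.symm)
    · rcases mem_three hu hi hl with e'' | e'' | e''
      · exact m3 e''.symm
      · exact m5 (e.trans e''.symm)
      · exact m6 (e'.trans e''.symm)
  · rcases mem_three hu hi hk with e' | e' | e'
    · exact m2 e'.symm
    · rcases mem_three hu hi hl with e'' | e'' | e''
      · exact m3 e''.symm
      · exact m6 (e'.trans e''.symm)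
      · exact m5 (e.trans e''.symm)
    · exact m4 (e.trans e'.symm)

/-- the key lemma for the transposition claim -/
theorem two_fix {ι : Type*} {x : Perm α} (hxx : x * x = 1) {f : ι → Perm α}
    (hf : ∀ r, f r * f r = 1) (h1 : ∀ r, (x * f r).IsThreeCycle)
    (h2 : ∀ r s, r ≠ s → (f r * f s).IsThreeCycle) {i k : α} (hi : x i ≠ i) (hk : x k ≠ k)
    (hki : k ≠ i) (hkxi : k ≠ x i) : ∃ m, x m ≠ m ∧ ∀ r, (x * f r) m = m := by
  have hx2 : ∀ k, x (x k) = k := PermTypes.app_app hxx
  have hκ : ∀ r l, (x * f r) (x ((x * f r) l)) = x l := by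
    intro r l
    have h3 : (x * f r) * x * (x * f r) = x := by
      calc (x * f r) * x * (x * f r) = x * f r * (x * x) * f r := by group
        _ = x * (f r * f r) := by rw [hxx, mul_one, mul_assoc]
        _ = x := by rw [hf, mul_one]
    calc (x * f r) (x ((x * f r) l)) = ((x * f r) * x * (x * f r)) l := rfl
      _ = x l := by rw [h3]
  have hxk' : x (x k) ≠ x k := by rw [hx2]; exact Ne.symm hk
  have hxi' : x (x i) ≠ x i := by rw [hx2]; exact Ne.symm hi
  have hxki : x k ≠ i := fun e => hkxi (by rw [← e, hx2])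
  have hxkxi : x k ≠ x i := fun e => hki (x.injective e)
  by_cases hA : ∀ r, (x * f r) i = i
  · exact ⟨i, hi, hA⟩
  refine ⟨k, hk, ?_⟩
  intro s
  by_contra hs
  push Not at hA
  obtain ⟨r, hr⟩ := hA
  have r1 := inv_fix (h1 r) hxx (hκ r) hr hi hk hki hkxi
  have r2 := inv_fix (h1 r) hxx (hκ r) hr hi hxk' hxki hxkxi
  have s1 := inv_fix (h1 s) hxx (hκ s) hs hk hi (Ne.symm hki) (Ne.symm hxki)
  have s2 := inv_fix (h1 s) hxx (hκ s) hs hk hxi' (Ne.symm hkxi) (Ne.symm hxkxi)
  have hrs : r ≠ s := by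
    rintro rfl
    exact hr s1
  -- `κ_r` moves `x i` and `κ_s` moves `x k`
  have r3 : (x * f r) (x i) ≠ x i := by
    intro e
    have h3 := hκ r ((x * f r) ((x * f r) i))
    rw [apply_three (h1 r), e] at h3
    exact apply_two_ne (h1 r) hr (x.injective h3).symm
  have s3 : (x * f s) (x k) ≠ x k := by
    intro e
    have h3 := hκ s ((x * f s) ((x * f s) k))
    rw [apply_three (h1 s), e] at h3
    exact apply_two_ne (h1 s) hs (x.injective h3).symm
  have e0 : ∀ l, (x * f r) ((f r * f s) l) = (x * f s) l := by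
    intro l
    have h3 : (x * f r) * (f r * f s) = x * f s := by
      calc (x * f r) * (f r * f s) = x * (f r * f r) * f s := by group
        _ = x * f s := by rw [hf, mul_one]
    rw [← mul_apply, h3]
  refine not_four (h2 r s hrs) (i := i) (j := x i) (k := k) (l := x k)
    (PermTypes.nodup_four (Ne.symm hi) (Ne.symm hki) (Ne.symm hxki) (Ne.symm hkxi)
      (Ne.symm hxkxi) (Ne.symm hk)) ?_ ?_ ?_ ?_
  · intro e
    have := e0 i
    rw [e, s1] at this
    exact hr this
  · intro e
    have := e0 (x i)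
    rw [e, s2] at this
    exact r3 this
  · intro e
    have := e0 k
    rw [e, r1] at this
    exact hs this.symm
  · intro e
    have := e0 (x k)
    rw [e, r2] at this
    exact s3 this.symm

/-- transpositions whose product is a 3-cycle share a point -/
theorem share {i j i' k' : α} (hij : i ≠ j) (hik : i' ≠ k')
    (h : (swap i j * swap i' k').IsThreeCycle) : ∃ u v w : α, u ≠ v ∧ u ≠ w ∧ v ≠ w ∧
      swap i j = swap u v ∧ swap i' k' = swap u w := by
  have hne : swap i j ≠ swap i' k' := by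
    intro e
    rw [e, swap_mul_self] at h
    have := h.card_support
    simp at this
  by_cases h1 : i' = i
  · subst h1
    exact ⟨i', j, k', hij, hik, fun e => hne (by rw [e]), rfl, rfl⟩
  by_cases h2 : i' = j
  · subst h2
    exact ⟨i', i, k', Ne.symm hij, hik, fun e => hne (by rw [e, swap_comm]), swap_comm _ _, rfl⟩
  by_cases h3 : k' = i
  · subst h3
    exact ⟨k', j, i', hij, Ne.symm hik, fun e => hne (by rw [e, swap_comm]), rfl, swap_comm _ _⟩
  by_cases h4 : k' = j
  · subst h4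
    exact ⟨k', i, i', Ne.symm hij, Ne.symm hik, fun e => hne (by rw [e]), swap_comm _ _,
      swap_comm _ _⟩
  exfalso
  have hnd : [i, j, i', k'].Nodup :=
    PermTypes.nodup_four hij (Ne.symm h1) (Ne.symm h3) (Ne.symm h2) (Ne.symm h4) hik
  refine not_four h hnd ?_ ?_ ?_ ?_
  · rw [(d1_apply hnd).1]; exact Ne.symm hij
  · rw [(d1_apply hnd).2.1]; exact hij
  · rw [(d1_apply hnd).2.2.1]; exact Ne.symm hik
  · rw [(d1_apply hnd).2.2.2]; exact hik

theorem exists_ne_list (l : List α) (h : l.length < Fintype.card α) : ∃ x, x ∉ l := by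
  obtain ⟨x, hx⟩ := PermTypes.exists_notMem l.toFinset
    (lt_of_le_of_lt (List.toFinset_card_le l) h)
  exact ⟨x, fun h' => hx (List.mem_toFinset.2 h')⟩

/-- generation of a point stabilizer -/
theorem stab_le (h6 : 6 ≤ Fintype.card α) {H : Subgroup (Perm α)} {i j k : α} (hij : i ≠ j)
    (hik : i ≠ k) (hjk : j ≠ k)
    (h1 : ∀ l m n, l ≠ i → m ≠ i → n ≠ i → l ≠ j → m ≠ j → n ≠ j → l ≠ m → m ≠ n → l ≠ n →
      cyc l m n ∈ H)
    (h2 : ∀ l m n, l ≠ i → m ≠ i → n ≠ i → l ≠ k → m ≠ k → n ≠ k → l ≠ m → m ≠ n → l ≠ n →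
      cyc l m n ∈ H) {l m n : α} (hl : l ≠ i) (hm : m ≠ i) (hn : n ≠ i) (hlm : l ≠ m)
    (hmn : m ≠ n) (hln : l ≠ n) : cyc l m n ∈ H := by
  -- the case `l = j`
  have key : ∀ m n, m ≠ i → n ≠ i → m ≠ j → n ≠ j → m ≠ n → cyc j m n ∈ H := by
    intro m n hm hn hmj hnj hmn
    by_cases hk : m = k ∨ n = k
    · obtain ⟨o, ho⟩ := exists_ne_list [i, j, m, n] (by simp; omega)
      obtain ⟨o', ho'⟩ := exists_ne_list [i, j, m, n, o] (by simp; omega)
      simp only [List.mem_cons, List.not_mem_nil, or_false, not_or] at ho ho'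
      obtain ⟨o1, o2, o3, o4⟩ := ho
      obtain ⟨p1, p2, p3, p4, p5⟩ := ho'
      have hok : o ≠ k := by rcases hk with rfl | rfl <;> assumption
      have hok' : o' ≠ k := by rcases hk with rfl | rfl <;> assumption
      have h3 := h2 o j o' o1 (Ne.symm hij) p1 hok hjk hok' o2 (Ne.symm p2) (Ne.symm p5)
      have h4 := h1 o m n o1 hm hn o2 hmj hnj o3 hmn o4
      have h5 := mul_mem (mul_mem h3 h4) (inv_mem h3)
      rwa [cyc_conj, cyc_apply_fst (Ne.symm p5) o2, cyc_apply_of_ne (Ne.symm o3) hmj (Ne.symm p3),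
        cyc_apply_of_ne (Ne.symm o4) hnj (Ne.symm p4)] at h5
    · push Not at hk
      exact h2 j m n (Ne.symm hij) hm hn hjk hk.1 hk.2 (Ne.symm hmj) hmn (Ne.symm hnj)
  by_cases hlj : l = j
  · subst hlj
    exact key m n hm hn (Ne.symm hlm) (Ne.symm hln) hmn
  by_cases hmj : m = j
  · subst hmj
    rw [cyc_rot hlm hmn hln]
    exact key n l hn hl (Ne.symm hmn) hlm (Ne.symm hln)
  by_cases hnj : n = j
  · subst hnj
    rw [cyc_rot hlm hmn hln, cyc_rot hmn (Ne.symm hln) (Ne.symm hlm)]
    exact key l m hl hm hln hmn hlm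
  exact h1 l m n hl hm hn hlj hmj hnj hlm hmn hln

/-- 3-cycles as products of double transpositions -/
theorem double_le (h7 : 7 ≤ Fintype.card α) {H : Subgroup (Perm α)} {i j : α}
    (h : ∀ l m n o : α, [l, m, n, o].Nodup → l ≠ i → m ≠ i → n ≠ i → o ≠ i → l ≠ j → m ≠ j →
      n ≠ j → o ≠ j → swap l m * swap n o ∈ H) {l m n : α} (hl : l ≠ i) (hm : m ≠ i) (hn : n ≠ i)
    (hlj : l ≠ j) (hmj : m ≠ j) (hnj : n ≠ j) (hlm : l ≠ m) (hmn : m ≠ n) (hln : l ≠ n) :
    cyc l m n ∈ H := by
  obtain ⟨o, ho⟩ := exists_ne_list [i, j, l, m, n] (by simp; omega)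
  obtain ⟨o', ho'⟩ := exists_ne_list [i, j, l, m, n, o] (by simp; omega)
  simp only [List.mem_cons, List.not_mem_nil, or_false, not_or] at ho ho'
  obtain ⟨o1, o2, o3, o4, o5⟩ := ho
  obtain ⟨p1, p2, p3, p4, p5, p6⟩ := ho'
  have h1 := h l m o o' (PermTypes.nodup_four hlm (Ne.symm o3) (Ne.symm p3) (Ne.symm o4)
    (Ne.symm p4) (Ne.symm p6)) hl hm o1 p1 hlj hmj o2 p2
  have h2 := h o o' m n (PermTypes.nodup_four (Ne.symm p6) o4 o5 p4 p5 hmn) o1 p1 hm hn o2 p2 hmj
    hnj
  have h3 := mul_mem h1 h2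
  have h4 : swap l m * swap o o' * (swap o o' * swap m n) = cyc l m n := by
    calc swap l m * swap o o' * (swap o o' * swap m n)
        = swap l m * (swap o o' * swap o o') * swap m n := by group
      _ = swap l m * swap m n := by rw [swap_mul_self, mul_one]
  rwa [h4] at h3

end Cfsg.Agent.StdAlt.PermRoot
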