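import Cfsg.Agent.Lib.AltCarmichael
import Cfsg.Agent.StdAlt.PermTypes

/-!
# Carmichael's presentation for an arbitrary finite set

`exists_hom`: elements `y i` of a group, indexed by the points `i ≠ c, d` of a finite set `Ω`, with `y i ^ 3 = 1` and
`(y i * y j) ^ 2 = 1` for `i ≠ j`, are the images of the cycles `(i c d)` under a homomorphism from the alternating
group of `Ω`.
-/

set_option autoImplicit false
set_option linter.unusedSectionVars false

namespace Cfsg.Agent.StdAlt.Carm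

open Subgroup Equiv Equiv.Perm
open Cfsg.Agent.StdAlt.PermTypes (cyc)

variable {G : Type*} [Group G] {Ω : Type*} [Fintype Ω] [DecidableEq Ω]

/-- numbering of the points with `c`, `d` at the end -/
theorem exists_equiv {m : ℕ} (hm : Fintype.card Ω = m + 2) {c d : Ω} (hcd : c ≠ d) :
    ∃ e : Ω ≃ Fin (m + 2), e c = Fin.ofNat (m + 2) m ∧ e d = Fin.ofNat (m + 2) (m + 1) := by
  have e₀ : Ω ≃ Fin (m + 2) := Fintype.equivFinOfCardEq hm
  have hne : Fin.ofNat (m + 2) m ≠ Fin.ofNat (m + 2) (m + 1) :=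
    Cfsg.Agent.Lib.AltCarmichael.ofNat_ne (by omega) (by omega) (by omega)
  let e₁ : Ω ≃ Fin (m + 2) := e₀.trans (swap (e₀ c) (Fin.ofNat (m + 2) m))
  have h1 : e₁ c = Fin.ofNat (m + 2) m := swap_apply_left _ _
  refine ⟨e₁.trans (swap (e₁ d) (Fin.ofNat (m + 2) (m + 1))), ?_, swap_apply_left _ _⟩
  show swap (e₁ d) (Fin.ofNat (m + 2) (m + 1)) (e₁ c) = _
  rw [swap_apply_of_ne_of_ne, h1]
  · exact fun h => hcd (e₁.injective h)
  · rw [h1]; exact hne

theorem ofNat_val {m : ℕ} (x : Fin (m + 2)) : Fin.ofNat (m + 2) x.1 = x := by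
  apply Fin.ext
  simp only [Fin.ofNat, Nat.mod_eq_of_lt x.2]

theorem symm_ne {m : ℕ} {c d : Ω} {e : Ω ≃ Fin (m + 2)} (hc : e c = Fin.ofNat (m + 2) m)
    (hd : e d = Fin.ofNat (m + 2) (m + 1)) {i : ℕ} (hi : i < m) :
    e.symm (Fin.ofNat (m + 2) i) ≠ c ∧ e.symm (Fin.ofNat (m + 2) i) ≠ d := by
  constructor
  · intro h
    rw [Equiv.symm_apply_eq, hc] at h
    exact Cfsg.Agent.Lib.AltCarmichael.ofNat_ne (by omega) (by omega) (by omega) h
  · intro h
    rw [Equiv.symm_apply_eq, hd] at h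
    exact Cfsg.Agent.Lib.AltCarmichael.ofNat_ne (by omega) (by omega) (by omega) h

theorem lt_of_ne {m : ℕ} {c d : Ω} {e : Ω ≃ Fin (m + 2)} (hc : e c = Fin.ofNat (m + 2) m)
    (hd : e d = Fin.ofNat (m + 2) (m + 1)) {i : Ω} (h1 : i ≠ c) (h2 : i ≠ d) : (e i).1 < m := by
  have h3 : (e i).1 ≠ m := by
    intro h
    apply h1
    apply e.injective
    rw [hc, ← ofNat_val (e i), h]
  have h4 : (e i).1 ≠ m + 1 := by
    intro h
    apply h2
    apply e.injective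
    rw [hd, ← ofNat_val (e i), h]
  have := (e i).2
  omega

theorem congr_cyc {m : ℕ} {c d : Ω} {e : Ω ≃ Fin (m + 2)} (hc : e c = Fin.ofNat (m + 2) m)
    (hd : e d = Fin.ofNat (m + 2) (m + 1)) (i : Ω) {σ : alternatingGroup Ω}
    (h : (σ : Perm Ω) = cyc i c d) :
    ((e.altCongrHom σ : alternatingGroup (Fin (m + 2))) : Perm (Fin (m + 2))) =
      Cfsg.Agent.Lib.AltCarmichael.cyc m (e i).1 := by
  rw [Cfsg.Agent.Lib.AltCarmichael.cyc_def, ofNat_val, ← hc, ← hd]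
  have hsw : ∀ p q : Ω, e.permCongr (swap p q) = swap (e p) (e q) := fun p q =>
    Equiv.symm_trans_swap_trans p q e
  have h1 : ((e.altCongrHom σ : alternatingGroup (Fin (m + 2))) : Perm (Fin (m + 2))) =
      e.permCongr σ := rfl
  rw [h1, h, ← hsw, ← hsw]
  exact map_mul e.permCongrHom (swap i c) (swap c d)

/-- **Carmichael's presentation.** -/
theorem exists_hom {c d : Ω} (hcd : c ≠ d) (h3 : 3 ≤ Fintype.card Ω) {y : Ω → G}
    (h1 : ∀ i, i ≠ c → i ≠ d → y i ^ 3 = 1)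
    (h2 : ∀ i j, i ≠ c → i ≠ d → j ≠ c → j ≠ d → i ≠ j → (y i * y j) ^ 2 = 1) :
    ∃ f : alternatingGroup Ω →* G, ∀ (σ : alternatingGroup Ω) (i : Ω), i ≠ c → i ≠ d →
      (σ : Perm Ω) = cyc i c d → f σ = y i := by
  obtain ⟨m, hm⟩ : ∃ m, Fintype.card Ω = m + 2 := ⟨Fintype.card Ω - 2, by omega⟩
  obtain ⟨e, hc, hd⟩ := exists_equiv hm hcd
  have hrel : Cfsg.Agent.Lib.AltCarmichael.Rel m (fun i => y (e.symm (Fin.ofNat (m + 2) i))) := by
    constructor
    · intro i hi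
      obtain ⟨k1, k2⟩ := symm_ne hc hd hi
      exact h1 _ k1 k2
    · intro i hi j hj hij
      obtain ⟨k1, k2⟩ := symm_ne hc hd hi
      obtain ⟨k3, k4⟩ := symm_ne hc hd hj
      apply h2 _ _ k1 k2 k3 k4
      intro h
      exact Cfsg.Agent.Lib.AltCarmichael.ofNat_ne (by omega) (by omega) hij (e.symm.injective h)
  obtain ⟨f, hf⟩ := Cfsg.Agent.Lib.AltCarmichael.exists_hom (by omega) hrel
  refine ⟨f.comp e.altCongrHom.toMonoidHom, ?_⟩
  intro σ i hic hid hσ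
  have hi := lt_of_ne hc hd hic hid
  have h4 := hf (e i).1 hi
  have h5 : e.altCongrHom σ = ⟨Cfsg.Agent.Lib.AltCarmichael.cyc m (e i).1,
      Cfsg.Agent.Lib.AltCarmichael.cyc_mem m _ hi⟩ := Subtype.ext (congr_cyc hc hd i hσ)
  show f (e.altCongrHom σ) = y i
  rw [h5, h4]
  show y (e.symm (Fin.ofNat (m + 2) (e i).1)) = y i
  rw [ofNat_val, Equiv.symm_apply_apply]

/-- the cycles `(i c d)` generate the alternating group -/
theorem eq_top_of_cyc {c d : Ω} (hcd : c ≠ d) (h3 : 3 ≤ Fintype.card Ω)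
    (H : Subgroup (alternatingGroup Ω))
    (h : ∀ (σ : alternatingGroup Ω) (i : Ω), i ≠ c → i ≠ d → (σ : Perm Ω) = cyc i c d → σ ∈ H) :
    H = ⊤ := by
  obtain ⟨m, hm⟩ : ∃ m, Fintype.card Ω = m + 2 := ⟨Fintype.card Ω - 2, by omega⟩
  obtain ⟨e, hc, hd⟩ := exists_equiv hm hcd
  have h1 : Cfsg.Agent.Lib.AltCarmichael.gen m (Cfsg.Agent.Lib.AltCarmichael.cyc m) ≤
      (H.map e.altCongrHom.toMonoidHom).map (alternatingGroup (Fin (m + 2))).subtype := by
    rw [Cfsg.Agent.Lib.AltCarmichael.gen_def, closure_le]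
    rintro _ ⟨i, hi, rfl⟩
    obtain ⟨k1, k2⟩ := symm_ne hc hd hi
    have hik : e (e.symm (Fin.ofNat (m + 2) i)) = Fin.ofNat (m + 2) i := Equiv.apply_symm_apply _ _
    set j := e.symm (Fin.ofNat (m + 2) i) with hj
    have hmem : cyc j c d ∈ alternatingGroup Ω := PermTypes.cyc_mem_alt k1 hcd
    refine ⟨e.altCongrHom ⟨cyc j c d, hmem⟩, ⟨⟨cyc j c d, hmem⟩, h _ j k1 k2 rfl, rfl⟩, ?_⟩
    have := congr_cyc hc hd j (σ := ⟨cyc j c d, hmem⟩) rfl
    refine this.trans ?_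
    rw [hik]
    have : (Fin.ofNat (m + 2) i).1 = i := by
      simp only [Fin.ofNat]
      exact Nat.mod_eq_of_lt (by omega)
    rw [this]
  rw [Cfsg.Agent.Lib.AltCarmichael.gen_cyc m (by omega)] at h1
  rw [eq_top_iff]
  intro σ _
  obtain ⟨τ, ⟨ρ, hρ, hρτ⟩, hτ⟩ := h1 (e.altCongrHom σ).2
  have h4 : τ = e.altCongrHom σ := Subtype.ext hτ
  have h5 : e.altCongrHom ρ = e.altCongrHom σ := hρτ.trans h4
  rw [← e.altCongrHom.injective h5]
  exact hρ

end Cfsg.Agent.StdAlt.Carm
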