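import Cfsg.Agent.StdAlt.Pairs
import Cfsg.Agent.Transfer.PGroupNormal
import Cfsg.Prelude.Def_TwoFusion

/-!
# First step: an even pair exists, or `A` is normal
-/

set_option autoImplicit false

namespace Cfsg.Agent.StdAlt.First

open Subgroup Cfsg.Agent.StdAlt.Conj Cfsg.Agent.StdAlt.Pairs

variable {G : Type*} [Group G] {A : Subgroup G}

/-- The commutator half of statement S1171 for the group `G`. -/
def CommHalf (G : Type*) [Group G] : Prop :=
  ∀ (P : Sylow 2 G) (S₁ S₂ : Subgroup G), (∀ a ∈ S₁, ∀ b ∈ S₂, a * b = b * a) → S₁ ⊓ S₂ = ⊥ →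
    Cfsg.IsStronglyClosed S₁ (P : Subgroup G) → Cfsg.IsStronglyClosed S₂ (P : Subgroup G) →
    ⁅normalClosure (S₁ : Set G), normalClosure (S₂ : Set G)⁆ = ⊥

/-- an involution of `C A` only fuses into `N A` by elements of `N A` -/
def NoEven (A : Subgroup G) : Prop :=
  ∀ r ∈ C A, r ≠ 1 → r * r = 1 → ∀ g : G, g * r * g⁻¹ ∈ N A → g ∈ N A

/-- a 2-subgroup containing an involution of `C A` lies in `N A` -/
theorem le_of_noEven [Finite G] (h : NoEven A) {S : Subgroup G} (hS : IsPGroup 2 S) {r : G}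
    (hr : r ∈ N A) (hrc : ∃ g, g * r * g⁻¹ ∈ C A) (hr1 : r ≠ 1) (hrr : r * r = 1) (hrS : r ∈ S) :
    S ≤ N A := by
  obtain ⟨g, hg⟩ := hrc
  have hr' : g * r * g⁻¹ ≠ 1 := by
    intro e
    apply hr1
    rw [show r = g⁻¹ * (g * r * g⁻¹) * g by group, e]; group
  have hrr' : (g * r * g⁻¹) * (g * r * g⁻¹) = 1 := by
    rw [show (g * r * g⁻¹) * (g * r * g⁻¹) = g * (r * r) * g⁻¹ by group, hrr]; group
  have hgN : g⁻¹ ∈ N A := h _ hg hr' hrr' g⁻¹ (by
    rw [show g⁻¹ * (g * r * g⁻¹) * g⁻¹⁻¹ = r by group]; exact hr)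
  by_contra hcon
  obtain ⟨c, hcS, hcD, hn⟩ := exists_normalizing S (S ⊓ N A) hS inf_le_left
    (by rw [ne_eq, inf_eq_left]; exact hcon)
  have h1 := (hn r ⟨hrS, hr⟩).2
  have h2 : (c * g⁻¹) * (g * r * g⁻¹) * (c * g⁻¹)⁻¹ ∈ N A := by
    rw [show (c * g⁻¹) * (g * r * g⁻¹) * (c * g⁻¹)⁻¹ = c * r * c⁻¹ by group]
    exact h1
  have h3 := h _ hg hr' hrr' _ h2
  have h4 := mul_mem h3 (inv_mem hgN)
  rw [inv_inv, inv_mul_cancel_right] at h4
  exact hcD ⟨hcS, h4⟩

/-- in a 2-group a nontrivial normal subgroup contains a central involution -/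
theorem exists_comm_inv [Finite G] {P R : Subgroup G} (hP : IsPGroup 2 P) (hR : R ≤ P)
    (hR1 : R ≠ ⊥) (hn : ∀ x ∈ P, ∀ r ∈ R, x * r * x⁻¹ ∈ R) :
    ∃ r ∈ R, r ≠ 1 ∧ r * r = 1 ∧ ∀ x ∈ P, x * r = r * x := by
  have hRn : (R.subgroupOf P).Normal := by
    constructor
    intro r hr g
    exact mem_subgroupOf.2 (hn g g.2 _ (mem_subgroupOf.1 hr))
  have hne : (R.subgroupOf P) ≠ ⊥ := by
    rw [ne_eq, subgroupOf_eq_bot, disjoint_iff, inf_eq_left.2 hR]
    exact hR1
  obtain ⟨z, hz, hzc, ho⟩ :=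
    Cfsg.Agent.Transfer.PGroupNormal.exists_mem_inf_center_orderOf hP (R.subgroupOf P) hne
  refine ⟨z, mem_subgroupOf.1 hz, ?_, ?_, ?_⟩
  · intro e
    have : z = 1 := Subtype.ext e
    rw [this, orderOf_one] at ho
    exact absurd ho (by norm_num)
  · have h1 := pow_orderOf_eq_one z
    rw [ho, sq] at h1
    exact congrArg Subtype.val h1
  · intro x hx
    exact congrArg Subtype.val (mem_center_iff.1 hzc ⟨x, hx⟩)

/-- **First step** -/
theorem normal_of_noEven [Finite G] (hA : TE A) (hs : IsSimpleGroup A) (hcomm : CommHalf G)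
    (hno : NoEven A) {s t : G} (hsA : s ∈ A) (hs1 : s ≠ 1) (hss : s * s = 1) (ht : t ∈ C A)
    (ht1 : t ≠ 1) (htt : t * t = 1) : A.Normal := by
  have hts : t * s = s * t := comm_of_C ht hsA
  -- a maximal 2-subgroup of `N A` containing `s` and `t`
  obtain ⟨P₀, hP₀⟩ := ((isPGroup_of_sq (Q := four t s htt hss hts)
    fun x hx => four_sq hx).comap_subtype (K := N A)).exists_le_sylow
  set P := (P₀ : Subgroup (N A)).map (N A).subtype with hPdef
  have hP : IsPGroup 2 P := P₀.2.map _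
  have hPN : P ≤ N A := by
    rintro _ ⟨x, -, rfl⟩
    exact x.2
  have hF : four t s htt hss hts ≤ P := by
    intro x hx
    have hxN : x ∈ N A := by
      rcases hx with rfl | rfl | rfl | rfl
      · exact one_mem _
      · exact C_le_N ht
      · exact le_N hsA
      · exact mul_mem (C_le_N ht) (le_N hsA)
    exact ⟨⟨x, hxN⟩, hP₀ hx, rfl⟩
  have htP : t ∈ P := hF (Or.inr (Or.inl rfl))
  have hsP : s ∈ P := hF (Or.inr (Or.inr (Or.inl rfl)))
  have hmaxN : ∀ Q : Subgroup G, IsPGroup 2 Q → Q ≤ N A → P ≤ Q → Q = P := by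
    intro Q hQ hQN hPQ
    have h1 : Q.subgroupOf (N A) = P₀ := by
      apply P₀.3 (hQ.comap_subtype)
      intro x hx
      exact hPQ ⟨x, hx, rfl⟩
    rw [hPdef, ← h1, subgroupOf_map_subtype, inf_eq_left.2 hQN]
  have hmax : ∀ Q : Subgroup G, IsPGroup 2 Q → P ≤ Q → Q = P := fun Q hQ hPQ =>
    hmaxN Q hQ (le_of_noEven hno hQ (C_le_N ht) ⟨1, by simpa using ht⟩ ht1 htt (hPQ htP)) hPQ
  let S : Sylow 2 G := ⟨P, hP, fun {Q} hQ hPQ => hmax Q hQ hPQ⟩
  -- control of fusion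
  set R := P ⊓ C A with hR
  have hRn : ∀ x ∈ P, ∀ r ∈ R, x * r * x⁻¹ ∈ R := fun x hx r hr =>
    ⟨P.mul_mem (P.mul_mem hx hr.1) (P.inv_mem hx), conj_mem_C (hPN hx) hr.2⟩
  have hR1 : R ≠ ⊥ := by
    intro e
    have : t ∈ R := ⟨htP, ht⟩
    rw [e, mem_bot] at this
    exact ht1 this
  obtain ⟨r, hrR, hr1, hrr, hrc⟩ := exists_comm_inv hP inf_le_left hR1 hRn
  have hctrl : ∀ a ∈ P, ∀ g : G, g * a * g⁻¹ ∈ P → ∃ m ∈ N A, m * a * m⁻¹ = g * a * g⁻¹ := by
    intro a ha g hb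
    set b := g * a * g⁻¹ with hbdef
    -- `r` lies in `C(b)`, `g r g⁻¹` lies in `C(b)`
    have hrb : r * b = b * r := (hrc b hb).symm
    have hgr : (g * r * g⁻¹) * b = b * (g * r * g⁻¹) := by
      rw [hbdef, show g * r * g⁻¹ * (g * a * g⁻¹) = g * (r * a) * g⁻¹ by group, ← hrc a ha]
      group
    have hp1 : IsPGroup 2 (zpowers r) := by
      apply IsPGroup.of_card (n := 1)
      rw [Nat.card_zpowers, pow_one]
      exact orderOf_eq_prime (by rw [sq]; exact hrr) hr1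
    have hp2 : IsPGroup 2 (zpowers (g * r * g⁻¹)) := by
      apply IsPGroup.of_card (n := 1)
      rw [Nat.card_zpowers, pow_one]
      apply orderOf_eq_prime
      · rw [sq, show g * r * g⁻¹ * (g * r * g⁻¹) = g * (r * r) * g⁻¹ by group, hrr]; group
      · intro e
        apply hr1
        rw [show r = g⁻¹ * (g * r * g⁻¹) * g by group, e]; group
    obtain ⟨T₀, hT₀⟩ := (hp1.comap_subtype (K := centralizer {b})).exists_le_sylow
    set T := (T₀ : Subgroup (centralizer {b})).map (centralizer {b}).subtype with hT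
    have hTp : IsPGroup 2 T := T₀.2.map _
    have hrT : r ∈ T := ⟨⟨r, mem_cent.2 hrb⟩, hT₀ (mem_zpowers r), rfl⟩
    have hTN : T ≤ N A :=
      le_of_noEven hno hTp (C_le_N hrR.2) ⟨1, by simpa using hrR.2⟩ hr1 hrr hrT
    obtain ⟨c, hc, hcc⟩ := exists_conj_le (centralizer {b}) T (zpowers (g * r * g⁻¹)) hTp hp2
      (by rintro _ ⟨x, -, rfl⟩; exact x.2) (by rw [zpowers_le]; exact mem_cent.2 hgr) (by
        intro Q hQ hTQ hQC
        have h1 : Q.subgroupOf (centralizer {b}) = T₀ := by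
          apply T₀.3 (hQ.comap_subtype)
          intro x hx
          exact hTQ ⟨x, hx, rfl⟩
        rw [hT, ← h1, subgroupOf_map_subtype, inf_eq_left.2 hQC])
    have h1 := hTN (hcc _ (mem_zpowers _))
    have h2 : c * g ∈ N A := hno r hrR.2 hr1 hrr (c * g) (by
      rw [show c * g * r * (c * g)⁻¹ = c * (g * r * g⁻¹) * c⁻¹ by group]; exact h1)
    refine ⟨c * g, h2, ?_⟩
    rw [show c * g * a * (c * g)⁻¹ = c * b * c⁻¹ by rw [hbdef]; group, mem_cent.1 hc,
      mul_inv_cancel_right]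
  -- the two strongly closed subgroups
  have hsc1 : Cfsg.IsStronglyClosed R (S : Subgroup G) := by
    refine ⟨inf_le_left, fun x hx g hg => ⟨hg, ?_⟩⟩
    obtain ⟨m, hm, he⟩ := hctrl x hx.1 g hg
    rw [← he]
    exact conj_mem_C hm hx.2
  have hsc2 : Cfsg.IsStronglyClosed (P ⊓ A) (S : Subgroup G) := by
    refine ⟨inf_le_left, fun x hx g hg => ⟨hg, ?_⟩⟩
    obtain ⟨m, hm, he⟩ := hctrl x hx.1 g hg
    rw [← he]
    exact conj_mem hm hx.2
  have hc := hcomm S R (P ⊓ A) (fun a ha b hb => comm_of_C ha.2 hb.2) (by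
    rw [eq_bot_iff]
    rintro x ⟨⟨-, h1⟩, ⟨-, h2⟩⟩
    exact mem_bot.2 (hA.disj x h2 h1)) hsc1 hsc2
  rw [commutator_eq_bot_iff_le_centralizer] at hc
  -- `A` lies in the normal closure of `P ⊓ A`
  have hAle : A ≤ normalClosure ((P ⊓ A : Subgroup G) : Set G) := by
    have hn : ((normalClosure ((P ⊓ A : Subgroup G) : Set G)).subgroupOf A).Normal :=
      (normalClosure_normal).subgroupOf A
    rcases hn.eq_bot_or_eq_top with h | h
    · exfalso
      have h1 : (⟨s, hsA⟩ : A) ∈ (normalClosure ((P ⊓ A : Subgroup G) : Set G)).subgroupOf A := by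
        rw [mem_subgroupOf]
        exact subset_normalClosure ⟨hsP, hsA⟩
      rw [h, mem_bot] at h1
      exact hs1 (congrArg Subtype.val h1)
    · exact subgroupOf_eq_top.1 h
  have htop : N A = ⊤ := by
    rw [eq_top_iff]
    intro g _
    apply hA.key t g ht ht1 htt
    have h1 : g * t * g⁻¹ ∈ normalClosure (R : Set G) :=
      (normalClosure_normal).conj_mem t (subset_normalClosure (show t ∈ R from ⟨htP, ht⟩)) g
    have h2 := hc h1
    rw [mem_C]
    intro a ha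
    exact (mem_centralizer_iff.1 h2 a (hAle ha)).symm
  exact normalizer_eq_top_iff.1 htop

theorem exists_even_pair (h : ¬ NoEven A) : ∃ B : Subgroup G, Cj A B ∧ A ≠ B ∧ ∃ y ∈ C B, y ∈ N A ∧
    y ≠ 1 ∧ y * y = 1 := by
  unfold NoEven at h
  push Not at h
  obtain ⟨r, hr, hr1, hrr, g, hg, hgn⟩ := h
  refine ⟨Conj.cj g A, Cj.cj A g, ?_, g * r * g⁻¹, ?_, hg, ?_, ?_⟩
  · intro e
    exact hgn (cj_eq_iff.1 e.symm)
  · rw [mem_C_cj, show g⁻¹ * (g * r * g⁻¹) * g = r by group]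
    exact hr
  · intro e
    apply hr1
    rw [show r = g⁻¹ * (g * r * g⁻¹) * g by group, e]; group
  · rw [show (g * r * g⁻¹) * (g * r * g⁻¹) = g * (r * r) * g⁻¹ by group, hrr]; group

/-- either `A` is normal or there is a good pair -/
theorem normal_or_good [Finite G] (hA : TE A) (hs : IsSimpleGroup A) (hcomm : CommHalf G)
    (hout : Outer A) (h4 : 4 ∣ Nat.card (C A)) {s : G} (hsA : s ∈ A) (hs1 : s ≠ 1)
    (hss : s * s = 1) : A.Normal ∨ Good A := by
  by_cases h : NoEven A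
  · left
    have h2 : 2 ∣ Nat.card (C A) := Dvd.dvd.trans (by norm_num) h4
    obtain ⟨t, ht⟩ := exists_prime_orderOf_dvd_card' 2 h2
    have ht' : orderOf (t : G) = 2 := by rw [orderOf_coe]; exact ht
    refine normal_of_noEven hA hs hcomm h hsA hs1 hss t.2 ?_ ?_
    · intro e
      rw [e, orderOf_one] at ht'
      exact absurd ht' (by norm_num)
    · rw [← sq, ← ht']; exact pow_orderOf_eq_one _
  · right
    obtain ⟨B, hB, hne, y, hy, hyN, hy1, hyy⟩ := exists_even_pair h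
    exact exists_good_pair hA h4 hout hB hne hy hyN hy1 hyy

end Cfsg.Agent.StdAlt.First
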