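import Cfsg.Agent.StdAlt.CaseB

/-!
# Data of a pair of type two

`PD A B α`: a pair of type two with labellings such that the four-groups in `A ⊓ C B` and `B ⊓ C A` act on the same
four points `a, b, c, d`.
-/

set_option autoImplicit false
set_option linter.unusedSectionVars false

namespace Cfsg.Agent.StdAlt

open Subgroup Equiv Equiv.Perm Cfsg.Agent.StdAlt.Conj Cfsg.Agent.StdAlt.Pairs
open Cfsg.Agent.StdAlt.PermTypes (cyc fx R)

variable {G : Type*} [Group G] {A B : Subgroup G} {α : Type*} [Fintype α] [DecidableEq α]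

/-! ### permutations of four points -/

section four

variable {a b c d : α}

theorem d1_apply (h : [a, b, c, d].Nodup) : (swap a b * swap c d) a = b ∧
    (swap a b * swap c d) b = a ∧ (swap a b * swap c d) c = d ∧ (swap a b * swap c d) d = c := by
  obtain ⟨⟨h1, h2, h3⟩, ⟨h4, h5⟩, h6⟩ := PermTypes.of_nodup_four h
  refine ⟨?_, ?_, ?_, ?_⟩
  · rw [mul_apply, swap_apply_of_ne_of_ne h2 h3, swap_apply_left]
  · rw [mul_apply, swap_apply_of_ne_of_ne h4 h5, swap_apply_right]
  · rw [mul_apply, swap_apply_left, swap_apply_of_ne_of_ne (Ne.symm h3) (Ne.symm h5)]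
  · rw [mul_apply, swap_apply_right, swap_apply_of_ne_of_ne (Ne.symm h2) (Ne.symm h4)]

theorem d1_fix {i : α} (h1 : i ≠ a) (h2 : i ≠ b) (h3 : i ≠ c) (h4 : i ≠ d) :
    (swap a b * swap c d) i = i := by
  rw [mul_apply, swap_apply_of_ne_of_ne h3 h4, swap_apply_of_ne_of_ne h1 h2]

theorem d1_sq (h : [a, b, c, d].Nodup) : (swap a b * swap c d) * (swap a b * swap c d) = 1 := by
  rw [mul_assoc, ← mul_assoc (swap c d), ← PermTypes.swap_swap_comm h, mul_assoc (swap a b),
    swap_mul_self, mul_one, swap_mul_self]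

theorem d1_ne (h : [a, b, c, d].Nodup) : swap a b * swap c d ≠ 1 := by
  intro e
  have := (d1_apply h).1
  rw [e, one_apply] at this
  exact (PermTypes.of_nodup_four h).1.1 this

/-- the product of two double transpositions on four points -/
theorem d1_mul_d2 (h : [a, b, c, d].Nodup) :
    (swap a b * swap c d) * (swap a c * swap b d) = swap a d * swap b c := by
  obtain ⟨⟨h1, h2, h3⟩, ⟨h4, h5⟩, h6⟩ := PermTypes.of_nodup_four h
  have n1 : [a, c, b, d].Nodup := PermTypes.nodup_four h2 h1 h3 (Ne.symm h4) h6 h5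
  have n2 : [a, d, b, c].Nodup := PermTypes.nodup_four h3 h1 h2 (Ne.symm h5) (Ne.symm h6) h4
  have e1 := d1_apply h
  have e2 := d1_apply n1
  have e3 := d1_apply n2
  ext i
  rw [mul_apply]
  by_cases i1 : i = a
  · rw [i1, e2.1, e1.2.2.1, e3.1]
  by_cases i2 : i = b
  · rw [i2, e2.2.2.1, e1.2.2.2, e3.2.2.1]
  by_cases i3 : i = c
  · rw [i3, e2.2.1, e1.1, e3.2.2.2]
  by_cases i4 : i = d
  · rw [i4, e2.2.2.2, e1.2.1, e3.2.1]
  rw [d1_fix i1 i3 i2 i4, d1_fix i1 i2 i3 i4, d1_fix i1 i4 i2 i3]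

theorem d1_comm_d2 (h : [a, b, c, d].Nodup) :
    (swap a b * swap c d) * (swap a c * swap b d) = (swap a c * swap b d) * (swap a b * swap c d) := by
  obtain ⟨⟨h1, h2, h3⟩, ⟨h4, h5⟩, h6⟩ := PermTypes.of_nodup_four h
  have n1 : [a, c, b, d].Nodup := PermTypes.nodup_four h2 h1 h3 (Ne.symm h4) h6 h5
  rw [d1_mul_d2 h, d1_mul_d2 n1, swap_comm b c]

theorem d1_ne_d2 (h : [a, b, c, d].Nodup) : swap a c * swap b d ≠ swap a b * swap c d := by
  obtain ⟨⟨h1, h2, h3⟩, ⟨h4, h5⟩, h6⟩ := PermTypes.of_nodup_four h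
  have n1 : [a, c, b, d].Nodup := PermTypes.nodup_four h2 h1 h3 (Ne.symm h4) h6 h5
  intro e
  have e1 := (d1_apply h).1
  rw [← e, (d1_apply n1).1] at e1
  exact h4 e1.symm

/-- a permutation commuting with the four-group maps `a` to one of the four points -/
theorem mem_of_comm (h : [a, b, c, d].Nodup) {g : Perm α}
    (h1 : g * (swap a b * swap c d) = (swap a b * swap c d) * g) :
    g a = a ∨ g a = b ∨ g a = c ∨ g a = d := by
  by_contra hcon
  push Not at hcon
  obtain ⟨n1, n2, n3, n4⟩ := hcon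
  have e1 : (swap a b * swap c d) (g a) = g b := by
    rw [← mul_apply, ← h1, mul_apply, (d1_apply h).1]
  rw [d1_fix n1 n2 n3 n4] at e1
  exact (PermTypes.of_nodup_four h).1.1 (g.injective e1)

/-- a permutation of order three commuting with the four-group fixes the four points -/
theorem fix_of_cube (h : [a, b, c, d].Nodup) {g : Perm α}
    (h1 : g * (swap a b * swap c d) = (swap a b * swap c d) * g)
    (h2 : g * (swap a c * swap b d) = (swap a c * swap b d) * g) (h3 : g ^ 3 = 1) :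
    g a = a ∧ g b = b ∧ g c = c ∧ g d = d := by
  obtain ⟨⟨m1, m2, m3⟩, ⟨m4, m5⟩, m6⟩ := PermTypes.of_nodup_four h
  have n1 : [a, c, b, d].Nodup := PermTypes.nodup_four m2 m1 m3 (Ne.symm m4) m6 m5
  have e1 := d1_apply h
  have e2 := d1_apply n1
  have g1 : ∀ k, g ((swap a b * swap c d) k) = (swap a b * swap c d) (g k) := fun k => by
    rw [← mul_apply, h1, mul_apply]
  have g2 : ∀ k, g ((swap a c * swap b d) k) = (swap a c * swap b d) (g k) := fun k => by
    rw [← mul_apply, h2, mul_apply]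
  have g3 : g (g (g a)) = a := by
    have := congrArg (fun f : Perm α => f a) h3
    simpa [pow_succ] using this
  have ga : g a = a := by
    rcases mem_of_comm h h1 with e | e | e | e
    · exact e
    · have : g (g a) = a := by
        have := g1 a
        rw [e1.1, e, e1.2.1] at this
        rw [e, this]
      rw [this] at g3
      exact g3
    · have : g (g a) = a := by
        have := g2 a
        rw [e2.1, e, e2.2.1] at this
        rw [e, this]
      rw [this] at g3
      exact g3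
    · have : g (g a) = a := by
        have h4 := g1 c
        have h5 := g2 a
        rw [e2.1, e, e2.2.2.2] at h5
        rw [e1.2.2.1, h5, e1.2.1] at h4
        rw [e, h4]
      rw [this] at g3
      exact g3
  have gb : g b = b := by
    have := g1 a
    rwa [e1.1, ga, e1.1] at this
  have gc : g c = c := by
    have := g2 a
    rwa [e2.1, ga, e2.1] at this
  have gd : g d = d := by
    have := g1 c
    rwa [e1.2.2.1, gc, e1.2.2.1] at this
  exact ⟨ga, gb, gc, gd⟩

/-- even permutations fixing the four points -/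
def AF (a b c d : α) : Subgroup (Perm α) where
  carrier := {σ | σ ∈ alternatingGroup α ∧ σ a = a ∧ σ b = b ∧ σ c = c ∧ σ d = d}
  one_mem' := ⟨one_mem _, rfl, rfl, rfl, rfl⟩
  mul_mem' := by
    rintro x y ⟨hx, h1, h2, h3, h4⟩ ⟨hy, k1, k2, k3, k4⟩
    refine ⟨mul_mem hx hy, ?_, ?_, ?_, ?_⟩
    · rw [mul_apply, k1, h1]
    · rw [mul_apply, k2, h2]
    · rw [mul_apply, k3, h3]
    · rw [mul_apply, k4, h4]
  inv_mem' := by
    rintro x ⟨hx, h1, h2, h3, h4⟩
    refine ⟨inv_mem hx, ?_, ?_, ?_, ?_⟩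
    · rw [Perm.inv_eq_iff_eq, h1]
    · rw [Perm.inv_eq_iff_eq, h2]
    · rw [Perm.inv_eq_iff_eq, h3]
    · rw [Perm.inv_eq_iff_eq, h4]

theorem mem_AF {σ : Perm α} : σ ∈ AF a b c d ↔
    σ ∈ alternatingGroup α ∧ σ a = a ∧ σ b = b ∧ σ c = c ∧ σ d = d := Iff.rfl

theorem AF_comm_d1 {σ : Perm α} (hσ : σ ∈ AF a b c d) :
    σ * (swap a b * swap c d) = (swap a b * swap c d) * σ := by
  obtain ⟨-, h1, h2, h3, h4⟩ := hσ
  rw [← mul_assoc, mul_swap_eq_swap_mul σ a b, h1, h2, mul_assoc, mul_swap_eq_swap_mul σ c d, h3,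
    h4, mul_assoc]

/-- the set of the four points -/
def four4 (a b c d : α) : Finset α := {a, b, c, d}

theorem mem_four4 {i : α} : i ∈ four4 a b c d ↔ i = a ∨ i = b ∨ i = c ∨ i = d := by
  unfold four4
  simp only [Finset.mem_insert, Finset.mem_singleton]

/-- an even permutation fixing the four points is a product of 3-cycles on the other points -/
theorem AF_le {H : Subgroup (Perm α)} (hH : ∀ i j k : α, i ∉ four4 a b c d → j ∉ four4 a b c d →
    k ∉ four4 a b c d → i ≠ j → j ≠ k → i ≠ k → cyc i j k ∈ H) : AF a b c d ≤ H := by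
  intro σ hσ
  obtain ⟨hσ, h1, h2, h3, h4⟩ := hσ
  let f : Perm {x // x ∉ four4 a b c d} →* Perm α := Equiv.Perm.ofSubtype
  have hp : ∀ x, σ x ∉ four4 a b c d ↔ x ∉ four4 a b c d := by
    intro x
    rw [not_iff_not, mem_four4, mem_four4, iff_comm]
    constructor
    · rintro (rfl | rfl | rfl | rfl)
      · exact Or.inl h1
      · exact Or.inr (Or.inl h2)
      · exact Or.inr (Or.inr (Or.inl h3))
      · exact Or.inr (Or.inr (Or.inr h4))
    · rintro (e | e | e | e)
      · exact Or.inl (σ.injective (e.trans h1.symm))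
      · exact Or.inr (Or.inl (σ.injective (e.trans h2.symm)))
      · exact Or.inr (Or.inr (Or.inl (σ.injective (e.trans h3.symm))))
      · exact Or.inr (Or.inr (Or.inr (σ.injective (e.trans h4.symm))))
  have hfix : ∀ x, σ x ≠ x → x ∉ four4 a b c d := by
    intro x hx hx'
    apply hx
    rcases mem_four4.1 hx' with rfl | rfl | rfl | rfl
    · exact h1
    · exact h2
    · exact h3
    · exact h4
  have hσf : f (σ.subtypePerm hp) = σ := ofSubtype_subtypePerm _ hfix
  have halt : σ.subtypePerm hp ∈ alternatingGroup {x // x ∉ four4 a b c d} := by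
    rw [mem_alternatingGroup, ← Equiv.Perm.sign_ofSubtype]
    change Perm.sign (f (σ.subtypePerm hp)) = 1
    rw [hσf]
    exact mem_alternatingGroup.1 hσ
  have hle : alternatingGroup {x // x ∉ four4 a b c d} ≤ H.comap f := by
    rw [← closure_three_cycles_eq_alternating, Subgroup.closure_le]
    intro τ hτ
    obtain ⟨i, j, k, hij, hjk, hik, rfl⟩ := PermTypes.exists_eq_cyc hτ
    show f (cyc i j k) ∈ H
    have : f (cyc i j k) = cyc (i : α) j k := by
      show ofSubtype (swap i j * swap j k) = _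
      rw [map_mul, ofSubtype_swap_eq, ofSubtype_swap_eq]
      rfl
    rw [this]
    exact hH i j k i.2 j.2 k.2 (fun e => hij (Subtype.ext e)) (fun e => hjk (Subtype.ext e))
      (fun e => hik (Subtype.ext e))
  rw [← hσf]
  exact hle halt

end four

/-! ### the points of a four-group -/

theorem Two.exists_points [Finite G] (L : Lab A α) (L' : Lab B α) (h : Two A B)
    (hα : 7 ≤ Fintype.card α) (hF : Two.HasFour A) :
    ∃ a b c d : α, [a, b, c, d].Nodup ∧ (∃ v ∈ A, v ∈ C B ∧ L.φ v = swap a b * swap c d) ∧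
      ∃ v ∈ A, v ∈ C B ∧ L.φ v = swap a c * swap b d := by
  have hA := h.caseA L L' hα hF
  obtain ⟨v, hv, v', hv', h1, h2, h3, h4, h5, h6⟩ := hF.of_cj h.cj
  obtain ⟨hx, hx', hx1, hx1', hne, hxx, hxx', hc⟩ := h.img_four L hv hv' h1 h2 h3 h4 h5 h6
  have hgood := L.img_good h.teA h.cj h.ne hα hx hx1 hxx
  obtain ⟨s, hs, hs'⟩ := hgood.caseA hA hx hx' hx1 hx1' hxx hxx' hc hne
  set x := L.φ v with hxdef
  set x' := L.φ v' with hxdef'
  have hx2 : ∀ k, x (x k) = k := PermTypes.app_app hxx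
  have hx2' : ∀ k, x' (x' k) = k := PermTypes.app_app hxx'
  have hcom : ∀ k, x' (x k) = x (x' k) := fun k => by rw [← mul_apply, hc, mul_apply]
  set b := x s with hb
  set c := x' s with hc'
  set d := x c with hd
  obtain ⟨⟨m1, m2, m3⟩, ⟨m4, m5⟩, m6⟩ := PermTypes.of_nodup_four hs
  have hxeq : x = swap s b * swap c d := by
    have e1 := d1_apply hs
    ext i
    by_cases i1 : i = s
    · rw [i1, e1.1]
    by_cases i2 : i = b
    · rw [i2, e1.2.1, hb, hx2]
    by_cases i3 : i = c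
    · rw [i3, e1.2.2.1]
    by_cases i4 : i = d
    · rw [i4, e1.2.2.2, hd, hx2]
    rw [d1_fix i1 i2 i3 i4, (hs' i i1 i2 i3 i4).1]
  have n1 : [s, c, b, d].Nodup := PermTypes.nodup_four m2 m1 m3 (Ne.symm m4) m6 m5
  have hxeq' : x' = swap s c * swap b d := by
    have e1 := d1_apply n1
    ext i
    by_cases i1 : i = s
    · rw [i1, e1.1]
    by_cases i2 : i = c
    · rw [i2, e1.2.1, hc', hx2']
    by_cases i3 : i = b
    · rw [i3, e1.2.2.1, hb, hcom]
    by_cases i4 : i = d
    · rw [i4, e1.2.2.2, hd, hcom, hc', hx2']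
    rw [d1_fix i1 i2 i3 i4, (hs' i i1 i3 i2 i4).2]
  -- two further points
  obtain ⟨e, he⟩ := PermTypes.exists_notMem ({s, b, c, d} : Finset α)
    (lt_of_le_of_lt Finset.card_le_four (by omega))
  obtain ⟨f, hf⟩ := PermTypes.exists_notMem (insert e ({s, b, c, d} : Finset α))
    (lt_of_le_of_lt (Finset.card_insert_le _ _)
      (lt_of_le_of_lt (Nat.add_le_add_right Finset.card_le_four _) (by omega)))
  simp only [Finset.mem_insert, Finset.mem_singleton, not_or] at he hf
  have n2 : [s, d, b, c].Nodup := PermTypes.nodup_four m3 m1 m2 (Ne.symm m5) (Ne.symm m6) m4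
  have hdd : swap s b * swap c d ∈ L.img (C B) := hxeq ▸ hx
  have hdd' : swap s c * swap b d ∈ L.img (C B) := hxeq' ▸ hx'
  refine ⟨s, b, c, d, hs, ?_, ?_⟩
  · -- `[(s b)(e f), x'] = x`
    have hef : [s, b, e, f].Nodup := PermTypes.nodup_four m1 (Ne.symm he.1) (Ne.symm hf.2.1)
      (Ne.symm he.2.1) (Ne.symm hf.2.2.1) (Ne.symm hf.1)
    have h7 := (L.norm_img h.teA h.cj h.ne hx hx1 hxx
      (PermTypes.swap_mul_mem m1 (Ne.symm hf.1)) (w := swap s b * swap e f) (by
        rw [hxeq]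
        apply PermTypes.comm_mul
        · rw [← mul_assoc, swap_mul_self, one_mul, mul_assoc, ← PermTypes.swap_swap_comm hs,
            ← mul_assoc, swap_mul_self, one_mul]
        · rw [← mul_assoc, ← PermTypes.swap_swap_comm hef, mul_assoc, mul_assoc]
          congr 1
          exact PermTypes.swap_swap_comm (PermTypes.nodup_four (Ne.symm hf.1) he.2.2.1 he.2.2.2
            hf.2.2.2.1 hf.2.2.2.2 m6)) hdd').2
    have e1 : swap s b * swap e f * (swap s c * swap b d) * (swap s b * swap e f)⁻¹ *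
        (swap s c * swap b d)⁻¹ = swap s b * swap c d := by
      have e2 : swap s b * swap e f * (swap s c * swap b d) * (swap s b * swap e f)⁻¹ =
          swap s d * swap b c := by
        have a1 := d1_apply hef
        rw [show swap s b * swap e f * (swap s c * swap b d) * (swap s b * swap e f)⁻¹ =
          (swap s b * swap e f * swap s c * (swap s b * swap e f)⁻¹) *
          (swap s b * swap e f * swap b d * (swap s b * swap e f)⁻¹) by group,
          PermTypes.swap_conj, PermTypes.swap_conj, a1.1, a1.2.1,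
          d1_fix (Ne.symm m2) (Ne.symm m4) (Ne.symm he.2.2.1) (Ne.symm hf.2.2.2.1),
          d1_fix (Ne.symm m3) (Ne.symm m5) (Ne.symm he.2.2.2) (Ne.symm hf.2.2.2.2)]
        exact (PermTypes.swap_swap_comm n2).symm
      rw [e2, inv_eq_of_mul_eq_one_left (d1_sq n1), ← d1_mul_d2 hs, mul_assoc, d1_sq n1, mul_one]
    rw [e1] at h7
    obtain ⟨z, hz, -, hzφ⟩ := L.mem_img.1 h7
    exact ⟨z, (mem_inf.1 hz).2, (mem_inf.1 hz).1, hzφ⟩
  · -- `[(s c)(e f), x] = x'`
    have hef : [s, c, e, f].Nodup := PermTypes.nodup_four m2 (Ne.symm he.1) (Ne.symm hf.2.1)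
      (Ne.symm he.2.2.1) (Ne.symm hf.2.2.2.1) (Ne.symm hf.1)
    have h7 := (L.norm_img h.teA h.cj h.ne hx' hx1' hxx'
      (PermTypes.swap_mul_mem m2 (Ne.symm hf.1)) (w := swap s c * swap e f) (by
        rw [hxeq']
        apply PermTypes.comm_mul
        · rw [← mul_assoc, swap_mul_self, one_mul, mul_assoc, ← PermTypes.swap_swap_comm n1,
            ← mul_assoc, swap_mul_self, one_mul]
        · rw [← mul_assoc, ← PermTypes.swap_swap_comm hef, mul_assoc, mul_assoc]
          congr 1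
          exact PermTypes.swap_swap_comm (PermTypes.nodup_four (Ne.symm hf.1) he.2.1 he.2.2.2
            hf.2.2.1 hf.2.2.2.2 m5)) hdd).2
    have e1 : swap s c * swap e f * (swap s b * swap c d) * (swap s c * swap e f)⁻¹ *
        (swap s b * swap c d)⁻¹ = swap s c * swap b d := by
      have e2 : swap s c * swap e f * (swap s b * swap c d) * (swap s c * swap e f)⁻¹ =
          swap s d * swap b c := by
        have a1 := d1_apply hef
        rw [show swap s c * swap e f * (swap s b * swap c d) * (swap s c * swap e f)⁻¹ =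
          (swap s c * swap e f * swap s b * (swap s c * swap e f)⁻¹) *
          (swap s c * swap e f * swap c d * (swap s c * swap e f)⁻¹) by group,
          PermTypes.swap_conj, PermTypes.swap_conj, a1.1, a1.2.1,
          d1_fix (Ne.symm m1) m4 (Ne.symm he.2.1) (Ne.symm hf.2.2.1),
          d1_fix (Ne.symm m3) (Ne.symm m6) (Ne.symm he.2.2.2) (Ne.symm hf.2.2.2.2), swap_comm c b]
        exact (PermTypes.swap_swap_comm n2).symm
      rw [e2, inv_eq_of_mul_eq_one_left (d1_sq hs), ← d1_mul_d2 hs, d1_comm_d2 hs, mul_assoc,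
        d1_sq hs, mul_one]
    rw [e1] at h7
    obtain ⟨z, hz, -, hzφ⟩ := L.mem_img.1 h7
    exact ⟨z, (mem_inf.1 hz).2, (mem_inf.1 hz).1, hzφ⟩

/-- a permutation moving four given points to four given points -/
theorem exists_perm_four {a b c d a' b' c' d' : α} (h : [a, b, c, d].Nodup)
    (h' : [a', b', c', d'].Nodup) : ∃ τ : Perm α, τ a' = a ∧ τ b' = b ∧ τ c' = c ∧ τ d' = d := by
  obtain ⟨⟨h1, h2, h3⟩, ⟨h4, h5⟩, h6⟩ := PermTypes.of_nodup_four h
  obtain ⟨⟨k1, k2, k3⟩, ⟨k4, k5⟩, k6⟩ := PermTypes.of_nodup_four h'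
  -- successive swaps
  obtain ⟨τ₁, t1⟩ : ∃ τ : Perm α, τ a' = a := ⟨swap a' a, swap_apply_left _ _⟩
  obtain ⟨τ₂, t2, t3⟩ : ∃ τ : Perm α, τ a' = a ∧ τ b' = b := by
    refine ⟨swap (τ₁ b') b * τ₁, ?_, ?_⟩
    · rw [mul_apply, t1, swap_apply_of_ne_of_ne _ h1]
      rw [← t1]
      exact fun e => k1 (τ₁.injective e)
    · rw [mul_apply, swap_apply_left]
  obtain ⟨τ₃, t4, t5, t6⟩ : ∃ τ : Perm α, τ a' = a ∧ τ b' = b ∧ τ c' = c := by
    refine ⟨swap (τ₂ c') c * τ₂, ?_, ?_, ?_⟩
    · rw [mul_apply, t2, swap_apply_of_ne_of_ne _ h2]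
      rw [← t2]
      exact fun e => k2 (τ₂.injective e)
    · rw [mul_apply, t3, swap_apply_of_ne_of_ne _ h4]
      rw [← t3]
      exact fun e => k4 (τ₂.injective e)
    · rw [mul_apply, swap_apply_left]
  refine ⟨swap (τ₃ d') d * τ₃, ?_, ?_, ?_, ?_⟩
  · rw [mul_apply, t4, swap_apply_of_ne_of_ne _ h3]
    rw [← t4]
    exact fun e => k3 (τ₃.injective e)
  · rw [mul_apply, t5, swap_apply_of_ne_of_ne _ h5]
    rw [← t5]
    exact fun e => k5 (τ₃.injective e)
  · rw [mul_apply, t6, swap_apply_of_ne_of_ne _ h6]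
    rw [← t6]
    exact fun e => k6 (τ₃.injective e)
  · rw [mul_apply, swap_apply_left]

/-- The data of a pair of type two. -/
structure PD (A B : Subgroup G) (α : Type*) [Fintype α] [DecidableEq α] where
  /-- labelling of `A` -/
  L : Lab A α
  /-- labelling of `B` -/
  L' : Lab B α
  two : Two A B
  card : 7 ≤ Fintype.card α
  four : Two.HasFour A
  /-- the four points -/
  a : α
  /-- the four points -/
  b : α
  /-- the four points -/
  c : α
  /-- the four points -/
  d : α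
  nd : [a, b, c, d].Nodup
  ex₁ : ∃ v ∈ A, v ∈ C B ∧ L.φ v = swap a b * swap c d
  ex₂ : ∃ v ∈ A, v ∈ C B ∧ L.φ v = swap a c * swap b d
  ex₁' : ∃ v ∈ B, v ∈ C A ∧ L'.φ v = swap a b * swap c d
  ex₂' : ∃ v ∈ B, v ∈ C A ∧ L'.φ v = swap a c * swap b d

namespace PD

/-- the symmetric pair -/
def symm (D : PD A B α) : PD B A α where
  L := D.L'
  L' := D.L
  two := D.two.symm
  card := D.card
  four := D.four.of_cj D.two.cj
  a := D.a
  b := D.b
  c := D.c
  d := D.d
  nd := D.nd
  ex₁ := D.ex₁'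
  ex₂ := D.ex₂'
  ex₁' := D.ex₁
  ex₂' := D.ex₂

end PD

theorem exists_pd [Finite G] (L : Lab A α) (L' : Lab B α) (h : Two A B)
    (hα : 7 ≤ Fintype.card α) (hF : Two.HasFour A) :
    ∃ D : PD A B α, D.L = L ∧ ∃ τ : Perm α, D.L' = L'.relabel τ := by
  obtain ⟨a, b, c, d, hnd, h1, h2⟩ := h.exists_points L L' hα hF
  obtain ⟨a', b', c', d', hnd', h1', h2'⟩ := h.symm.exists_points L' L hα (hF.of_cj h.cj)
  obtain ⟨τ, t1, t2, t3, t4⟩ := exists_perm_four hnd hnd'
  refine ⟨⟨L, L'.relabel τ, h, hα, hF, a, b, c, d, hnd, h1, h2, ?_, ?_⟩, rfl, τ, rfl⟩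
  · obtain ⟨v, hv, hv', e⟩ := h1'
    refine ⟨v, hv, hv', ?_⟩
    rw [Lab.relabel_φ, e, show τ * (swap a' b' * swap c' d') * τ⁻¹ =
      (τ * swap a' b' * τ⁻¹) * (τ * swap c' d' * τ⁻¹) by group, PermTypes.swap_conj,
      PermTypes.swap_conj, t1, t2, t3, t4]
  · obtain ⟨v, hv, hv', e⟩ := h2'
    refine ⟨v, hv, hv', ?_⟩
    rw [Lab.relabel_φ, e, show τ * (swap a' c' * swap b' d') * τ⁻¹ =
      (τ * swap a' c' * τ⁻¹) * (τ * swap b' d' * τ⁻¹) by group, PermTypes.swap_conj,
      PermTypes.swap_conj, t1, t2, t3, t4]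

end Cfsg.Agent.StdAlt
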