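import Cfsg.Agent.StdAlt.Carm
import Cfsg.Agent.StdAlt.Closing
import Cfsg.Agent.StdAlt.PairData

/-!
# From a root element to the normal alternating subgroup

`Final.Data`: a pair of conjugates `A ≠ B` with labellings such that an element `v ∈ B` of order three commutes with
the stabilizer in `A` of a point. Then the conjugates of `B` under `A` generate an alternating group of degree four
more than the degree of `A`, which is normal in the whole group.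
-/

set_option autoImplicit false
set_option linter.unusedSectionVars false

namespace Cfsg.Agent.StdAlt.Final

open Subgroup Equiv Equiv.Perm Cfsg.Agent.StdAlt.Conj Cfsg.Agent.StdAlt.Pairs
open Cfsg.Agent.StdAlt.PermTypes (cyc)
open Cfsg.Agent.StdAlt.Roots (IsRoot)

/-! ### permutations -/

section perms

variable {Ω : Type*} [Fintype Ω] [DecidableEq Ω]

/-- an even permutation moving four given points to four given points -/
theorem exists_even_four (h6 : 6 ≤ Fintype.card Ω) {a b c d a' b' c' d' : Ω}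
    (h : [a, b, c, d].Nodup) (h' : [a', b', c', d'].Nodup) :
    ∃ τ ∈ alternatingGroup Ω, τ a' = a ∧ τ b' = b ∧ τ c' = c ∧ τ d' = d := by
  obtain ⟨τ, h1, h2, h3, h4⟩ := exists_perm_four h h'
  obtain ⟨i, hi⟩ := PermTypes.exists_notMem ({a, b, c, d} : Finset Ω)
    (lt_of_le_of_lt Finset.card_le_four (by omega))
  obtain ⟨j, hj⟩ := PermTypes.exists_notMem (insert i ({a, b, c, d} : Finset Ω))
    (lt_of_le_of_lt (Finset.card_insert_le _ _)
      (lt_of_le_of_lt (Nat.add_le_add_right Finset.card_le_four _) (by omega)))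
  simp only [Finset.mem_insert, Finset.mem_singleton, not_or] at hi hj
  rcases Int.units_eq_one_or (Perm.sign τ) with h5 | h5
  · exact ⟨τ, mem_alternatingGroup.2 h5, h1, h2, h3, h4⟩
  · refine ⟨swap i j * τ, ?_, ?_, ?_, ?_, ?_⟩
    · rw [mem_alternatingGroup, map_mul, h5, sign_swap (Ne.symm hj.1)]; rfl
    · rw [mul_apply, h1, swap_apply_of_ne_of_ne (Ne.symm hi.1) (Ne.symm hj.2.1)]
    · rw [mul_apply, h2, swap_apply_of_ne_of_ne (Ne.symm hi.2.1) (Ne.symm hj.2.2.1)]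
    · rw [mul_apply, h3, swap_apply_of_ne_of_ne (Ne.symm hi.2.2.1) (Ne.symm hj.2.2.2.1)]
    · rw [mul_apply, h4, swap_apply_of_ne_of_ne (Ne.symm hi.2.2.2) (Ne.symm hj.2.2.2.2)]

/-- an even permutation moving two given points to two given points -/
theorem exists_even_two (h6 : 6 ≤ Fintype.card Ω) {a b a' b' : Ω} (h : a ≠ b) (h' : a' ≠ b') :
    ∃ τ ∈ alternatingGroup Ω, τ a' = a ∧ τ b' = b := by
  have key : ∀ a b : Ω, a ≠ b → ∃ c d : Ω, [a, b, c, d].Nodup := by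
    intro a b h
    obtain ⟨c, hc⟩ := PermTypes.exists_notMem ({a, b} : Finset Ω)
      (lt_of_le_of_lt Finset.card_le_two (by omega))
    obtain ⟨d, hd⟩ := PermTypes.exists_notMem ({a, b, c} : Finset Ω)
      (lt_of_le_of_lt Finset.card_le_three (by omega))
    simp only [Finset.mem_insert, Finset.mem_singleton, not_or] at hc hd
    exact ⟨c, d, PermTypes.nodup_four h (Ne.symm hc.1) (Ne.symm hd.1) (Ne.symm hc.2)
      (Ne.symm hd.2.1) (Ne.symm hd.2.2)⟩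
  obtain ⟨c, d, h1⟩ := key a b h
  obtain ⟨c', d', h2⟩ := key a' b' h'
  obtain ⟨τ, h3, h4, h5, -⟩ := exists_even_four h6 h1 h2
  exact ⟨τ, h3, h4, h5⟩

theorem cyc_mul_cyc {i j a b : Ω} (hja : j ≠ a) (hjb : j ≠ b) : cyc i a b * cyc j a b = swap i a * swap j b := by
  unfold cyc
  have h := PermTypes.swap_conj (swap a b) j a
  rw [swap_inv, swap_apply_of_ne_of_ne hja hjb, swap_apply_left] at h
  rw [← h]; group

theorem cyc_sq {i j a b : Ω} (hij : i ≠ j) (hia : i ≠ a) (hib : i ≠ b) (hja : j ≠ a)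
    (hjb : j ≠ b) (hab : a ≠ b) : (cyc i a b * cyc j a b) ^ 2 = 1 :=
  Cfsg.Agent.Lib.AltCarmichael.two_sq hij hia hib hja hjb hab

/-- equality of two cycles -/
theorem cyc_eq {p c d p' c' d' : Ω} (h1 : p ≠ c) (h2 : p ≠ d) (h3 : c ≠ d) (h1' : p' ≠ c')
    (h2' : p' ≠ d') (h3' : c' ≠ d') (h : cyc p c d = cyc p' c' d') :
    (p = p' ∧ c = c' ∧ d = d') ∨ (p = c' ∧ c = d' ∧ d = p') ∨ (p = d' ∧ c = p' ∧ d = c') := by
  have e1 : cyc p c d p = c := PermTypes.cyc_apply_fst h2 h1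
  have e2 : cyc p c d c = d := PermTypes.cyc_apply_snd h2 h3
  have e3 : cyc p c d d = p := PermTypes.cyc_apply_thd
  rw [h] at e1 e2 e3
  have f1 : cyc p' c' d' p' = c' := PermTypes.cyc_apply_fst h2' h1'
  have f2 : cyc p' c' d' c' = d' := PermTypes.cyc_apply_snd h2' h3'
  have f3 : cyc p' c' d' d' = p' := PermTypes.cyc_apply_thd
  by_cases k1 : p = p'
  · left
    subst k1
    rw [f1] at e1
    subst e1
    rw [f2] at e2
    exact ⟨rfl, rfl, e2.symm⟩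
  by_cases k2 : p = c'
  · right; left
    subst k2
    rw [f2] at e1
    subst e1
    rw [f3] at e2
    exact ⟨rfl, rfl, e2.symm⟩
  by_cases k3 : p = d'
  · right; right
    subst k3
    rw [f3] at e1
    subst e1
    rw [f1] at e2
    exact ⟨rfl, rfl, e2.symm⟩
  rw [PermTypes.cyc_apply_of_ne k1 k2 k3] at e1
  exact absurd e1 h1

theorem swap4_conj (l : Perm Ω) (x y z w : Ω) :
    l * (swap x y * swap z w) * l⁻¹ = swap (l x) (l y) * swap (l z) (l w) := by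
  rw [← PermTypes.swap_conj, ← PermTypes.swap_conj]; group

end perms

variable {G : Type*} [Group G]

/-- The input of the identification. -/
structure Data (A B : Subgroup G) (α β : Type*) [Fintype α] [DecidableEq α] [Fintype β]
    [DecidableEq β] where
  te : TE A
  simple : IsSimpleGroup A
  cj : Cj A B
  /-- labelling of `A` -/
  L : Lab A α
  /-- labelling of `B` -/
  L' : Lab B β
  card : 6 ≤ Fintype.card α
  card' : 6 ≤ Fintype.card β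
  /-- the four points for `A` -/
  (a b c d : α)
  /-- the four points for `B` -/
  (a' b' c' d' : β)
  nd : [a, b, c, d].Nodup
  nd' : [a', b', c', d'].Nodup
  ex : ∃ v ∈ A, v ∈ C B ∧ L.φ v = swap a b * swap c d
  hK : ∀ y ∈ B, L'.φ y ∈ alternatingGroup β → (∀ i ∉ four4 a' b' c' d', L'.φ y i = i) → y ∈ C A
  /-- a point of `A` -/
  i₀ : α
  /-- a further point of `B` -/
  p₀ : β
  hp₀ : p₀ ∉ four4 a' b' c' d'
  /-- the root element -/
  v : G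
  hv : v ∈ B
  hvφ : L'.φ v = cyc p₀ c' d'
  hcomm : ∀ x ∈ A, L.φ x i₀ = i₀ → x * v = v * x
  hF : ∀ p ∉ four4 a' b' c' d', p ≠ p₀ → ∃ g ∈ A, g ∈ N B ∧ L'.φ g c' = c' ∧ L'.φ g d' = d' ∧
    L'.φ g p₀ = p
  hne : ∃ y ∈ B, y ∈ N A ∧ y ∉ C A
  hpairs : ∀ A', Cj A A' → A' ≠ A → 4 ∣ Nat.card ↥(C A ⊓ N A') →
    ∃ x ∈ A, x ∈ C A' ∧ IsRoot (L.φ x)

namespace Data

variable {A B : Subgroup G} {α β : Type*} [Fintype α] [DecidableEq α] [Fintype β] [DecidableEq β]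
  (D : Data A B α β)

include D

theorem te' : TE B := D.te.of_cj D.cj

theorem ne_c' : D.p₀ ≠ D.c' := fun h => D.hp₀ (mem_four4.2 (Or.inr (Or.inr (Or.inl h))))

theorem ne_d' : D.p₀ ≠ D.d' := fun h => D.hp₀ (mem_four4.2 (Or.inr (Or.inr (Or.inr h))))

theorem ne_a' : D.p₀ ≠ D.a' := fun h => D.hp₀ (mem_four4.2 (Or.inl h))

theorem ne_b' : D.p₀ ≠ D.b' := fun h => D.hp₀ (mem_four4.2 (Or.inr (Or.inl h)))

theorem cd' : D.c' ≠ D.d' := (PermTypes.of_nodup_four D.nd').2.2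

theorem ac' : D.a' ≠ D.c' := (PermTypes.of_nodup_four D.nd').1.2.1

theorem ad' : D.a' ≠ D.d' := (PermTypes.of_nodup_four D.nd').1.2.2

theorem ab' : D.a' ≠ D.b' := (PermTypes.of_nodup_four D.nd').1.1

theorem bc' : D.b' ≠ D.c' := (PermTypes.of_nodup_four D.nd').2.1.1

theorem bd' : D.b' ≠ D.d' := (PermTypes.of_nodup_four D.nd').2.1.2

/-- powers and products in `B` can be computed on labels -/
theorem eq_one' {x : G} (hx : x ∈ B) (h : D.L'.φ x = 1) : x = 1 := D.L'.eq_one D.te' hx h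

theorem cube_of {x : G} (hx : x ∈ B) {p : β} (h : D.L'.φ x = cyc p D.c' D.d') (h1 : p ≠ D.c')
    (h2 : p ≠ D.d') : x ^ 3 = 1 := by
  apply D.eq_one' (pow_mem hx 3)
  rw [D.L'.pow (le_N hx), h, PermTypes.cyc_pow_three h1 D.cd' h2]

theorem sq_of {x y : G} (hx : x ∈ B) (hy : y ∈ B) {p q : β} (h : D.L'.φ x = cyc p D.c' D.d')
    (h1 : p ≠ D.c') (h2 : p ≠ D.d') (h' : D.L'.φ y = cyc q D.c' D.d') (h1' : q ≠ D.c')
    (h2' : q ≠ D.d') (hpq : p ≠ q) : (x * y) ^ 2 = 1 := by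
  apply D.eq_one' (pow_mem (mul_mem hx hy) 2)
  rw [D.L'.pow (le_N (mul_mem hx hy)), D.L'.mul _ _ (le_N hx) (le_N hy), h, h',
    cyc_sq hpq h1 h2 h1' h2' D.cd']

theorem v_cube : D.v ^ 3 = 1 := D.cube_of D.hv D.hvφ D.ne_c' D.ne_d'

theorem v_ne : D.v ≠ 1 := by
  intro h
  have h1 := D.hvφ
  rw [h, D.L'.one] at h1
  have h2 : cyc D.p₀ D.c' D.d' D.p₀ = D.c' := PermTypes.cyc_apply_fst D.ne_d' D.ne_c'
  rw [← h1] at h2
  exact D.ne_c' h2

/-- the two root elements centralizing `A` -/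
theorem exists_k (p : β) (hp : p ∈ four4 D.a' D.b' D.c' D.d') (h1 : p ≠ D.c') (h2 : p ≠ D.d') :
    ∃ x ∈ B, x ∈ C A ∧ D.L'.φ x = cyc p D.c' D.d' := by
  obtain ⟨x, hx, hxφ⟩ := D.L'.lift (cyc p D.c' D.d') (PermTypes.cyc_mem_alt h1 D.cd')
  refine ⟨x, hx, D.hK x hx (D.L'.even x hx) ?_, hxφ⟩
  intro i hi
  rw [hxφ, PermTypes.cyc_apply_of_ne]
  · rintro rfl; exact hi hp
  · rintro rfl; exact hi (mem_four4.2 (Or.inr (Or.inr (Or.inl rfl))))
  · rintro rfl; exact hi (mem_four4.2 (Or.inr (Or.inr (Or.inr rfl))))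

/-- the family of root elements indexed by the points of `A` -/
theorem exists_w : ∃ w : α → G, w D.i₀ = D.v ∧ (∀ g ∈ A, ∀ i, g * w i * g⁻¹ = w (D.L.φ g i)) ∧
    ∀ i, ∃ g ∈ A, w i = g * D.v * g⁻¹ := by
  have h1 : ∀ i, ∃ g ∈ A, D.L.φ g D.i₀ = i := by
    intro i
    by_cases h : i = D.i₀
    · exact ⟨1, one_mem _, by rw [D.L.one, one_apply, h]⟩
    · obtain ⟨j, hj⟩ := PermTypes.exists_notMem ({D.i₀, i} : Finset α)
        (lt_of_le_of_lt Finset.card_le_two (by have := D.card; omega))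
      simp only [Finset.mem_insert, Finset.mem_singleton, not_or] at hj
      obtain ⟨g, hg, hgφ⟩ := D.L.lift (cyc D.i₀ i j)
        (PermTypes.cyc_mem_alt (Ne.symm h) (Ne.symm hj.2))
      exact ⟨g, hg, by rw [hgφ, PermTypes.cyc_apply_fst (Ne.symm hj.1) (Ne.symm h)]⟩
  choose k hk hkφ using h1
  have hkey : ∀ g ∈ A, ∀ h ∈ A, D.L.φ g D.i₀ = D.L.φ h D.i₀ → g * D.v * g⁻¹ = h * D.v * h⁻¹ := by
    intro g hg h hh heq
    have h2 := D.hcomm (h⁻¹ * g) (mul_mem (inv_mem hh) hg) (by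
      rw [D.L.mul _ _ (le_N (inv_mem hh)) (le_N hg), D.L.inv (le_N hh), mul_apply, heq,
        Perm.inv_eq_iff_eq])
    calc g * D.v * g⁻¹ = h * (h⁻¹ * g * D.v) * g⁻¹ := by group
      _ = h * (D.v * (h⁻¹ * g)) * g⁻¹ := by rw [h2]
      _ = h * D.v * h⁻¹ := by group
  refine ⟨fun i => k i * D.v * (k i)⁻¹, ?_, ?_, fun i => ⟨k i, hk i, rfl⟩⟩
  · have := hkey (k D.i₀) (hk _) 1 (one_mem _) (by rw [hkφ, D.L.one, one_apply])
    show k D.i₀ * D.v * (k D.i₀)⁻¹ = D.v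
    rw [this, one_mul, inv_one, mul_one]
  · intro g hg i
    have := hkey (g * k i) (mul_mem hg (hk i)) (k (D.L.φ g i)) (hk _) (by
      rw [D.L.mul _ _ (le_N hg) (le_N (hk i)), mul_apply, hkφ, hkφ])
    show g * (k i * D.v * (k i)⁻¹) * g⁻¹ = k (D.L.φ g i) * D.v * (k (D.L.φ g i))⁻¹
    rw [← this]; group

/-- some further conjugate of `v` in `B` -/
theorem exists_v' (p : β) (hp : p ∉ four4 D.a' D.b' D.c' D.d') :
    ∃ g ∈ A, g * D.v * g⁻¹ ∈ B ∧ D.L'.φ (g * D.v * g⁻¹) = cyc p D.c' D.d' := by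
  by_cases h : p = D.p₀
  · refine ⟨1, one_mem _, ?_, ?_⟩
    · rw [one_mul, inv_one, mul_one]; exact D.hv
    · rw [one_mul, inv_one, mul_one, D.hvφ, h]
  · obtain ⟨g, hg, hgB, h1, h2, h3⟩ := D.hF p hp h
    refine ⟨g, hg, conj_mem hgB D.hv, ?_⟩
    rw [D.L'.conj hgB (le_N D.hv), D.hvφ, PermTypes.cyc_conj, h1, h2, h3]

theorem exists_p₁ : ∃ p, p ∉ four4 D.a' D.b' D.c' D.d' ∧ p ≠ D.p₀ := by
  obtain ⟨j, hj⟩ := PermTypes.exists_notMem (insert D.p₀ (four4 D.a' D.b' D.c' D.d') : Finset β)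
    (lt_of_le_of_lt (Finset.card_insert_le _ _)
      (lt_of_le_of_lt (Nat.add_le_add_right Finset.card_le_four _) (by have := D.card'; omega)))
  rw [Finset.mem_insert, not_or] at hj
  exact ⟨j, hj.2, hj.1⟩

/-- **the Carmichael relations**: the set `α ⊕ Fin 4` with `c = inr 2`, `d = inr 3` -/
theorem exists_y : ∃ y : α ⊕ Fin 4 → G, y (Sum.inl D.i₀) = D.v ∧
    (∀ g ∈ A, ∀ i, g * y (Sum.inl i) * g⁻¹ = y (Sum.inl (D.L.φ g i))) ∧
    (∀ i, ∃ g ∈ A, y (Sum.inl i) = g * D.v * g⁻¹) ∧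
    (y (Sum.inr 0) ∈ B ∧ y (Sum.inr 0) ∈ C A ∧ D.L'.φ (y (Sum.inr 0)) = cyc D.a' D.c' D.d') ∧
    (y (Sum.inr 1) ∈ B ∧ y (Sum.inr 1) ∈ C A ∧ D.L'.φ (y (Sum.inr 1)) = cyc D.b' D.c' D.d') ∧
    (∀ ω, ω ≠ Sum.inr 2 → ω ≠ Sum.inr 3 → y ω ^ 3 = 1) ∧
    ∀ ω τ, ω ≠ Sum.inr 2 → ω ≠ Sum.inr 3 → τ ≠ Sum.inr 2 → τ ≠ Sum.inr 3 → ω ≠ τ →
      (y ω * y τ) ^ 2 = 1 := by
  obtain ⟨w, hw1, hw2, hw3⟩ := D.exists_w
  obtain ⟨x₀, hx₀, hx₀C, hx₀φ⟩ := D.exists_k D.a' (mem_four4.2 (Or.inl rfl)) D.ac' D.ad'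
  obtain ⟨x₁, hx₁, hx₁C, hx₁φ⟩ := D.exists_k D.b' (mem_four4.2 (Or.inr (Or.inl rfl))) D.bc' D.bd'
  have hc : ∀ {x g : G}, x ∈ C A → g ∈ A → g * x * g⁻¹ = x := fun hx hg => by
    rw [← comm_of_C hx hg, mul_inv_cancel_right]
  have hconj3 : ∀ (x g : G), x ^ 3 = 1 → (g * x * g⁻¹) ^ 3 = 1 := by
    intro x g h
    rw [conj_pow, h, mul_one, mul_inv_cancel]
  have hconj2 : ∀ (x y g : G), (x * y) ^ 2 = 1 → (g * x * g⁻¹ * (g * y * g⁻¹)) ^ 2 = 1 := by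
    intro x y g h
    rw [show g * x * g⁻¹ * (g * y * g⁻¹) = g * (x * y) * g⁻¹ by group, conj_pow, h, mul_one,
      mul_inv_cancel]
  have hw3' : ∀ i, w i ^ 3 = 1 := by
    intro i
    obtain ⟨g, hg, hgi⟩ := hw3 i
    rw [hgi]
    exact hconj3 _ _ D.v_cube
  -- two of the conjugates
  obtain ⟨p, hp, hpp⟩ := D.exists_p₁
  obtain ⟨g₁, hg₁, hg₁B, hg₁φ⟩ := D.exists_v' p hp
  have hpc : p ≠ D.c' := fun h => hp (mem_four4.2 (Or.inr (Or.inr (Or.inl h))))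
  have hpd : p ≠ D.d' := fun h => hp (mem_four4.2 (Or.inr (Or.inr (Or.inr h))))
  have hg₁i : D.L.φ g₁ D.i₀ ≠ D.i₀ := by
    intro h
    have h1 := D.hcomm g₁ hg₁ h
    rw [h1, mul_inv_cancel_right, D.hvφ] at hg₁φ
    have h2 := congrArg (fun f : Perm β => f p) hg₁φ
    simp only [PermTypes.cyc_apply_of_ne hpp hpc hpd, PermTypes.cyc_apply_fst hpd hpc] at h2
    exact hpc h2
  have hsq0 : (D.v * (g₁ * D.v * g₁⁻¹)) ^ 2 = 1 :=
    D.sq_of D.hv hg₁B D.hvφ D.ne_c' D.ne_d' hg₁φ hpc hpd (Ne.symm hpp)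
  have hww : ∀ i j, i ≠ j → (w i * w j) ^ 2 = 1 := by
    intro i j hij
    obtain ⟨τ, hτ, h1, h2⟩ := exists_even_two D.card hij (Ne.symm hg₁i)
    obtain ⟨h, hh, rfl⟩ := D.L.lift τ hτ
    have h3 : w i = h * D.v * h⁻¹ := by
      rw [← hw1, hw2 h hh, h1]
    have h4 : w j = h * (g₁ * D.v * g₁⁻¹) * h⁻¹ := by
      rw [← hw1, hw2 g₁ hg₁, hw2 h hh, h2]
    rw [h3, h4]
    exact hconj2 _ _ _ hsq0
  have hkw : ∀ x ∈ B, x ∈ C A → ∀ p, D.L'.φ x = cyc p D.c' D.d' → p ≠ D.c' → p ≠ D.d' →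
      p ≠ D.p₀ → ∀ i, (x * w i) ^ 2 = 1 ∧ (w i * x) ^ 2 = 1 := by
    intro x hx hxC p hp h1 h2 h3 i
    obtain ⟨g, hg, hgi⟩ := hw3 i
    have h4 := D.sq_of hx D.hv hp h1 h2 D.hvφ D.ne_c' D.ne_d' h3
    have h5 := D.sq_of D.hv hx D.hvφ D.ne_c' D.ne_d' hp h1 h2 (Ne.symm h3)
    constructor
    · rw [hgi, ← hc hxC hg]
      have := hconj2 _ _ g h4
      rwa [hc hxC hg] at this ⊢
    · rw [hgi, ← hc hxC hg]
      have := hconj2 _ _ g h5
      rwa [hc hxC hg] at this ⊢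
  have hk0 := hkw x₀ hx₀ hx₀C _ hx₀φ D.ac' D.ad' (Ne.symm D.ne_a')
  have hk1 := hkw x₁ hx₁ hx₁C _ hx₁φ D.bc' D.bd' (Ne.symm D.ne_b')
  have hx01 := D.sq_of hx₀ hx₁ hx₀φ D.ac' D.ad' hx₁φ D.bc' D.bd' D.ab'
  have hx10 := D.sq_of hx₁ hx₀ hx₁φ D.bc' D.bd' hx₀φ D.ac' D.ad' (Ne.symm D.ab')
  have hx0 := D.cube_of hx₀ hx₀φ D.ac' D.ad'
  have hx1 := D.cube_of hx₁ hx₁φ D.bc' D.bd'
  refine ⟨Sum.elim w (fun k => if k = 0 then x₀ else x₁), hw1, hw2, hw3, ⟨hx₀, hx₀C, hx₀φ⟩,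
    ⟨hx₁, hx₁C, hx₁φ⟩, ?_, ?_⟩
  · rintro (i | k) h1 h2
    · exact hw3' i
    · show (if k = 0 then x₀ else x₁) ^ 3 = 1
      split_ifs
      · exact hx0
      · exact hx1
  · rintro (i | k) (j | l) h1 h2 h3 h4 h5
    · exact hww i j (fun h => h5 (by rw [h]))
    · show (w i * (if l = 0 then x₀ else x₁)) ^ 2 = 1
      split_ifs
      · exact (hk0 i).2
      · exact (hk1 i).2
    · show ((if k = 0 then x₀ else x₁) * w j) ^ 2 = 1
      split_ifs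
      · exact (hk0 j).1
      · exact (hk1 j).1
    · have hk : k = 0 ∨ k = 1 := by
        fin_cases k <;> simp_all
      have hl : l = 0 ∨ l = 1 := by
        fin_cases l <;> simp_all
      show ((if k = 0 then x₀ else x₁) * (if l = 0 then x₀ else x₁)) ^ 2 = 1
      rcases hk with rfl | rfl <;> rcases hl with rfl | rfl
      · exact absurd rfl h5
      · exact hx01
      · exact hx10
      · exact absurd rfl h5

/-- **the alternating group**: a homomorphism mapping the cycles to the root elements -/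
theorem exists_f : ∃ (y : α ⊕ Fin 4 → G) (f : alternatingGroup (α ⊕ Fin 4) →* G),
    Function.Injective f ∧ y (Sum.inl D.i₀) = D.v ∧
    (∀ g ∈ A, ∀ i, g * y (Sum.inl i) * g⁻¹ = y (Sum.inl (D.L.φ g i))) ∧
    (∀ i, ∃ g ∈ A, y (Sum.inl i) = g * D.v * g⁻¹) ∧
    (y (Sum.inr 0) ∈ B ∧ y (Sum.inr 0) ∈ C A ∧ D.L'.φ (y (Sum.inr 0)) = cyc D.a' D.c' D.d') ∧
    (y (Sum.inr 1) ∈ B ∧ y (Sum.inr 1) ∈ C A ∧ D.L'.φ (y (Sum.inr 1)) = cyc D.b' D.c' D.d') ∧
    ∀ (σ : alternatingGroup (α ⊕ Fin 4)) (ω : α ⊕ Fin 4), ω ≠ Sum.inr 2 → ω ≠ Sum.inr 3 →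
      (σ : Perm (α ⊕ Fin 4)) = cyc ω (Sum.inr 2) (Sum.inr 3) → f σ = y ω := by
  obtain ⟨y, h1, h2, h3, h4, h5, h6, h7⟩ := D.exists_y
  have hcard : 10 ≤ Fintype.card (α ⊕ Fin 4) := by
    rw [Fintype.card_sum, Fintype.card_fin]
    have := D.card
    omega
  have hcd : (Sum.inr 2 : α ⊕ Fin 4) ≠ Sum.inr 3 := fun h => by simp at h
  obtain ⟨f, hf⟩ := Carm.exists_hom hcd (by omega) h6 h7
  refine ⟨y, f, ?_, h1, h2, h3, h4, h5, hf⟩
  have hsimple : IsSimpleGroup (alternatingGroup (α ⊕ Fin 4)) :=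
    alternatingGroup.isSimpleGroup (by rw [Nat.card_eq_fintype_card]; omega)
  rw [← MonoidHom.ker_eq_bot_iff]
  rcases (inferInstance : f.ker.Normal).eq_bot_or_eq_top with hb | ht
  · exact hb
  · exfalso
    apply D.v_ne
    rw [← h1]
    have h8 := hf ⟨cyc (Sum.inl D.i₀) (Sum.inr 2) (Sum.inr 3),
      PermTypes.cyc_mem_alt (fun h => by simp at h) hcd⟩ (Sum.inl D.i₀) (fun h => by simp at h)
      (fun h => by simp at h) rfl
    rw [← h8]
    have : (⟨cyc (Sum.inl D.i₀) (Sum.inr 2) (Sum.inr 3),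
      PermTypes.cyc_mem_alt (fun h => by simp at h) hcd⟩ : alternatingGroup (α ⊕ Fin 4)) ∈ f.ker := by
      rw [ht]; exact mem_top _
    exact this

end Data

/-- an embedding of the alternating group mapping the cycles to given elements -/
structure Emb (A B : Subgroup G) (α β : Type*) [Fintype α] [DecidableEq α] [Fintype β]
    [DecidableEq β] extends Data A B α β where
  /-- the root elements -/
  y : α ⊕ Fin 4 → G
  /-- the embedding -/
  f : alternatingGroup (α ⊕ Fin 4) →* G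
  inj : Function.Injective f
  hy₀ : y (Sum.inl i₀) = v
  hyA : ∀ g ∈ A, ∀ i, g * y (Sum.inl i) * g⁻¹ = y (Sum.inl (L.φ g i))
  hyg : ∀ i, ∃ g ∈ A, y (Sum.inl i) = g * v * g⁻¹
  hya : y (Sum.inr 0) ∈ B ∧ y (Sum.inr 0) ∈ C A ∧ L'.φ (y (Sum.inr 0)) = cyc a' c' d'
  hyb : y (Sum.inr 1) ∈ B ∧ y (Sum.inr 1) ∈ C A ∧ L'.φ (y (Sum.inr 1)) = cyc b' c' d'
  hf : ∀ (σ : alternatingGroup (α ⊕ Fin 4)) (ω : α ⊕ Fin 4), ω ≠ Sum.inr 2 → ω ≠ Sum.inr 3 →
      (σ : Perm (α ⊕ Fin 4)) = cyc ω (Sum.inr 2) (Sum.inr 3) → f σ = y ω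

theorem Data.exists_emb {A B : Subgroup G} {α β : Type*} [Fintype α] [DecidableEq α] [Fintype β]
    [DecidableEq β] (D : Data A B α β) : ∃ E : Emb A B α β, E.toData = D := by
  obtain ⟨y, f, h1, h2, h3, h4, h5, h6, h7⟩ := D.exists_f
  exact ⟨⟨D, y, f, h1, h2, h3, h4, h5, h6, h7⟩, rfl⟩

namespace Emb

variable {A B : Subgroup G} {α β : Type*} [Fintype α] [DecidableEq α] [Fintype β] [DecidableEq β]
  (E : Emb A B α β)

include E

theorem cd : (Sum.inr 2 : α ⊕ Fin 4) ≠ Sum.inr 3 := fun h => by simp at h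

theorem card_Ω : 10 ≤ Fintype.card (α ⊕ Fin 4) := by
  rw [Fintype.card_sum, Fintype.card_fin]
  have := E.card
  omega

/-- the alternating subgroup -/
def L₀ : Subgroup G := E.f.range

theorem mem_L₀ {x : G} : x ∈ E.L₀ ↔ ∃ σ, E.f σ = x := MonoidHom.mem_range

theorem f_mem (σ : alternatingGroup (α ⊕ Fin 4)) : E.f σ ∈ E.L₀ := ⟨σ, rfl⟩

theorem y_mem {ω : α ⊕ Fin 4} (h2 : ω ≠ Sum.inr 2) (h3 : ω ≠ Sum.inr 3) : E.y ω ∈ E.L₀ := by
  rw [← E.hf ⟨cyc ω (Sum.inr 2) (Sum.inr 3), PermTypes.cyc_mem_alt h2 E.cd⟩ ω h2 h3 rfl]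
  exact E.f_mem _

theorem y_cases {P : α ⊕ Fin 4 → Prop} (h1 : ∀ i, P (Sum.inl i)) (h2 : P (Sum.inr 0))
    (h3 : P (Sum.inr 1)) (ω : α ⊕ Fin 4) (h4 : ω ≠ Sum.inr 2) (h5 : ω ≠ Sum.inr 3) : P ω := by
  rcases ω with i | k
  · exact h1 i
  · have hk : k = 0 ∨ k = 1 := by
      fin_cases k <;> simp_all
    rcases hk with rfl | rfl
    · exact h2
    · exact h3

/-- an element normalizes `L₀` if it maps the root elements into `L₀` -/
theorem mem_N_of_y [Finite G] {x : G} (h : ∀ ω, ω ≠ Sum.inr 2 → ω ≠ Sum.inr 3 →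
    x * E.y ω * x⁻¹ ∈ E.L₀) : x ∈ N E.L₀ := by
  have h1 : (E.L₀.comap ((MulAut.conj x).toMonoidHom.comp E.f)) = ⊤ := by
    apply Carm.eq_top_of_cyc E.cd (by have := E.card_Ω; omega)
    intro σ ω h2 h3 h4
    rw [mem_comap]
    show x * E.f σ * x⁻¹ ∈ E.L₀
    rw [E.hf σ ω h2 h3 h4]
    exact h ω h2 h3
  apply mem_N_of
  rintro _ ⟨σ, rfl⟩
  have h2 : σ ∈ (E.L₀.comap ((MulAut.conj x).toMonoidHom.comp E.f)) := by rw [h1]; exact mem_top _
  exact h2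

theorem A_le_N [Finite G] : A ≤ N E.L₀ := by
  intro g hg
  apply E.mem_N_of_y
  refine E.y_cases (P := fun ω => g * E.y ω * g⁻¹ ∈ E.L₀) ?_ ?_ ?_
  · intro i
    rw [E.hyA g hg]
    exact E.y_mem (fun h => by simp at h) (fun h => by simp at h)
  · rw [← comm_of_C E.hya.2.1 hg, mul_inv_cancel_right]
    exact E.y_mem (fun h => by simp at h) (fun h => by simp at h)
  · rw [← comm_of_C E.hyb.2.1 hg, mul_inv_cancel_right]
    exact E.y_mem (fun h => by simp at h) (fun h => by simp at h)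

theorem B_le [Finite G] : B ≤ E.L₀ := by
  have h1 : (E.L'.img (B ⊓ E.L₀)).subgroupOf (alternatingGroup β) = ⊤ := by
    apply Carm.eq_top_of_cyc E.cd' (by have := E.card'; omega)
    intro σ p hc hd hσ
    rw [mem_subgroupOf, hσ]
    by_cases hp : p ∈ four4 E.a' E.b' E.c' E.d'
    · rcases mem_four4.1 hp with rfl | rfl | rfl | rfl
      · rw [← E.hya.2.2]
        exact E.L'.φ_mem_img (mem_inf.2 ⟨E.hya.1, E.y_mem (fun h => by simp at h)
          (fun h => by simp at h)⟩) (le_N E.hya.1)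
      · rw [← E.hyb.2.2]
        exact E.L'.φ_mem_img (mem_inf.2 ⟨E.hyb.1, E.y_mem (fun h => by simp at h)
          (fun h => by simp at h)⟩) (le_N E.hyb.1)
      · exact absurd rfl hc
      · exact absurd rfl hd
    · obtain ⟨g, hg, h2, h3⟩ := E.exists_v' p hp
      rw [← h3]
      refine E.L'.φ_mem_img (mem_inf.2 ⟨h2, ?_⟩) (le_N h2)
      rw [← E.hy₀, E.hyA g hg]
      exact E.y_mem (fun h => by simp at h) (fun h => by simp at h)
  intro x hx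
  have h2 : (⟨E.L'.φ x, E.L'.even x hx⟩ : alternatingGroup β) ∈
      (E.L'.img (B ⊓ E.L₀)).subgroupOf (alternatingGroup β) := by rw [h1]; exact mem_top _
  obtain ⟨z, hz, -, hzx⟩ := E.L'.mem_img.1 (mem_subgroupOf.1 h2)
  rw [← E.L'.inj E.te' (mem_inf.1 hz).1 hx hzx]
  exact (mem_inf.1 hz).2

theorem A_le [Finite G] : A ≤ E.L₀ := by
  have := E.simple
  have hn : (E.L₀.subgroupOf A).Normal := by
    constructor
    intro x hx g
    rw [mem_subgroupOf] at hx ⊢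
    exact conj_mem (E.A_le_N g.2) hx
  rcases hn.eq_bot_or_eq_top with h | h
  · exfalso
    obtain ⟨y, hy, hyA, hyC⟩ := E.hne
    apply hyC
    rw [mem_C]
    intro a ha
    have h1 : a * y * a⁻¹ * y⁻¹ ∈ A := by
      rw [show a * y * a⁻¹ * y⁻¹ = a * (y * a⁻¹ * y⁻¹) by group]
      exact mul_mem ha (conj_mem hyA (inv_mem ha))
    have h2 : a * y * a⁻¹ * y⁻¹ ∈ E.L₀ :=
      mul_mem (conj_mem (E.A_le_N ha) (E.B_le hy)) (inv_mem (E.B_le hy))
    have h3 : (⟨_, h1⟩ : A) ∈ E.L₀.subgroupOf A := mem_subgroupOf.2 h2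
    rw [h, mem_bot] at h3
    have h4 : a * y * a⁻¹ * y⁻¹ = 1 := congrArg Subtype.val h3
    rw [mul_inv_eq_one, mul_inv_eq_iff_eq_mul] at h4
    exact h4.symm
  · intro x hx
    have h1 : (⟨x, hx⟩ : A) ∈ E.L₀.subgroupOf A := by rw [h]; exact mem_top _
    exact mem_subgroupOf.1 h1

theorem NA_le [Finite G] : N A ≤ N E.L₀ := by
  intro x hx
  -- move the four points back
  obtain ⟨τ, hτ, h1, h2, h3, h4⟩ := exists_even_four E.card E.nd
    (E.nd.map (E.L.φ x).injective)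
  obtain ⟨g, hg, rfl⟩ := E.L.lift τ hτ
  have hgx : g * x ∈ N A := mul_mem (le_N hg) hx
  have hgφ : E.L.φ (g * x) = E.L.φ g * E.L.φ x := E.L.mul _ _ (le_N hg) hx
  obtain ⟨v, hv, hvB, hvφ⟩ := E.ex
  have hv1 : v ≠ 1 := by
    rintro rfl
    rw [E.L.one] at hvφ
    exact d1_ne E.nd hvφ.symm
  have hvv : v * v = 1 := by
    apply E.L.eq_one E.te (mul_mem hv hv)
    rw [E.L.mul _ _ (le_N hv) (le_N hv), hvφ, d1_sq E.nd]
  have hcomm : v * (g * x) = (g * x) * v := by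
    apply E.L.comm_of E.te hv hgx
    rw [hvφ, hgφ]
    have h5 : E.L.φ g * E.L.φ x * (swap E.a E.b * swap E.c E.d) * (E.L.φ g * E.L.φ x)⁻¹ =
        swap E.a E.b * swap E.c E.d := by
      rw [show E.L.φ g * E.L.φ x * (swap E.a E.b * swap E.c E.d) * (E.L.φ g * E.L.φ x)⁻¹ =
        (E.L.φ g * E.L.φ x * swap E.a E.b * (E.L.φ g * E.L.φ x)⁻¹) *
        (E.L.φ g * E.L.φ x * swap E.c E.d * (E.L.φ g * E.L.φ x)⁻¹) by group,
        PermTypes.swap_conj, PermTypes.swap_conj, mul_apply, mul_apply, mul_apply, mul_apply,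
        h1, h2, h3, h4]
    rw [mul_inv_eq_iff_eq_mul] at h5
    exact h5.symm
  have hgxB : g * x ∈ N B := E.te'.nrm hvB hv1 hvv hcomm.symm
  have hgxL : g * x ∈ N E.L₀ := by
    apply E.mem_N_of_y
    refine E.y_cases (P := fun ω => g * x * E.y ω * (g * x)⁻¹ ∈ E.L₀) ?_ ?_ ?_
    · intro i
      obtain ⟨h, hh, hhi⟩ := E.hyg i
      rw [hhi, show g * x * (h * E.v * h⁻¹) * (g * x)⁻¹ = (g * x * h * (g * x)⁻¹) *
        (g * x * E.v * (g * x)⁻¹) * (g * x * h * (g * x)⁻¹)⁻¹ by group]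
      exact mul_mem (mul_mem (E.A_le (conj_mem hgx hh)) (E.B_le (conj_mem hgxB E.hv)))
        (inv_mem (E.A_le (conj_mem hgx hh)))
    · exact E.B_le (conj_mem hgxB E.hya.1)
    · exact E.B_le (conj_mem hgxB E.hyb.1)
  have := mul_mem (inv_mem (E.A_le_N hg)) hgxL
  rwa [inv_mul_cancel_left] at this

/-- elements of `A` act on the letters as on the labels -/
theorem label {a : G} (ha : a ∈ A) {ρ : alternatingGroup (α ⊕ Fin 4)} (hρ : E.f ρ = a) :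
    (∀ i, (ρ : Perm (α ⊕ Fin 4)) (Sum.inl i) = Sum.inl (E.L.φ a i)) ∧
      ∀ k, (ρ : Perm (α ⊕ Fin 4)) (Sum.inr k) = Sum.inr k := by
  set r : Perm (α ⊕ Fin 4) := (ρ : Perm (α ⊕ Fin 4)) with hr
  -- conjugation of the cycles
  have key : ∀ ω ω', ω ≠ Sum.inr 2 → ω ≠ Sum.inr 3 → ω' ≠ Sum.inr 2 → ω' ≠ Sum.inr 3 →
      a * E.y ω * a⁻¹ = E.y ω' →
      cyc (r ω) (r (Sum.inr 2)) (r (Sum.inr 3)) = cyc ω' (Sum.inr 2) (Sum.inr 3) := by
    intro ω ω' h1 h2 h3 h4 h5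
    have e1 := E.hf ⟨cyc ω (Sum.inr 2) (Sum.inr 3), PermTypes.cyc_mem_alt h1 E.cd⟩ ω h1 h2 rfl
    have e2 := E.hf ⟨cyc ω' (Sum.inr 2) (Sum.inr 3), PermTypes.cyc_mem_alt h3 E.cd⟩ ω' h3 h4 rfl
    rw [← e1, ← e2, ← hρ, ← map_mul, ← map_inv, ← map_mul] at h5
    have h6 := congrArg Subtype.val (E.inj h5)
    rw [← PermTypes.cyc_conj]
    exact h6
  have hinj : ∀ {x y : α ⊕ Fin 4}, x ≠ y → r x ≠ r y := fun h h' => h (r.injective h')
  have h0 := key (Sum.inr 0) (Sum.inr 0) (fun h => by simp at h) (fun h => by simp at h)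
    (fun h => by simp at h) (fun h => by simp at h)
    (by rw [← comm_of_C E.hya.2.1 ha, mul_inv_cancel_right])
  have h1 := key (Sum.inr 1) (Sum.inr 1) (fun h => by simp at h) (fun h => by simp at h)
    (fun h => by simp at h) (fun h => by simp at h)
    (by rw [← comm_of_C E.hyb.2.1 ha, mul_inv_cancel_right])
  have e0 := cyc_eq (hinj (fun h => by simp at h)) (hinj (fun h => by simp at h))
    (hinj (fun h => by simp at h)) (fun h => by simp at h) (fun h => by simp at h)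
    (fun h => by simp at h) h0
  have e1 := cyc_eq (hinj (fun h => by simp at h)) (hinj (fun h => by simp at h))
    (hinj (fun h => by simp at h)) (fun h => by simp at h) (fun h => by simp at h)
    (fun h => by simp at h) h1
  have hmain : r (Sum.inr 0) = Sum.inr 0 ∧ r (Sum.inr 1) = Sum.inr 1 ∧
      r (Sum.inr 2) = Sum.inr 2 ∧ r (Sum.inr 3) = Sum.inr 3 := by
    rcases e0 with ⟨p1, p2, p3⟩ | ⟨p1, p2, p3⟩ | ⟨p1, p2, p3⟩ <;>
      rcases e1 with ⟨q1, q2, q3⟩ | ⟨q1, q2, q3⟩ | ⟨q1, q2, q3⟩ <;> simp_all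
  refine ⟨fun i => ?_, fun k => ?_⟩
  · have h2 := key (Sum.inl i) (Sum.inl (E.L.φ a i)) (fun h => by simp at h)
      (fun h => by simp at h) (fun h => by simp at h) (fun h => by simp at h) (E.hyA a ha i)
    rw [hmain.2.2.1, hmain.2.2.2] at h2
    have hne2 : r (Sum.inl i) ≠ Sum.inr 2 := by
      rw [← hmain.2.2.1]; exact hinj (fun h => by simp at h)
    have hne3 : r (Sum.inl i) ≠ Sum.inr 3 := by
      rw [← hmain.2.2.2]; exact hinj (fun h => by simp at h)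
    have e2 := cyc_eq hne2 hne3 E.cd (fun h => by simp at h) (fun h => by simp at h) E.cd h2
    rcases e2 with ⟨p1, -, -⟩ | ⟨p1, p2, p3⟩ | ⟨p1, p2, p3⟩
    · exact p1
    · exact absurd p1 hne2
    · exact absurd p1 hne3
  · fin_cases k
    · exact hmain.1
    · exact hmain.2.1
    · exact hmain.2.2.1
    · exact hmain.2.2.2

theorem isRoot_of {a : G} (ha : a ∈ A) {ρ : alternatingGroup (α ⊕ Fin 4)} (hρ : E.f ρ = a)
    (hroot : IsRoot (E.L.φ a)) : IsRoot (ρ : Perm (α ⊕ Fin 4)) := by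
  obtain ⟨h1, h2⟩ := E.label ha hρ
  constructor
  · ext ω : 1
    rw [mul_apply, one_apply]
    rcases ω with i | k
    · rw [h1, h1, ← mul_apply, hroot.1, one_apply]
    · rw [h2, h2]
  · refine Eq.trans ?_ hroot.2
    have : (ρ : Perm (α ⊕ Fin 4)).support = (E.L.φ a).support.map ⟨Sum.inl, Sum.inl_injective⟩ := by
      ext ω
      rw [mem_support, Finset.mem_map]
      rcases ω with i | k
      · rw [h1]
        constructor
        · intro h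
          exact ⟨i, mem_support.2 (fun h' => h (by rw [h'])), rfl⟩
        · rintro ⟨j, hj, hji⟩
          have : j = i := Sum.inl_injective hji
          subst this
          exact fun h' => mem_support.1 hj (Sum.inl_injective h')
      · rw [h2]
        constructor
        · intro h
          exact absurd rfl h
        · rintro ⟨j, hj, hji⟩
          have hji' : (Sum.inl j : α ⊕ Fin 4) = Sum.inr k := hji
          simp at hji'
    rw [this, Finset.card_map]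

/-- the four-group of the letters `inr k` centralizes `A` -/
theorem four_mem :
    (∀ ρ : alternatingGroup (α ⊕ Fin 4), (ρ : Perm (α ⊕ Fin 4)) =
        swap (Sum.inr 0) (Sum.inr 2) * swap (Sum.inr 1) (Sum.inr 3) → E.f ρ ∈ C A) ∧
      ∀ ρ : alternatingGroup (α ⊕ Fin 4), (ρ : Perm (α ⊕ Fin 4)) =
        swap (Sum.inr 1) (Sum.inr 2) * swap (Sum.inr 0) (Sum.inr 3) → E.f ρ ∈ C A := by
  have h02 : (Sum.inr 0 : α ⊕ Fin 4) ≠ Sum.inr 2 := fun h => by simp at h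
  have h03 : (Sum.inr 0 : α ⊕ Fin 4) ≠ Sum.inr 3 := fun h => by simp at h
  have h12 : (Sum.inr 1 : α ⊕ Fin 4) ≠ Sum.inr 2 := fun h => by simp at h
  have h13 : (Sum.inr 1 : α ⊕ Fin 4) ≠ Sum.inr 3 := fun h => by simp at h
  have e0 := E.hf ⟨cyc (Sum.inr 0) (Sum.inr 2) (Sum.inr 3), PermTypes.cyc_mem_alt h02 E.cd⟩
    (Sum.inr 0) h02 h03 rfl
  have e1 := E.hf ⟨cyc (Sum.inr 1) (Sum.inr 2) (Sum.inr 3), PermTypes.cyc_mem_alt h12 E.cd⟩
    (Sum.inr 1) h12 h13 rfl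
  constructor
  · intro ρ hρ
    rw [← cyc_mul_cyc h12 h13] at hρ
    have h1 : ρ = ⟨cyc (Sum.inr 0) (Sum.inr 2) (Sum.inr 3), PermTypes.cyc_mem_alt h02 E.cd⟩ *
      ⟨cyc (Sum.inr 1) (Sum.inr 2) (Sum.inr 3), PermTypes.cyc_mem_alt h12 E.cd⟩ := Subtype.ext hρ
    rw [h1, map_mul, e0, e1]
    exact mul_mem E.hya.2.1 E.hyb.2.1
  · intro ρ hρ
    rw [← cyc_mul_cyc h02 h03] at hρ
    have h1 : ρ = ⟨cyc (Sum.inr 1) (Sum.inr 2) (Sum.inr 3), PermTypes.cyc_mem_alt h12 E.cd⟩ *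
      ⟨cyc (Sum.inr 0) (Sum.inr 2) (Sum.inr 3), PermTypes.cyc_mem_alt h02 E.cd⟩ := Subtype.ext hρ
    rw [h1, map_mul, e0, e1]
    exact mul_mem E.hyb.2.1 E.hya.2.1

/-- **The closing.** -/
theorem normal [Finite G] : E.L₀.Normal := by
  have h02 : (Sum.inr 0 : α ⊕ Fin 4) ≠ Sum.inr 2 := fun h => by simp at h
  have h03 : (Sum.inr 0 : α ⊕ Fin 4) ≠ Sum.inr 3 := fun h => by simp at h
  have h12 : (Sum.inr 1 : α ⊕ Fin 4) ≠ Sum.inr 2 := fun h => by simp at h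
  have h13 : (Sum.inr 1 : α ⊕ Fin 4) ≠ Sum.inr 3 := fun h => by simp at h
  have h01 : (Sum.inr 0 : α ⊕ Fin 4) ≠ Sum.inr 1 := fun h => by simp at h
  have h20 := Ne.symm h02
  have hr0 : IsRoot (swap (Sum.inr 0) (Sum.inr 2) * swap (Sum.inr 1) (Sum.inr 3) :
      Perm (α ⊕ Fin 4)) := Roots.isRoot_swap_mul h02 h01 h03 (Ne.symm h12) E.cd h13
  have hr1 : IsRoot (swap (Sum.inr 1) (Sum.inr 2) * swap (Sum.inr 0) (Sum.inr 3) :
      Perm (α ⊕ Fin 4)) := Roots.isRoot_swap_mul h12 (Ne.symm h01) h13 (Ne.symm h02) E.cd h03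
  set ρ₀ : alternatingGroup (α ⊕ Fin 4) := ⟨_, hr0.mem_alternatingGroup⟩ with hρ₀
  set ρ₁ : alternatingGroup (α ⊕ Fin 4) := ⟨_, hr1.mem_alternatingGroup⟩ with hρ₁
  have hk0 : E.f ρ₀ ∈ C A := E.four_mem.1 ρ₀ rfl
  have hk1 : E.f ρ₁ ∈ C A := E.four_mem.2 ρ₁ rfl
  have hsq0 : E.f ρ₀ * E.f ρ₀ = 1 := by
    rw [← map_mul, show ρ₀ * ρ₀ = 1 from Subtype.ext hr0.1, map_one]
  have hsq1 : E.f ρ₁ * E.f ρ₁ = 1 := by
    rw [← map_mul, show ρ₁ * ρ₁ = 1 from Subtype.ext hr1.1, map_one]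
  have hne : ∀ {ρ : alternatingGroup (α ⊕ Fin 4)}, IsRoot (ρ : Perm (α ⊕ Fin 4)) → E.f ρ ≠ 1 := by
    intro ρ hρ h
    rw [← map_one E.f] at h
    have h1 := hρ.2
    rw [E.inj h] at h1
    simp at h1
  have hne0 : E.f ρ₀ ≠ 1 := hne hr0
  have hne1 : E.f ρ₁ ≠ 1 := hne hr1
  have hne01 : E.f ρ₀ ≠ E.f ρ₁ := by
    intro h
    have h1 := congrArg Subtype.val (E.inj h)
    have h2 := congrArg (fun g : Perm (α ⊕ Fin 4) => g (Sum.inr 0)) h1
    simp only [hρ₀, hρ₁, mul_apply] at h2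
    rw [swap_apply_of_ne_of_ne h01 h03, swap_apply_left, swap_apply_left,
      swap_apply_of_ne_of_ne (Ne.symm h13) (Ne.symm E.cd)] at h2
    exact E.cd h2
  have hcomm : E.f ρ₀ * E.f ρ₁ = E.f ρ₁ * E.f ρ₀ := by
    rw [← map_mul, ← map_mul]
    congr 1
    apply Subtype.ext
    show swap (Sum.inr 0) (Sum.inr 2) * swap (Sum.inr 1) (Sum.inr 3) *
      (swap (Sum.inr 1) (Sum.inr 2) * swap (Sum.inr 0) (Sum.inr 3)) =
      swap (Sum.inr 1) (Sum.inr 2) * swap (Sum.inr 0) (Sum.inr 3) *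
      (swap (Sum.inr 0) (Sum.inr 2) * swap (Sum.inr 1) (Sum.inr 3))
    have n : [(Sum.inr 0 : α ⊕ Fin 4), Sum.inr 2, Sum.inr 3, Sum.inr 1].Nodup :=
      PermTypes.nodup_four h02 h03 h01 E.cd (Ne.symm h12) (Ne.symm h13)
    have h4 := d1_comm_d2 n
    have h5 := PermTypes.swap_swap_comm (a := (Sum.inr 1 : α ⊕ Fin 4)) (b := Sum.inr 2)
      (c := Sum.inr 0) (d := Sum.inr 3) (PermTypes.nodup_four h12 (Ne.symm h01) h13
        (Ne.symm h02) E.cd h03)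
    rw [h5, swap_comm (Sum.inr 1) (Sum.inr 3), swap_comm (Sum.inr 1) (Sum.inr 2)]
    exact h4
  have hNC : ∀ x : G, x ∈ normalizer ((C A : Subgroup G) : Set G) → x ∈ N A := by
    intro x hx
    exact E.te.key _ x hk0 hne0 hsq0 ((mem_normalizer_iff.1 hx _).1 hk0)
  set e : alternatingGroup (α ⊕ Fin 4) ≃* E.L₀ := MonoidHom.ofInjective E.inj with he
  have hef : ∀ ρ, ((e ρ : E.L₀) : G) = E.f ρ := fun ρ => rfl
  refine Closing.normal_of_tight (by have := E.card_Ω; omega) e hr0 hk0 ?_ ?_ ?_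
  · intro x t ht htt ht1 hx
    exact N_le_N_C (E.te.key t x ht ht1 htt hx)
  · intro x hx
    exact E.NA_le (hNC x hx)
  · intro g x y z w hxy hxz hxw hyz hyw hzw a₁ a₂ ha₁ ha₂ hN1 hN2
    rw [hef] at hN1 hN2
    obtain ⟨l, hl, l1, l2, l3, l4⟩ := exists_even_four (by have := E.card_Ω; omega)
      (PermTypes.nodup_four h20 (Ne.symm h12) E.cd h01 h03 h13)
      (PermTypes.nodup_four hxy hxz hxw hyz hyw hzw)
    set m' : alternatingGroup (α ⊕ Fin 4) := ⟨l, hl⟩ with hm'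
    have c1 : m' * a₁ * m'⁻¹ = ρ₀ := by
      apply Subtype.ext
      show l * a₁ * l⁻¹ = _
      rw [ha₁, swap4_conj, l1, l2, l3, l4, swap_comm (Sum.inr 2)]
    have c2 : m' * a₂ * m'⁻¹ = ρ₁ := by
      apply Subtype.ext
      show l * a₂ * l⁻¹ = _
      rw [ha₂, swap4_conj, l1, l2, l3, l4, swap_comm (Sum.inr 2)]
    set h : G := E.f m' * g with hh
    have d1 : ∀ a : alternatingGroup (α ⊕ Fin 4), h⁻¹ * E.f (m' * a * m'⁻¹) * h =
        g⁻¹ * E.f a * g := by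
      intro a
      rw [map_mul, map_mul, map_inv, hh]; group
    have d0 : h⁻¹ * E.f ρ₀ * h ∈ N A := by
      rw [← c1, d1]; exact hNC _ hN1
    have d0' : h⁻¹ * E.f ρ₁ * h ∈ N A := by
      rw [← c2, d1]; exact hNC _ hN2
    by_cases hA' : Conj.cj h A = A
    · rw [cj_eq_iff] at hA'
      refine ⟨a₁, ?_, ?_⟩
      · rw [ha₁]
        exact Roots.isRoot_swap_mul hxy hxz hxw hyz hyw hzw
      · rw [hef, ← d1, c1]
        exact conj_mem_C' hA' hk0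
    · have h4 : 4 ∣ Nat.card ↥(C A ⊓ N (Conj.cj h A)) := by
        have m0 : E.f ρ₀ ∈ C A ⊓ N (Conj.cj h A) := mem_inf.2 ⟨hk0, mem_N_cj.2 d0⟩
        have m1 : E.f ρ₁ ∈ C A ⊓ N (Conj.cj h A) := mem_inf.2 ⟨hk1, mem_N_cj.2 d0'⟩
        rw [← card_four (htt := hsq0) (hyy := hsq1) (hty := hcomm) hne0 hne1 hne01]
        apply card_dvd_of_le
        rintro x (rfl | rfl | rfl | rfl)
        · exact one_mem _
        · exact m0
        · exact m1
        · exact mul_mem m0 m1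
      obtain ⟨v, hv, hvC, hvR⟩ := E.hpairs _ (Cj.cj A h) hA' h4
      obtain ⟨ρ, hρ⟩ := E.mem_L₀.1 (E.A_le hv)
      have hρR := E.isRoot_of hv hρ hvR
      refine ⟨m'⁻¹ * ρ * m', ?_, ?_⟩
      · have := hρR.conj l⁻¹
        rwa [inv_inv] at this
      · rw [hef, ← d1, show m' * (m'⁻¹ * ρ * m') * m'⁻¹ = ρ by group, hρ]
        exact mem_C_cj.1 hvC

end Emb

/-- **Main theorem.** -/
theorem Data.main [Finite G] {A B : Subgroup G} {α β : Type*} [Fintype α] [DecidableEq α]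
    [Fintype β] [DecidableEq β] (D : Data A B α β) :
    ∃ L₀ : Subgroup G, L₀.Normal ∧ A ≤ L₀ ∧
      Nonempty (L₀ ≃* alternatingGroup (Fin (Fintype.card α + 4))) := by
  obtain ⟨E, -⟩ := D.exists_emb
  refine ⟨E.L₀, E.normal, E.A_le, ⟨(MonoidHom.ofInjective E.inj).symm.trans ?_⟩⟩
  apply Equiv.altCongrHom
  apply Fintype.equivFinOfCardEq
  rw [Fintype.card_sum, Fintype.card_fin]

end Cfsg.Agent.StdAlt.Final
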