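import Cfsg.Agent.StdAlt.Root
import Cfsg.Agent.StdAlt.First
import Cfsg.Agent.StdAlt.Final
import Cfsg.Prelude.Def_CaseTheorems
import Mathlib.GroupTheory.SpecificGroups.Alternating.Simple

/-!
# Assembly for degree at least seven
-/

set_option autoImplicit false

namespace Cfsg.Agent.StdAlt.Main

open Subgroup Equiv Equiv.Perm Cfsg.Agent.StdAlt Cfsg.Agent.StdAlt.Conj Cfsg.Agent.StdAlt.Pairs
  Cfsg.Agent.StdAlt.First

variable {G : Type*} [Group G] [Finite G] {A : Subgroup G}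

omit [Finite G] in
theorem simple_of_equiv {n : ℕ} (hn : 5 ≤ n) (e : A ≃* alternatingGroup (Fin n)) :
    IsSimpleGroup A := by
  have : IsSimpleGroup (alternatingGroup (Fin n)) :=
    alternatingGroup.isSimpleGroup (by rw [Nat.card_eq_fintype_card, Fintype.card_fin]; exact hn)
  exact e.isSimpleGroup

omit [Finite G] in
/-- a group of 2-rank at least two contains a four-group -/
theorem hasFour_of_rank (h : ¬ Cfsg.PRankLE 2 1 ↥(C A)) : Two.HasFour A := by
  unfold Cfsg.PRankLE at h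
  push Not at h
  obtain ⟨E, hE, hsq, hcard⟩ := h
  have hcard' : 2 < Nat.card E := by simpa using hcard
  have : Finite E := Nat.finite_of_card_ne_zero (by omega)
  -- two distinct nontrivial elements
  have h1 : ∃ x : E, x ≠ 1 := by
    by_contra hcon
    push Not at hcon
    have : Subsingleton E := ⟨fun a b => (hcon a).trans (hcon b).symm⟩
    have : Nat.card E ≤ 1 := Finite.card_le_one_iff_subsingleton.2 inferInstance
    omega
  obtain ⟨x, hx⟩ := h1
  have h2 : ∃ y : E, y ≠ 1 ∧ y ≠ x := by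
    by_contra hcon
    push Not at hcon
    have hsurj : Function.Surjective (fun b : Bool => if b then (1 : E) else x) := by
      intro y
      by_cases hy : y = 1
      · exact ⟨true, by simp [hy]⟩
      · exact ⟨false, by simp [hcon y hy]⟩
    have := Nat.card_le_card_of_surjective _ hsurj
    rw [Nat.card_eq_fintype_card (α := Bool), Fintype.card_bool] at this
    omega
  obtain ⟨y, hy, hyx⟩ := h2
  have key : ∀ z : E, (((z : ↥(C A)) : G)) ∈ C A := fun z => (z : ↥(C A)).2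
  have sq' : ∀ z : E, (((z : ↥(C A)) : G)) * ((z : ↥(C A)) : G) = 1 := fun z => by
    have := hsq z z.2
    rw [sq] at this
    exact congrArg Subtype.val this
  have inj : ∀ z w : E, ((z : ↥(C A)) : G) = ((w : ↥(C A)) : G) → z = w := fun z w h =>
    Subtype.ext (Subtype.ext h)
  refine ⟨((x : ↥(C A)) : G), key x, ((y : ↥(C A)) : G), key y, fun e => hx (inj _ _ e),
    fun e => hy (inj _ _ e), fun e => hyx (inj _ _ e), sq' x, sq' y, ?_⟩
  have h3 : y * x = x * y := hE.is_comm.comm y x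
  exact congrArg (fun z : E => ((z : ↥(C A)) : G)) h3

theorem four_dvd_of_hasFour (h : Two.HasFour A) : 4 ∣ Nat.card (C A) := by
  obtain ⟨v, hv, v', hv', h1, h2, h3, h4, h5, h6⟩ := h
  have h7 : Pairs.four v v' h4 h5 h6.symm ≤ C A := by
    intro z hz
    rcases mem_four.1 hz with rfl | rfl | rfl | rfl
    · exact one_mem _
    · exact hv
    · exact hv'
    · exact mul_mem hv hv'
  have h8 := card_dvd_of_le h7
  rwa [card_four h1 h2 (Ne.symm h3)] at h8

/-- either `A` is normal or there is a pair of type two -/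
theorem normal_or_pd (hA : TE A) {n : ℕ} (hn : 7 ≤ n) (L : Lab A (Fin n)) (hs : IsSimpleGroup A)
    (hF : Two.HasFour A) (hcomm : CommHalf G) :
    A.Normal ∨ ∃ B, ∃ D : PD A B (Fin n), D.L = L := by
  have hα : 7 ≤ Fintype.card (Fin n) := by rw [Fintype.card_fin]; exact hn
  obtain ⟨s, hs', hsφ⟩ := L.lift _ (PermTypes.swap_mul_mem
    (a := (⟨0, by omega⟩ : Fin n)) (b := ⟨1, by omega⟩) (c := ⟨2, by omega⟩) (d := ⟨3, by omega⟩)
    (by simp) (by simp))
  have hnd : [(⟨0, by omega⟩ : Fin n), ⟨1, by omega⟩, ⟨2, by omega⟩, ⟨3, by omega⟩].Nodup := by simp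
  have hs1 : s ≠ 1 := by
    rintro rfl
    rw [L.one] at hsφ
    exact d1_ne hnd hsφ.symm
  have hss : s * s = 1 := by
    apply L.eq_one hA (mul_mem hs' hs')
    rw [L.mul _ _ (le_N hs') (le_N hs'), hsφ, d1_sq hnd]
  rcases normal_or_good hA hs hcomm (L.outer hA (by omega)) (four_dvd_of_hasFour hF) hs' hs1 hss with
    h | ⟨B, hB, hne, h4⟩
  · exact Or.inl h
  · right
    obtain ⟨g, rfl⟩ := hB.exists_eq
    have htwo : Two A (Conj.cj g A) := Two.of_good L (L.cj g) hA hB hne hα h4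
    obtain ⟨D, hD, -⟩ := exists_pd L (L.cj g) htwo hα hF
    exact ⟨_, D, hD⟩

/-- the input of the identification from a pair of type two -/
theorem exists_data {B : Subgroup G} {α : Type*} [Fintype α] [DecidableEq α] (D : PD A B α)
    (hs : IsSimpleGroup A) : Nonempty (Final.Data A B α α) := by
  obtain ⟨⟨m1, m2, m3⟩, ⟨m4, m5⟩, m6⟩ := PermTypes.of_nodup_four D.nd
  obtain ⟨i₀, p₀, hi₀, hp₀, v, hv, hvφ, hcomm⟩ := D.exists_root
  have hF : ∀ p ∉ four4 D.a D.b D.c D.d, p ≠ p₀ → ∃ g ∈ A, g ∈ B ∧ D.L'.φ g D.c = D.c ∧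
      D.L'.φ g D.d = D.d ∧ D.L'.φ g p₀ = p := by
    intro p hp hpp
    obtain ⟨q, hq⟩ := PermRoot.exists_ne_list [D.a, D.b, D.c, D.d, p, p₀]
      (by simp; have := D.card; omega)
    simp only [List.mem_cons, List.not_mem_nil, or_false, not_or] at hq
    have hqS : q ∉ D.S := by
      rw [mem_four4, not_or, not_or, not_or]; exact ⟨hq.1, hq.2.1, hq.2.2.1, hq.2.2.2.1⟩
    have hAF := cyc_mem_AF hp₀ hp hqS (Ne.symm hpp) (Ne.symm hq.2.2.2.2.1)
    obtain ⟨y, hy, hyφ⟩ := D.L'.lift _ hAF.1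
    have hyA : y ∈ A := D.symm.mem_B_of hy (by
      rw [show D.symm.L.φ y = _ from hyφ]; exact hAF)
    refine ⟨y, hyA, hy, ?_, ?_, ?_⟩
    · rw [hyφ]; exact hAF.2.2.2.1
    · rw [hyφ]; exact hAF.2.2.2.2
    · rw [hyφ]; exact PermTypes.cyc_apply_fst (Ne.symm hq.2.2.2.2.2) (Ne.symm hpp)
  refine ⟨⟨D.two.teA, hs, D.two.cj, D.L, D.L', by have := D.card; omega,
    by have := D.card; omega, D.a, D.b, D.c, D.d, D.a, D.b, D.c, D.d, D.nd, D.nd, D.ex₁,
    fun y hy he hm => D.symm.mem_C_of hy he hm, i₀, p₀, hp₀, v, hv, hvφ, hcomm, ?_, ?_, ?_⟩⟩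
  · intro p hp hpp
    obtain ⟨g, hgA, hgB, h1, h2, h3⟩ := hF p hp hpp
    exact ⟨g, hgA, le_N hgB, h1, h2, h3⟩
  · obtain ⟨p, hp⟩ := PermRoot.exists_ne_list [D.a, D.b, D.c, D.d, p₀]
      (by simp; have := D.card; omega)
    simp only [List.mem_cons, List.not_mem_nil, or_false, not_or] at hp
    have hpS : p ∉ D.S := by
      rw [mem_four4, not_or, not_or, not_or]; exact ⟨hp.1, hp.2.1, hp.2.2.1, hp.2.2.2.1⟩
    obtain ⟨g, hgA, hgB, h1, h2, h3⟩ := hF p hpS hp.2.2.2.2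
    refine ⟨g, hgB, le_N hgA, fun hC => ?_⟩
    have h4 := D.two.teA.disj g hgA hC
    rw [h4, D.L'.one] at h3
    exact hp.2.2.2.2 h3.symm
  · intro A' hA' hne h4
    obtain ⟨g, rfl⟩ := hA'.exists_eq
    have htwo : Two A (Conj.cj g A) :=
      Two.of_good D.L (D.L.cj g) D.two.teA hA' (Ne.symm hne) D.card h4
    obtain ⟨D', hD', -⟩ := exists_pd D.L (D.L.cj g) htwo D.card D.four
    obtain ⟨x, hx, hxC, hxφ⟩ := D'.ex₁
    refine ⟨x, hx, hxC, ?_⟩
    rw [← hD', hxφ]
    obtain ⟨⟨n1, n2, n3⟩, ⟨n4, n5⟩, n6⟩ := PermTypes.of_nodup_four D'.nd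
    exact Roots.isRoot_swap_mul n1 n2 n3 n4 n5 n6

/-- **The theorem for degree at least seven.** -/
theorem normal_or (hA : TE A) {n : ℕ} (hn : 7 ≤ n) (e : A ≃* alternatingGroup (Fin n))
    (hF : Two.HasFour A) (hcomm : CommHalf G) :
    A.Normal ∨ ∃ L₀ : Subgroup G, L₀.Normal ∧ A ≤ L₀ ∧
      Nonempty (L₀ ≃* alternatingGroup (Fin (n + 4))) := by
  have hs := simple_of_equiv (by omega) e
  obtain ⟨L, -⟩ := Lab.exists_lab n hn e
  rcases normal_or_pd hA hn L hs hF hcomm with h | ⟨B, D, -⟩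
  · exact Or.inl h
  · right
    obtain ⟨E⟩ := exists_data D hs
    obtain ⟨L₀, h1, h2, h3⟩ := E.main
    rw [Fintype.card_fin] at h3
    exact ⟨L₀, h1, h2, h3⟩

end Cfsg.Agent.StdAlt.Main
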