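import Cfsg.Agent.StdAlt.Pairs
import Cfsg.Agent.StdAlt.PermTypes
import Cfsg.Agent.StandardComponent.AltAut

/-!
# Labellings of standard subgroups of alternating type

`Lab A α`: a function `φ : G → Perm α` whose restriction to `N A` is a homomorphism with kernel `C A` and maps `A`
onto the alternating group of `α`.
-/

set_option autoImplicit false
set_option linter.unusedSectionVars false

namespace Cfsg.Agent.StdAlt

open Subgroup Equiv Cfsg.Agent.StdAlt.Conj Cfsg.Agent.StdAlt.Pairs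

variable {G : Type*} [Group G]

/-- a labelling of `A` -/
structure Lab (A : Subgroup G) (α : Type*) [Fintype α] [DecidableEq α] where
  /-- the action of `N A` on the points -/
  φ : G → Perm α
  mul : ∀ x y, x ∈ N A → y ∈ N A → φ (x * y) = φ x * φ y
  ker : ∀ x, x ∈ N A → (φ x = 1 ↔ x ∈ C A)
  even : ∀ x ∈ A, φ x ∈ alternatingGroup α
  lift : ∀ σ ∈ alternatingGroup α, ∃ x ∈ A, φ x = σ

namespace Lab

variable {A B : Subgroup G} {α : Type*} [Fintype α] [DecidableEq α] (L : Lab A α)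

theorem one : L.φ 1 = 1 := (L.ker 1 (one_mem _)).2 (one_mem _)

theorem inv {x : G} (hx : x ∈ N A) : L.φ x⁻¹ = (L.φ x)⁻¹ := by
  have := L.mul x⁻¹ x (inv_mem hx) hx
  rw [inv_mul_cancel, L.one] at this
  exact (inv_eq_of_mul_eq_one_left this.symm).symm

theorem conj {x y : G} (hx : x ∈ N A) (hy : y ∈ N A) :
    L.φ (x * y * x⁻¹) = L.φ x * L.φ y * (L.φ x)⁻¹ := by
  rw [L.mul _ _ (mul_mem hx hy) (inv_mem hx), L.mul _ _ hx hy, L.inv hx]

theorem pow {x : G} (hx : x ∈ N A) (n : ℕ) : L.φ (x ^ n) = L.φ x ^ n := by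
  induction n with
  | zero => rw [pow_zero, pow_zero, L.one]
  | succ n ih => rw [pow_succ, pow_succ, L.mul _ _ (pow_mem hx n) hx, ih]

theorem of_C {k : G} (hk : k ∈ C A) : L.φ k = 1 := (L.ker k (C_le_N hk)).2 hk

theorem eq_one (hA : TE A) {x : G} (hx : x ∈ A) (h : L.φ x = 1) : x = 1 :=
  hA.disj x hx ((L.ker x (le_N hx)).1 h)

theorem inj (hA : TE A) {x y : G} (hx : x ∈ A) (hy : y ∈ A) (h : L.φ x = L.φ y) : x = y := by
  have h1 : L.φ (x * y⁻¹) = 1 := by
    rw [L.mul _ _ (le_N hx) (inv_mem (le_N hy)), L.inv (le_N hy), h, mul_inv_cancel]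
  exact mul_inv_eq_one.1 (L.eq_one hA (mul_mem hx (inv_mem hy)) h1)

/-- an element of `A` and an element of `N A` commute if their images do -/
theorem comm_of (hA : TE A) {a y : G} (ha : a ∈ A) (hy : y ∈ N A)
    (h : L.φ a * L.φ y = L.φ y * L.φ a) : a * y = y * a := by
  have h1 : L.φ (y * a * y⁻¹) = L.φ a := by
    rw [L.conj hy (le_N ha), ← h, mul_inv_cancel_right]
  have h2 := L.inj hA (conj_mem hy ha) ha h1
  exact (mul_inv_eq_iff_eq_mul.1 h2).symm

theorem comm' {x y : G} (hx : x ∈ N A) (hy : y ∈ N A) (h : x * y = y * x) :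
    L.φ x * L.φ y = L.φ y * L.φ x := by
  rw [← L.mul _ _ hx hy, ← L.mul _ _ hy hx, h]

theorem mul_inv_mem_C {x y : G} (hx : x ∈ N A) (hy : y ∈ N A) (h : L.φ x = L.φ y) :
    x * y⁻¹ ∈ C A := by
  rw [← L.ker _ (mul_mem hx (inv_mem hy)), L.mul _ _ hx (inv_mem hy), L.inv hy, h, mul_inv_cancel]

/-- equality of two elements of `N A` in the same coset of `A` -/
theorem eq_of_mul_inv_mem (hA : TE A) {x y : G} (hx : x ∈ N A) (hy : y ∈ N A)
    (h : L.φ x = L.φ y) (hxy : x * y⁻¹ ∈ A) : x = y :=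
  mul_inv_eq_one.1 (hA.disj _ hxy (L.mul_inv_mem_C hx hy h))

/-- transport by conjugation -/
def cj (g : G) : Lab (Conj.cj g A) α where
  φ x := L.φ (g⁻¹ * x * g)
  mul := by
    intro x y hx hy
    rw [mem_N_cj] at hx hy
    rw [show g⁻¹ * (x * y) * g = (g⁻¹ * x * g) * (g⁻¹ * y * g) by group, L.mul _ _ hx hy]
  ker := by
    intro x hx
    rw [mem_N_cj] at hx
    rw [L.ker _ hx, mem_C_cj]
  even := by
    intro x hx
    rw [mem_cj] at hx
    exact L.even _ hx
  lift := by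
    intro σ hσ
    obtain ⟨x, hx, rfl⟩ := L.lift σ hσ
    exact ⟨g * x * g⁻¹, conj_mem_cj.2 hx, by rw [show g⁻¹ * (g * x * g⁻¹) * g = x by group]⟩

theorem cj_φ (g x : G) : (L.cj g).φ x = L.φ (g⁻¹ * x * g) := rfl

/-- change of labels -/
def relabel (τ : Perm α) : Lab A α where
  φ x := τ * L.φ x * τ⁻¹
  mul := by
    intro x y hx hy
    rw [L.mul _ _ hx hy]; group
  ker := by
    intro x hx
    rw [← L.ker _ hx]
    constructor
    · intro h
      rw [show L.φ x = τ⁻¹ * (τ * L.φ x * τ⁻¹) * τ by group, h]; group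
    · intro h
      rw [h]; group
  even := by
    intro x hx
    exact (inferInstance : (alternatingGroup α).Normal).conj_mem _ (L.even x hx) τ
  lift := by
    intro σ hσ
    obtain ⟨x, hx, h⟩ := L.lift (τ⁻¹ * σ * τ) (by
      have := (inferInstance : (alternatingGroup α).Normal).conj_mem _ hσ τ⁻¹
      rwa [inv_inv] at this)
    exact ⟨x, hx, by rw [h]; group⟩

theorem relabel_φ (τ : Perm α) (x : G) : (L.relabel τ).φ x = τ * L.φ x * τ⁻¹ := rfl

/-- the restriction to the normalizer as a homomorphism -/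
def hom : ↥(N A) →* Perm α where
  toFun x := L.φ x
  map_one' := L.one
  map_mul' x y := L.mul x y x.2 y.2

/-- the image of `H ⊓ N A` -/
def img (H : Subgroup G) : Subgroup (Perm α) := (H.subgroupOf (N A)).map L.hom

theorem mem_img {H : Subgroup G} {σ : Perm α} :
    σ ∈ L.img H ↔ ∃ x ∈ H, x ∈ N A ∧ L.φ x = σ := by
  constructor
  · rintro ⟨x, hx, rfl⟩
    exact ⟨x, mem_subgroupOf.1 hx, x.2, rfl⟩
  · rintro ⟨x, hx, hxN, rfl⟩
    exact ⟨⟨x, hxN⟩, mem_subgroupOf.2 hx, rfl⟩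

theorem φ_mem_img {H : Subgroup G} {x : G} (hx : x ∈ H) (hxN : x ∈ N A) : L.φ x ∈ L.img H :=
  L.mem_img.2 ⟨x, hx, hxN, rfl⟩

/-! ### existence -/

/-- a labelling exists if all automorphisms of `A` induced by `N A` are induced by permutations -/
theorem exists_of_induced (n : ℕ) (hn : 4 ≤ n)
    (e : A ≃* alternatingGroup (Fin n))
    (h : ∀ g (hg : g ∈ N A), ∃ σ : Perm (Fin n), ∀ a : A,
      (e ⟨g * a * g⁻¹, conj_mem hg a.2⟩ : Perm (Fin n)) = σ * e a * σ⁻¹) :
    ∃ L : Lab A (Fin n), ∀ a : A, L.φ a = e a := by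
  classical
  obtain ⟨m, rfl⟩ : ∃ m, n = m + 2 := ⟨n - 2, by omega⟩
  have huniq : ∀ {σ τ : Perm (Fin (m + 2))}, (∀ x : alternatingGroup (Fin (m + 2)),
      σ * x * σ⁻¹ = τ * x * τ⁻¹) → σ = τ := fun h =>
    Cfsg.Agent.StandardComponent.AltAut.conj_unique (m := m) (by omega) h
  choose! f hf using h
  have hmul : ∀ x y, x ∈ N A → y ∈ N A → f (x * y) = f x * f y := by
    intro x y hx hy
    apply huniq
    intro z
    obtain ⟨a, rfl⟩ := e.surjective z
    rw [← hf (x * y) (mul_mem hx hy) a]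
    have h1 := hf x hx ⟨y * a * y⁻¹, conj_mem hy a.2⟩
    have h2 := hf y hy a
    have h3 : (⟨x * y * a * (x * y)⁻¹, conj_mem (mul_mem hx hy) a.2⟩ : A) =
        ⟨x * (y * a * y⁻¹) * x⁻¹, conj_mem hx (conj_mem hy a.2)⟩ := by
      apply Subtype.ext
      show x * y * a * (x * y)⁻¹ = x * (y * a * y⁻¹) * x⁻¹
      group
    rw [h3]
    refine h1.trans ?_
    rw [h2]; group
  have hfA : ∀ a : A, f a = e a := by
    intro a
    apply huniq
    intro z
    obtain ⟨b, rfl⟩ := e.surjective z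
    rw [← hf a (le_N a.2) b]
    have : (⟨(a : G) * b * (a : G)⁻¹, conj_mem (le_N a.2) b.2⟩ : A) = a * b * a⁻¹ := rfl
    rw [this, map_mul, map_mul, map_inv]
    rfl
  refine ⟨⟨f, hmul, ?_, ?_, ?_⟩, hfA⟩
  · intro x hx
    constructor
    · intro h1
      rw [mem_C]
      intro a ha
      have h2 := hf x hx ⟨a, ha⟩
      rw [h1, one_mul, inv_one, mul_one] at h2
      have h3 := e.injective (Subtype.ext h2)
      have h4 : x * a * x⁻¹ = a := congrArg Subtype.val h3
      exact mul_inv_eq_iff_eq_mul.1 h4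
    · intro h1
      apply huniq
      intro z
      obtain ⟨b, rfl⟩ := e.surjective z
      rw [← hf x hx b, one_mul, inv_one, mul_one]
      congr 2
      apply Subtype.ext
      show x * b * x⁻¹ = b
      rw [comm_of_C h1 b.2, mul_inv_cancel_right]
  · intro x hx
    rw [hfA ⟨x, hx⟩]
    exact (e ⟨x, hx⟩).2
  · intro σ hσ
    obtain ⟨a, ha⟩ := e.surjective ⟨σ, hσ⟩
    exact ⟨a, a.2, by rw [hfA a, ha]⟩

theorem exists_lab (n : ℕ) (hn : 7 ≤ n)
    (e : A ≃* alternatingGroup (Fin n)) : ∃ L : Lab A (Fin n), ∀ a : A, L.φ a = e a := by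
  obtain ⟨ψ, hψ⟩ := Cfsg.Agent.StandardComponent.AltAut.exists_autHom n hn
  refine exists_of_induced n (by omega) e ?_
  intro g hg
  let c : MulAut A := Subgroup.normalizerMonoidHom A ⟨g, hg⟩
  let β : MulAut (alternatingGroup (Fin n)) := (e.symm.trans c).trans e
  refine ⟨ψ β, fun a => ?_⟩
  rw [← hψ β (e a)]
  show ((e ⟨g * a * g⁻¹, _⟩ : alternatingGroup (Fin n)) : Perm (Fin n)) =
    ((e (c (e.symm (e a))) : alternatingGroup (Fin n)) : Perm (Fin n))
  rw [MulEquiv.symm_apply_apply]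
  rfl

end Lab

end Cfsg.Agent.StdAlt
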