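import Cfsg.Agent.StdAlt.LabPair

/-!
# Case B does not occur

For a pair of type two (each of `C A`, `C B` normalizes the other subgroup), all involutions of the image of `C B`
have at least three fixed points.
-/

set_option autoImplicit false
set_option linter.unusedSectionVars false

namespace Cfsg.Agent.StdAlt

open Subgroup Equiv Equiv.Perm Cfsg.Agent.StdAlt.Conj Cfsg.Agent.StdAlt.Pairs
open Cfsg.Agent.StdAlt.PermTypes (cyc fx R)

variable {G : Type*} [Group G] {A B : Subgroup G} {α : Type*} [Fintype α] [DecidableEq α]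

/-- a 2-subgroup of the image lifts if the kernel is odd -/
theorem exists_lift_two {H Y : Type*} [Group H] [Finite H] [Group Y] (f : H →* Y)
    (hker : Odd (Nat.card f.ker)) (E : Subgroup Y) (hE : IsPGroup 2 E) (hEr : E ≤ f.range) :
    ∃ T : Subgroup H, IsPGroup 2 T ∧ (∀ y ∈ E, ∃ x ∈ T, f x = y) ∧ ∀ x ∈ T, f x = 1 → x = 1 := by
  let f' : E.comap f →* E := (f.comp (E.comap f).subtype).codRestrict E (fun x => x.2)
  have hf' : Function.Surjective f' := by
    rintro ⟨y, hy⟩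
    obtain ⟨x, hx⟩ := hEr hy
    refine ⟨⟨x, ?_⟩, ?_⟩
    · show f x ∈ E
      rw [hx]; exact hy
    · exact Subtype.ext hx
  let P : Sylow 2 (E.comap f) := default
  have htop : ((P.mapSurjective hf' : Sylow 2 E) : Subgroup E) = ⊤ := by
    symm
    apply (P.mapSurjective hf').3
    · exact hE.to_subgroup ⊤
    · exact le_top
  refine ⟨(P : Subgroup (E.comap f)).map (E.comap f).subtype, P.2.map _, ?_, ?_⟩
  · intro y hy
    have h1 : (⟨y, hy⟩ : E) ∈ ((P.mapSurjective hf' : Sylow 2 E) : Subgroup E) := by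
      rw [htop]; trivial
    rw [Sylow.coe_mapSurjective] at h1
    obtain ⟨x, hx, hxy⟩ := h1
    exact ⟨x, ⟨x, hx, rfl⟩, congrArg Subtype.val hxy⟩
  · rintro _ ⟨x, hx, rfl⟩ h1
    -- `x` has 2-power order and odd order
    obtain ⟨k, hk⟩ := P.2 ⟨x, hx⟩
    have hk' : (x : H) ^ 2 ^ k = 1 := congrArg (fun z : P => ((z : E.comap f) : H)) hk
    have ho1 : orderOf (x : H) ∣ 2 ^ k := orderOf_dvd_of_pow_eq_one hk'
    have ho2 : orderOf (x : H) ∣ Nat.card f.ker := by
      have : orderOf (⟨(x : H), MonoidHom.mem_ker.2 h1⟩ : f.ker) ∣ Nat.card f.ker :=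
        orderOf_dvd_natCard _
      rwa [orderOf_mk] at this
    have hcop : Nat.Coprime (2 ^ k) (Nat.card f.ker) :=
      Nat.Coprime.pow_left k (Nat.coprime_two_left.2 hker)
    have h2 : orderOf (x : H) ∣ 1 := by
      rw [← hcop.gcd_eq_one]
      exact Nat.dvd_gcd ho1 ho2
    exact orderOf_eq_one_iff.1 (Nat.dvd_one.1 h2)

/-- pairs of type two -/
structure Two (A B : Subgroup G) : Prop where
  teA : TE A
  cj : Cj A B
  ne : A ≠ B
  leB : C A ≤ N B
  leA : C B ≤ N A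

namespace Two

theorem teB (h : Two A B) : TE B := h.teA.of_cj h.cj

theorem symm (h : Two A B) : Two B A := ⟨h.teB, h.cj.symm, h.ne.symm, h.leA, h.leB⟩

/-- a good pair is of type two -/
theorem of_good [Finite G] (L : Lab A α) (L' : Lab B α) (hA : TE A) (hB : Cj A B) (hne : A ≠ B)
    (hα : 7 ≤ Fintype.card α) (h4 : 4 ∣ Nat.card ↥(C A ⊓ N B)) : Two A B := by
  have hBt := hA.of_cj hB
  obtain ⟨u, hu, huA, hu1, huu⟩ := L'.exists_inv_mem hBt hB.symm (Ne.symm hne) hα h4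
  have h1 : C B ≤ N A := fun j hj => hA.nrm huA hu1 huu (comm_of_C hj hu)
  have h4' : 4 ∣ Nat.card ↥(C B ⊓ N A) := by
    rw [inf_eq_left.2 h1, ← hB.card_C]
    exact h4.trans (card_dvd_of_le inf_le_left)
  obtain ⟨v, hv, hvB, hv1, hvv⟩ := L.exists_inv_mem hA hB hne hα h4'
  exact ⟨hA, hB, hne, fun j hj => hBt.nrm hvB hv1 hvv (comm_of_C hj hv), h1⟩

variable (L : Lab A α)

/-- the homomorphism on `C B` -/
def homC (h : Two A B) : ↥(C B) →* Perm α where
  toFun x := L.φ x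
  map_one' := L.one
  map_mul' x y := L.mul x y (h.leA x.2) (h.leA y.2)

theorem odd_ker [Finite G] (h : Two A B) : Odd (Nat.card (h.homC L).ker) := by
  by_contra hcon
  rw [Nat.not_odd_iff_even, even_iff_two_dvd] at hcon
  obtain ⟨z, hz⟩ := exists_prime_orderOf_dvd_card' 2 hcon
  have hz1 : ((z : C B) : G) ∈ C A := by
    rw [← L.ker _ (h.leA (z : C B).2)]
    exact (MonoidHom.mem_ker.1 z.2)
  have h3 := odd_orderOf h.teA h.cj h.ne hz1 (z : C B).2
  rw [orderOf_coe, orderOf_coe, hz] at h3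
  exact absurd h3 (by decide)

/-- `φ` is injective on elements of `C B` whose quotient has square one -/
theorem eq_one_of_sq [Finite G] (h : Two A B) {z : G} (hz : z ∈ C B) (hzz : z * z = 1)
    (hφ : L.φ z = 1) : z = 1 := by
  have h1 := odd_orderOf h.teA h.cj h.ne ((L.ker z (h.leA hz)).1 hφ) hz
  have h2 : orderOf z ∣ 2 := orderOf_dvd_of_pow_eq_one (by rw [sq]; exact hzz)
  rcases (Nat.dvd_prime Nat.prime_two).1 h2 with h3 | h3
  · exact orderOf_eq_one_iff.1 h3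
  · rw [h3] at h1
    exact absurd h1 (by decide)

/-- the existence of a four-group in the centralizer -/
def HasFour (A : Subgroup G) : Prop :=
  ∃ v ∈ C A, ∃ v' ∈ C A, v ≠ 1 ∧ v' ≠ 1 ∧ v' ≠ v ∧ v * v = 1 ∧ v' * v' = 1 ∧ v' * v = v * v'

theorem _root_.Cfsg.Agent.StdAlt.Two.HasFour.of_cj (h : HasFour A) (hB : Cj A B) : HasFour B := by
  obtain ⟨g, rfl⟩ := hB.exists_eq
  obtain ⟨v, hv, v', hv', h1, h2, h3, h4, h5, h6⟩ := h
  have inj : ∀ x y : G, g * x * g⁻¹ = g * y * g⁻¹ → x = y := by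
    intro x y hxy
    rw [show x = g⁻¹ * (g * x * g⁻¹) * g by group, hxy]; group
  refine ⟨g * v * g⁻¹, ?_, g * v' * g⁻¹, ?_, ?_, ?_, ?_, ?_, ?_, ?_⟩
  · rw [mem_C_cj, show g⁻¹ * (g * v * g⁻¹) * g = v by group]; exact hv
  · rw [mem_C_cj, show g⁻¹ * (g * v' * g⁻¹) * g = v' by group]; exact hv'
  · intro e; exact h1 (inj _ _ (by rw [e]; group))
  · intro e; exact h2 (inj _ _ (by rw [e]; group))
  · intro e; exact h3 (inj _ _ e)
  · rw [show g * v * g⁻¹ * (g * v * g⁻¹) = g * (v * v) * g⁻¹ by group, h4]; group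
  · rw [show g * v' * g⁻¹ * (g * v' * g⁻¹) = g * (v' * v') * g⁻¹ by group, h5]; group
  · rw [show g * v' * g⁻¹ * (g * v * g⁻¹) = g * (v' * v) * g⁻¹ by group, h6]; group

/-- images of a four-group of `C B` -/
theorem img_four [Finite G] (h : Two A B) {v v' : G} (hv : v ∈ C B) (hv' : v' ∈ C B) (h1 : v ≠ 1)
    (h2 : v' ≠ 1) (h3 : v' ≠ v) (h4 : v * v = 1) (h5 : v' * v' = 1) (h6 : v' * v = v * v') :
    L.φ v ∈ L.img (C B) ∧ L.φ v' ∈ L.img (C B) ∧ L.φ v ≠ 1 ∧ L.φ v' ≠ 1 ∧ L.φ v' ≠ L.φ v ∧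
      L.φ v * L.φ v = 1 ∧ L.φ v' * L.φ v' = 1 ∧ L.φ v' * L.φ v = L.φ v * L.φ v' := by
  have hN := h.leA hv
  have hN' := h.leA hv'
  refine ⟨L.φ_mem_img hv hN, L.φ_mem_img hv' hN', fun e => h1 (h.eq_one_of_sq L hv h4 e),
    fun e => h2 (h.eq_one_of_sq L hv' h5 e), ?_, ?_, ?_, L.comm' hN' hN h6⟩
  · intro e
    apply h3
    have hvi : v⁻¹ = v := inv_eq_of_mul_eq_one_left h4
    have e1 : v' * v = 1 := by
      apply h.eq_one_of_sq L (mul_mem hv' hv)
      · rw [mul_assoc, ← mul_assoc v, ← h6, mul_assoc v', h4, mul_one, h5]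
      · rw [L.mul _ _ hN' hN, e, ← L.mul _ _ hN hN, h4, L.one]
    rw [← hvi]
    exact eq_inv_of_mul_eq_one_left e1
  · rw [← L.mul _ _ hN hN, h4, L.one]
  · rw [← L.mul _ _ hN' hN', h5, L.one]

/-- **Case B does not occur.** -/
theorem caseA [Finite G] (L' : Lab B α) (h : Two A B) (hα : 7 ≤ Fintype.card α) (hF : HasFour A) :
    ∀ x ∈ L.img (C B), x ≠ 1 → x * x = 1 → 3 ≤ fx x := by
  intro x₀ hx₀ hx₀1 hx₀x₀
  by_contra hfx
  have hgood := L.img_good h.teA h.cj h.ne hα hx₀ hx₀1 hx₀x₀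
  have hno : ∀ i j, i ≠ j → ¬ R (L.img (C B)) i j := fun i j hij hR =>
    hgood.no_three hx₀ hx₀1 hx₀x₀ (by omega) hij hR
  obtain ⟨v, hv, v', hv', h1, h2, h3, h4, h5, h6⟩ := hF.of_cj h.cj
  obtain ⟨hx, hx', hx1, hx1', hne, hxx, hxx', hc⟩ := h.img_four L hv hv' h1 h2 h3 h4 h5 h6
  obtain ⟨s, t, hs, ht, hst, -⟩ := hgood.caseB hno hx hx' hx1 hx1' hxx hxx' hc hne
  obtain ⟨⟨w, hw, hwx, hw3, hwX⟩, x'', hx'', hxx'', hc1, hc2, n1, n2, n3, n4⟩ :=
    hgood.caseB_kill hno hx hx' hx1 hxx hxx' hc hs ht hst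
  -- lift the elementary abelian group of order eight
  set x := L.φ v with hxdef
  set x' := L.φ v' with hxdef'
  have hnorm : x'' ∈ N (four x x' hxx hxx' hc.symm) := by
    refine mem_N_of fun z hz => ?_
    have hxi : x''⁻¹ = x'' := inv_eq_of_mul_eq_one_left hxx''
    have hzc : x'' * z = z * x'' := by
      rcases hz with rfl | rfl | rfl | rfl
      · rw [mul_one, one_mul]
      · exact hc1
      · exact hc2
      · rw [← mul_assoc, hc1, mul_assoc, hc2, mul_assoc]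
    rw [hzc, mul_inv_cancel_right]
    exact hz
  have hE : IsPGroup 2 ↥(four x x' hxx hxx' hc.symm ⊔ zpowers x'') := by
    apply isPGroup_of_sq
    intro z hz
    rcases (mem_sup_zpowers hnorm hxx'').1 hz with hz | hz
    · exact four_sq hz
    · have hzc : z * x'' = x'' * z := by
        have h7 : x'' * (z * x'') = z * x'' * x'' := by
          rcases hz with e | e | e | e
          · rw [e, mul_one, one_mul]
          · rw [e]; exact hc1
          · rw [e]; exact hc2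
          · rw [e, ← mul_assoc, hc1, mul_assoc, hc2, mul_assoc]
        rw [mul_assoc z, hxx'', mul_one] at h7
        calc z * x'' = 1 * (z * x'') := (one_mul _).symm
          _ = x'' * (x'' * (z * x'')) := by rw [← hxx'', mul_assoc]
          _ = x'' * z := by rw [h7]
      have h8 := four_sq hz
      calc z * z = z * (x'' * x'') * z := by rw [hxx'', mul_one]
        _ = (z * x'') * (x'' * z) := by group
        _ = (z * x'') * (z * x'') := by rw [hzc]
        _ = 1 := h8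
  obtain ⟨T, hT, hlift, hinj⟩ := exists_lift_two (h.homC L) (h.odd_ker L) _ hE (by
    apply sup_le
    · intro z hz
      have hzX : z ∈ L.img (C B) := by
        rcases hz with rfl | rfl | rfl | rfl
        · exact one_mem _
        · exact hx
        · exact hx'
        · exact mul_mem hx hx'
      obtain ⟨k, hk, hkN, rfl⟩ := L.mem_img.1 hzX
      exact ⟨⟨k, hk⟩, rfl⟩
    · rw [zpowers_le]
      obtain ⟨k, hk, hkN, e⟩ := L.mem_img.1 hx''
      exact ⟨⟨k, hk⟩, e⟩)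
  have hfT : ∀ a b : ↥(C B), a ∈ T → b ∈ T → h.homC L a = h.homC L b → a = b := by
    intro a b ha hb hab
    have := hinj (a * b⁻¹) (mul_mem ha (inv_mem hb)) (by
      rw [map_mul, map_inv, hab, mul_inv_cancel])
    exact mul_inv_eq_one.1 this
  obtain ⟨k, hk, hkx⟩ := hlift x ((le_sup_left : four x x' hxx hxx' hc.symm ≤ _)
    (Or.inr (Or.inl rfl)))
  obtain ⟨k', hk', hkx'⟩ := hlift x' ((le_sup_left : four x x' hxx hxx' hc.symm ≤ _)
    (Or.inr (Or.inr (Or.inl rfl))))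
  obtain ⟨k'', hk'', hkx''⟩ := hlift x'' ((le_sup_right : zpowers x'' ≤ _) (mem_zpowers x''))
  have kk : k * k = 1 := hfT _ _ (mul_mem hk hk) (one_mem _) (by rw [map_mul, hkx, hxx, map_one])
  have kk' : k' * k' = 1 := hfT _ _ (mul_mem hk' hk') (one_mem _) (by
    rw [map_mul, hkx', hxx', map_one])
  have kk'' : k'' * k'' = 1 := hfT _ _ (mul_mem hk'' hk'') (one_mem _) (by
    rw [map_mul, hkx'', hxx'', map_one])
  have kc : k' * k = k * k' := hfT _ _ (mul_mem hk' hk) (mul_mem hk hk') (by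
    rw [map_mul, map_mul, hkx, hkx', hc])
  have kc1 : k'' * k = k * k'' := hfT _ _ (mul_mem hk'' hk) (mul_mem hk hk'') (by
    rw [map_mul, map_mul, hkx, hkx'', hc1])
  have kc2 : k'' * k' = k' * k'' := hfT _ _ (mul_mem hk'' hk') (mul_mem hk' hk'') (by
    rw [map_mul, map_mul, hkx', hkx'', hc2])
  have k1 : k ≠ 1 := fun e => hx1 (by rw [← hkx, e, map_one])
  have k1' : k' ≠ 1 := fun e => hx1' (by rw [← hkx', e, map_one])
  have k1'' : k'' ≠ 1 := fun e => n1 (by rw [← hkx'', e, map_one])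
  have kne : k' ≠ k := fun e => hne (by rw [← hkx, ← hkx', e])
  have kn2 : k'' ≠ k := fun e => n2 (by rw [← hkx'', ← hkx, e])
  have kn3 : k'' ≠ k' := fun e => n3 (by rw [← hkx'', ← hkx', e])
  have kn4 : k'' ≠ k * k' := fun e => n4 (by rw [← hkx'', ← hkx, ← hkx', e, map_mul])
  -- transport to `C A`
  obtain ⟨g, hg⟩ := h.cj.exists_eq
  have htr : ∀ z : ↥(C B), g⁻¹ * (z : G) * g ∈ C A := by
    intro z
    rw [← mem_C_cj, ← hg]
    exact z.2
  let τ : ↥(C B) → Perm α := fun z => L'.φ (g⁻¹ * (z : G) * g)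
  have hτmul : ∀ a b, τ (a * b) = τ a * τ b := by
    intro a b
    show L'.φ (g⁻¹ * ((a : G) * b) * g) = _
    rw [show g⁻¹ * ((a : G) * b) * g = (g⁻¹ * a * g) * (g⁻¹ * b * g) by group,
      L'.mul _ _ (h.leB (htr a)) (h.leB (htr b))]
  have hτ1 : ∀ a, a * a = 1 → τ a = 1 → a = 1 := by
    intro a ha hta
    have h7 : g⁻¹ * (a : G) * g = 1 := by
      refine h.symm.eq_one_of_sq L' (htr a) ?_ hta
      have : (a : G) * a = 1 := congrArg Subtype.val ha
      rw [show g⁻¹ * (a : G) * g * (g⁻¹ * a * g) = g⁻¹ * ((a : G) * a) * g by group, this]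
      group
    apply Subtype.ext
    show (a : G) = 1
    rw [show (a : G) = g * (g⁻¹ * a * g) * g⁻¹ by group, h7]; group
  have hτX : ∀ a, τ a ∈ L'.img (C A) := fun a => L'.φ_mem_img (htr a) (h.leB (htr a))
  have hτone : τ 1 = 1 := by
    show L'.φ (g⁻¹ * 1 * g) = 1
    rw [mul_one, inv_mul_cancel, L'.one]
  have hτne : ∀ a b, a * a = 1 → b * b = 1 → a * b = b * a → a ≠ b → τ a ≠ τ b := by
    intro a b ha hb hab hne e
    apply hne
    have hbi : b⁻¹ = b := inv_eq_of_mul_eq_one_left hb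
    rw [← hbi]
    apply eq_inv_of_mul_eq_one_left
    apply hτ1
    · rw [mul_assoc, ← mul_assoc b, ← hab, mul_assoc a, hb, mul_one, ha]
    · rw [hτmul, e, ← hτmul, hb, hτone]
  have hsq : ∀ a, a * a = 1 → τ a * τ a = 1 := fun a ha => by rw [← hτmul, ha, hτone]
  have hcm : ∀ a b, a * b = b * a → τ a * τ b = τ b * τ a := fun a b hab => by
    rw [← hτmul, hab, hτmul]
  have t1 : τ k ≠ 1 := fun e => k1 (hτ1 k kk e)
  have t1' : τ k' ≠ 1 := fun e => k1' (hτ1 k' kk' e)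
  have t1'' : τ k'' ≠ 1 := fun e => k1'' (hτ1 k'' kk'' e)
  have hne' : τ k' ≠ τ k := hτne k' k kk' kk kc kne
  have hgood' := L'.img_good h.teB h.cj.symm h.ne.symm hα (hτX k) t1 (hsq k kk)
  -- `X'` is not in case A
  obtain ⟨y₀, hy₀, hy₀1, hy₀y₀, hfx'⟩ : ∃ x ∈ L'.img (C A), x ≠ 1 ∧ x * x = 1 ∧ fx x ≤ 2 := by
    by_contra hcon
    push Not at hcon
    have hA' : ∀ x ∈ L'.img (C A), x ≠ 1 → x * x = 1 → 3 ≤ fx x := fun x hx hx1 hxx =>
      hcon x hx hx1 hxx
    rcases hgood'.caseA_small hA' (hτX k) (hτX k') (hτX k'') t1 t1' t1'' (hsq k kk) (hsq k' kk')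
      (hsq k'' kk'') (hcm _ _ kc) (hcm _ _ kc1) (hcm _ _ kc2) hne' with e | e | e
    · exact hτne _ _ kk'' kk kc1 kn2 e
    · exact hτne _ _ kk'' kk' kc2 kn3 e
    · refine hτne k'' (k * k') kk'' ?_ ?_ kn4 (by rw [hτmul]; exact e)
      · rw [mul_assoc, ← mul_assoc k', kc, mul_assoc k, kk', mul_one, kk]
      · rw [← mul_assoc, kc1, mul_assoc, kc2, mul_assoc]
  have hno' : ∀ i j, i ≠ j → ¬ R (L'.img (C A)) i j := fun i j hij hR =>
    hgood'.no_three hy₀ hy₀1 hy₀y₀ hfx' hij hR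
  obtain ⟨s', t', hs', ht', -, hk0⟩ := hgood'.caseB hno' (hτX k) (hτX k') t1 t1' (hsq k kk)
    (hsq k' kk') (hcm _ _ kc) hne'
  -- the element of order three
  obtain ⟨a, ha, haw⟩ := L.lift w hw
  have hav : a * v = v * a := L.comm_of h.teA ha (h.leA hv) (by rw [haw]; exact hwx)
  have haB : a ∈ N B := h.teB.nrm hv h1 h4 hav
  have hcom : ∀ b : ↥(C B), L'.φ a * τ b = τ b * L'.φ a := by
    intro b
    refine L'.comm' haB (h.leB (htr b)) ?_
    exact (comm_of_C (htr b) ha).symm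
  have ha3 : a ^ 3 = 1 := by
    apply L.eq_one h.teA (pow_mem ha 3)
    rw [L.pow (le_N ha), haw, hw3]
  have h9 := PermTypes.cube_eq_one_of_two_orbits (hsq k kk) (hsq k' kk') (hcm _ _ kc) hs' ht' hk0
    (hcom k) (hcom k') (by rw [← L'.pow haB, ha3, L'.one])
  have h10 : a ∈ C B := (L'.ker a haB).1 h9
  apply hwX
  rw [← haw]
  exact L.φ_mem_img h10 (le_N ha)

end Two

end Cfsg.Agent.StdAlt
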