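import Cfsg.Agent.StdAlt.First
import Cfsg.Agent.TwoFusion.ClosedCommutator
import Cfsg.Prelude.Def_CaseTheorems

/-!
# The commutator half of Goldschmidt's product theorem for groups without odd normal subgroups
-/

set_option autoImplicit false

namespace Cfsg.Agent.StdAlt.CommHalf

open Cfsg.Agent.StdAlt.First

/-- the commutator half of Goldschmidt's product theorem -/
theorem commHalf_of_oddCore {G : Type*} [Group G] [Finite G] (hO : Cfsg.oddCore G = ⊥) :
    CommHalf G := by
  intro P S₁ S₂ _ hdisj h₁ h₂
  rw [eq_bot_iff, ← hO]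
  exact Cfsg.Agent.TwoFusion.ClosedCommutator.commutator_le P S₁ S₂ hdisj h₁ h₂

end Cfsg.Agent.StdAlt.CommHalf
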