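import Cfsg.Agent.StdAlt.Glue
import Cfsg.Agent.StdAlt.Six.Main

/-!
# Degree at least six
-/

set_option autoImplicit false

namespace Cfsg.Agent.StdAlt.GlueSix

open Subgroup Equiv Equiv.Perm Cfsg.Agent.StdAlt Cfsg.Agent.StdAlt.Conj Cfsg.Agent.StdAlt.First

variable {G : Type*} [Group G]

/-- **degree six** -/
theorem six [Finite G] {A : Subgroup G} (hA : Cfsg.IsStandardSubgroup A)
    (e : A ≃* alternatingGroup (Fin 6)) (hR : ¬ Cfsg.PRankLE 2 1 ↥(centralizer (A : Set G)))
    (hcomm : CommHalf G) : A.Normal ∨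
      Nonempty (↥(normalClosure (A : Set G)) ≃* alternatingGroup (Fin 10)) := by
  have hs := Main.simple_of_equiv (by omega) e
  rcases Six.normal_or_six (TE.of_standard hA hs) e (Main.hasFour_of_rank hR) hcomm with
    h | ⟨L₀, h1, h2, h3⟩
  · exact Or.inl h
  · exact Or.inr (Glue.alt_of (by omega) h1 h2 h3 (Glue.ne_bot_of (by omega) e))

/-- **degree at least six** -/
theorem ge_six [Finite G] {A : Subgroup G} (hA : Cfsg.IsStandardSubgroup A) {n : ℕ} (hn : 6 ≤ n)
    (e : A ≃* alternatingGroup (Fin n)) (hR : ¬ Cfsg.PRankLE 2 1 ↥(centralizer (A : Set G)))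
    (hcomm : CommHalf G) : A.Normal ∨
      Nonempty (↥(normalClosure (A : Set G)) ≃* alternatingGroup (Fin (n + 4))) := by
  rcases Nat.lt_or_ge n 7 with h | h
  · obtain rfl : n = 6 := by omega
    exact six hA e hR hcomm
  · exact Glue.seven hA h e hR hcomm

end Cfsg.Agent.StdAlt.GlueSix
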