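import Cfsg.Agent.StdAlt.Lab
import Cfsg.Agent.StdAlt.First

/-!
# Labelled pairs

Consequences of the permutation lemmas for a pair `A ≠ B` of conjugates.
-/

set_option autoImplicit false
set_option linter.unusedSectionVars false

namespace Cfsg.Agent.StdAlt

open Subgroup Equiv Equiv.Perm Cfsg.Agent.StdAlt.Conj Cfsg.Agent.StdAlt.Pairs
open Cfsg.Agent.StdAlt.PermTypes (cyc fx)

variable {G : Type*} [Group G] {A B : Subgroup G} {α : Type*} [Fintype α] [DecidableEq α]

theorem exists_sigma (hα : 4 ≤ Fintype.card α) {x : Perm α} (hx1 : x ≠ 1) (hxx : x * x = 1)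
    (hxalt : x ∉ alternatingGroup α) :
    ∃ σ ∈ alternatingGroup α, σ ≠ 1 ∧ σ * σ = 1 ∧ σ * x = x * σ ∧
      ∃ w ∈ alternatingGroup α, w * x * w⁻¹ = σ * x := by
  have hx2 : ∀ k, x (x k) = k := PermTypes.app_app hxx
  obtain ⟨i, hi⟩ : ∃ i, x i ≠ i := by
    by_contra hcon
    push Not at hcon
    exact hx1 (Perm.ext hcon)
  by_cases h : ∃ k, k ≠ i ∧ k ≠ x i ∧ x k ≠ k
  · obtain ⟨k, hk1, hk2, hk3⟩ := h
    have hnd : [i, k, x i, x k].Nodup := by
      refine PermTypes.nodup_four (Ne.symm hk1) (Ne.symm hi) ?_ hk2 (Ne.symm hk3)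
        (fun e => hk1 (x.injective e).symm)
      intro e
      apply hk2
      rw [e, hx2]
    refine ⟨swap i k * swap (x i) (x k), PermTypes.swap_mul_mem (Ne.symm hk1)
      (fun e => hk1 (x.injective e).symm), PermTypes.sig_ne_one hnd, PermTypes.sig_sq hnd,
      PermTypes.comm_sig hxx hnd, swap (x i) (x k) * x, ?_, ?_⟩
    · rw [mem_alternatingGroup, Perm.sign_mul, sign_swap (fun e => hk1 (x.injective e).symm)]
      have h1 : Perm.sign x = -1 := by
        rcases Int.units_eq_one_or (Perm.sign x) with h2 | h2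
        · exact absurd (mem_alternatingGroup.2 h2) hxalt
        · exact h2
      rw [h1]; decide
    · have h1 : swap (x i) (x k) * x * x * (swap (x i) (x k) * x)⁻¹ =
          swap (x i) (x k) * (x * x) * x⁻¹ * swap (x i) (x k) := by
        rw [mul_inv_rev, swap_inv]; group
      have hxi : x⁻¹ = x := inv_eq_of_mul_eq_one_left hxx
      rw [h1, hxx, mul_one, hxi, mul_assoc, mul_swap_eq_swap_mul, hx2, hx2, ← mul_assoc,
        ← PermTypes.swap_swap_comm hnd]
  · push Not at h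
    obtain ⟨j, hj⟩ : ∃ j, x i = j := ⟨_, rfl⟩
    -- `x` is the transposition `(i, j)`
    have hxeq : x = swap i j := by
      ext k
      by_cases h1 : k = i
      · rw [h1, swap_apply_left, hj]
      by_cases h2 : k = j
      · rw [h2, swap_apply_right, ← hj, hx2]
      rw [swap_apply_of_ne_of_ne h1 h2, h k h1 (by rw [hj]; exact h2)]
    have hij : i ≠ j := by rw [← hj]; exact Ne.symm hi
    subst hxeq
    obtain ⟨k, hk⟩ := PermTypes.exists_notMem ({i, j} : Finset α)
      (lt_of_le_of_lt Finset.card_le_two (by omega))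
    obtain ⟨l, hl⟩ := PermTypes.exists_notMem ({i, j, k} : Finset α)
      (lt_of_le_of_lt Finset.card_le_three (by omega))
    simp only [Finset.mem_insert, Finset.mem_singleton, not_or] at hk hl
    have hnd : [i, j, k, l].Nodup := PermTypes.nodup_four hij (Ne.symm hk.1)
      (Ne.symm hl.1) (Ne.symm hk.2) (Ne.symm hl.2.1) (Ne.symm hl.2.2)
    have hcomm := PermTypes.swap_swap_comm hnd
    refine ⟨swap i j * swap k l, PermTypes.swap_mul_mem hij (Ne.symm hl.2.2), ?_, ?_,
      ?_, swap i k * swap j l, PermTypes.swap_mul_mem (Ne.symm hk.1) (Ne.symm hl.2.1), ?_⟩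
    · intro e
      have e' := congrArg (fun f : Perm α => f i) e
      simp only [one_apply] at e'
      rw [mul_apply, swap_apply_of_ne_of_ne (Ne.symm hk.1) (Ne.symm hl.1), swap_apply_left] at e'
      exact hij e'.symm
    · rw [mul_assoc, ← mul_assoc (swap k l), ← hcomm, mul_assoc (swap i _), swap_mul_self,
        mul_one, swap_mul_self]
    · rw [mul_assoc, ← hcomm]
    · have e1 : (swap i k * swap j l) i = k := by
        rw [mul_apply, swap_apply_of_ne_of_ne hij (Ne.symm hl.1), swap_apply_left]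
      have e2 : (swap i k * swap j l) j = l := by
        rw [mul_apply, swap_apply_left, swap_apply_of_ne_of_ne hl.1 hl.2.2]
      rw [PermTypes.swap_conj, e1, e2, hcomm, mul_assoc, swap_mul_self, mul_one]

theorem Lab.outer (L : Lab A α) (hA : TE A) (hα : 4 ≤ Fintype.card α) : Outer A := by
  intro y hy hy1 hyy hout
  have hyC : y ∉ C A := fun h => hout 1 (one_mem _) (by rwa [one_mul])
  have hxalt : L.φ y ∉ alternatingGroup α := by
    intro h
    obtain ⟨a, ha, hax⟩ := L.lift _ h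
    apply hout a ha
    rw [← L.ker _ (mul_mem (le_N ha) hy), L.mul _ _ (le_N ha) hy, hax, ← L.mul _ _ hy hy, hyy,
      L.one]
  obtain ⟨σ, hσ, hσ1, hσσ, hσx, w', hw', hwx⟩ := exists_sigma hα (x := L.φ y)
    (fun h => hyC ((L.ker y hy).1 h)) (by rw [← L.mul _ _ hy hy, hyy, L.one]) hxalt
  obtain ⟨s, hs, hsσ⟩ := L.lift σ hσ
  obtain ⟨w, hw, hww⟩ := L.lift w' hw'
  have hsy : s * y = y * s := L.comm_of hA hs hy (by rw [hsσ]; exact hσx)
  refine ⟨s, hs, ?_, ?_, hsy, w, hw, ?_⟩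
  · rintro rfl
    rw [L.one] at hsσ
    exact hσ1 hsσ.symm
  · apply L.eq_one hA (mul_mem hs hs)
    rw [L.mul _ _ (le_N hs) (le_N hs), hsσ, hσσ]
  · apply L.eq_of_mul_inv_mem hA
      (mul_mem (mul_mem (le_N hw) hy) (inv_mem (le_N hw))) (mul_mem (le_N hs) hy)
    · rw [L.conj (le_N hw) hy, L.mul _ _ (le_N hs) hy, hww, hsσ]
      exact hwx
    · rw [show w * y * w⁻¹ * (s * y)⁻¹ = w * (y * w⁻¹ * y⁻¹) * s⁻¹ by group]
      exact mul_mem (mul_mem hw (conj_mem hy (inv_mem hw))) (inv_mem hs)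

/-! ### the kernel is odd -/

/-- elements centralizing two different conjugates have odd order -/
theorem odd_orderOf [Finite G] (hA : TE A) (hB : Cj A B) (hne : A ≠ B) {z : G} (hz : z ∈ C A)
    (hz' : z ∈ C B) : Odd (orderOf z) := by
  by_contra hcon
  rw [Nat.not_odd_iff_even] at hcon
  obtain ⟨m, hm⟩ := hcon
  have hpos : 0 < orderOf z := orderOf_pos z
  refine hne (hA.eq_of_mem hB (k := z ^ m) ?_ ?_ (pow_mem hz m) (pow_mem hz' m))
  · intro e
    have := Nat.le_of_dvd (by omega) (orderOf_dvd_of_pow_eq_one e)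
    omega
  · rw [← pow_add, ← hm, pow_orderOf_eq_one]

/-- lifting involutions -/
theorem Lab.lift_inv [Finite G] (L : Lab A α) (hA : TE A) (hB : Cj A B) (hne : A ≠ B)
    {x : Perm α} (hx : x ∈ L.img (C B)) (hxx : x * x = 1) :
    ∃ k ∈ C B, k ∈ N A ∧ L.φ k = x ∧ k * k = 1 := by
  obtain ⟨k, hk, hkN, rfl⟩ := L.mem_img.1 hx
  have h1 : k * k ∈ C A := by rw [← L.ker _ (mul_mem hkN hkN), L.mul _ _ hkN hkN, hxx]
  obtain ⟨m, hm⟩ := odd_orderOf hA hB hne h1 (mul_mem hk hk)
  have h2 : (k * k) ^ orderOf (k * k) = 1 := pow_orderOf_eq_one _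
  refine ⟨k ^ orderOf (k * k), pow_mem hk _, pow_mem hkN _, ?_, ?_⟩
  · rw [L.pow hkN, hm, pow_add, pow_mul, sq, hxx, one_pow, one_mul, pow_one]
  · rw [← (Commute.refl k).mul_pow, h2]

/-- `4 ∣ |C B ∩ N A|` implies `4 ∣` the order of its image -/
theorem Lab.four_dvd_img [Finite G] (L : Lab A α) (hA : TE A) (hB : Cj A B) (hne : A ≠ B)
    (h4 : 4 ∣ Nat.card ↥(C B ⊓ N A)) : 4 ∣ Nat.card (L.img (C B)) := by
  set H : Subgroup ↥(N A) := (C B).subgroupOf (N A) with hH
  have hcard : Nat.card H = Nat.card ↥(C B ⊓ N A) := by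
    rw [hH]
    have h := Nat.card_congr ((H.equivMapOfInjective (N A).subtype
      (N A).subtype_injective).toEquiv)
    rw [subgroupOf_map_subtype] at h
    exact h
  let f : H →* Perm α := L.hom.comp H.subtype
  have hrange : f.range = L.img (C B) := by
    rw [MonoidHom.range_comp, H.range_subtype]
    rfl
  have hker : Odd (Nat.card f.ker) := by
    by_contra hcon
    rw [Nat.not_odd_iff_even, even_iff_two_dvd] at hcon
    obtain ⟨z, hz⟩ := exists_prime_orderOf_dvd_card' 2 hcon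
    have hz1 : (((z : H) : N A) : G) ∈ C A := by
      rw [← L.ker _ ((z : H) : N A).2]
      exact (MonoidHom.mem_ker.1 z.2)
    have h3 := odd_orderOf hA hB hne hz1 (mem_subgroupOf.1 (z : H).2)
    rw [orderOf_coe, orderOf_coe, orderOf_coe, hz] at h3
    exact absurd h3 (by decide)
  have h1 : Nat.card H = Nat.card f.range * Nat.card f.ker := by
    rw [card_eq_card_quotient_mul_card_subgroup f.ker,
      Nat.card_congr (QuotientGroup.quotientKerEquivRange f).toEquiv]
  rw [← hrange]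
  rw [← hcard, h1] at h4
  have hcop : Nat.Coprime 4 (Nat.card f.ker) := by
    have : Nat.Coprime 2 (Nat.card f.ker) := Nat.coprime_two_left.2 hker
    exact Nat.Coprime.pow_left 2 this
  exact hcop.dvd_of_dvd_mul_right h4

/-- conjugation by elements of `A` commuting with an involution of `C B` -/
theorem Lab.norm_img [Finite G] (L : Lab A α) (hA : TE A) (hB : Cj A B) (hne : A ≠ B)
    {x : Perm α} (hx : x ∈ L.img (C B)) (hx1 : x ≠ 1) (hxx : x * x = 1) {w : Perm α}
    (hw : w ∈ alternatingGroup α) (hc : w * x = x * w) {y : Perm α} (hy : y ∈ L.img (C B)) :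
    w * y * w⁻¹ ∈ L.img (C B) ∧ w * y * w⁻¹ * y⁻¹ ∈ L.img (C B ⊓ A) := by
  obtain ⟨k, hk, hkN, rfl, hkk⟩ := L.lift_inv hA hB hne hx hxx
  obtain ⟨a, ha, rfl⟩ := L.lift w hw
  obtain ⟨j, hj, hjN, rfl⟩ := L.mem_img.1 hy
  have hk1 : k ≠ 1 := fun e => hx1 (by rw [e, L.one])
  have hak : a * k = k * a := L.comm_of hA ha hkN hc
  have haB : a ∈ N B := (hA.of_cj hB).nrm hk hk1 hkk hak
  have h1 : a * j * a⁻¹ ∈ C B := conj_mem_C haB hj
  have h2 : a * j * a⁻¹ ∈ N A := mul_mem (mul_mem (le_N ha) hjN) (inv_mem (le_N ha))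
  rw [← L.conj (le_N ha) hjN]
  refine ⟨L.φ_mem_img h1 h2, ?_⟩
  rw [← L.inv hjN, ← L.mul _ _ h2 (inv_mem hjN)]
  refine L.φ_mem_img (mem_inf.2 ⟨mul_mem h1 (inv_mem hj), ?_⟩) (mul_mem h2 (inv_mem hjN))
  rw [show a * j * a⁻¹ * j⁻¹ = a * (j * a⁻¹ * j⁻¹) by group]
  exact mul_mem ha (conj_mem hjN (inv_mem ha))

/-- `A` is not contained in `C B` -/
theorem Lab.img_good [Finite G] (L : Lab A α) (hA : TE A) (hB : Cj A B) (hne : A ≠ B)
    (hα : 7 ≤ Fintype.card α) {x : Perm α} (hx : x ∈ L.img (C B)) (hx1 : x ≠ 1)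
    (hxx : x * x = 1) : PermTypes.Good (L.img (C B)) := by
  refine ⟨hα, fun x hx hx1 hxx w hw hc y hy => (L.norm_img hA hB hne hx hx1 hxx hw hc hy).1, ?_⟩
  intro hle
  -- the image of `C B ⊓ A` is normalized by the alternating group
  have hsimple : IsSimpleGroup (alternatingGroup α) :=
    alternatingGroup.isSimpleGroup (by rw [Nat.card_eq_fintype_card]; omega)
  set M : Subgroup (Perm α) := L.img (C B ⊓ A) with hM
  have hMn : ∀ y ∈ L.img (C B), ∀ m ∈ M, y * m * y⁻¹ ∈ M := by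
    intro y hy m hm
    obtain ⟨j, hj, hjN, rfl⟩ := L.mem_img.1 hy
    obtain ⟨a, ha, haN, rfl⟩ := L.mem_img.1 hm
    rw [← L.conj hjN haN]
    refine L.φ_mem_img (mem_inf.2 ⟨?_, conj_mem hjN (mem_inf.1 ha).2⟩)
      (mul_mem (mul_mem hjN haN) (inv_mem hjN))
    exact mul_mem (mul_mem hj (mem_inf.1 ha).1) (inv_mem hj)
  have hnormal : (M.subgroupOf (alternatingGroup α)).Normal := by
    constructor
    intro m hm g
    rw [mem_subgroupOf] at hm ⊢
    exact hMn g (hle g.2) m hm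
  rcases hnormal.eq_bot_or_eq_top with hbot | htop
  · -- then `C_Alt(x)` is central in `Alt`
    have hcen : ∀ w ∈ alternatingGroup α, w * x = x * w → w = 1 := by
      intro w hw hwx
      by_contra hw1
      obtain ⟨i, hi⟩ : ∃ i, w i ≠ i := by
        by_contra hcon
        push Not at hcon
        exact hw1 (Perm.ext hcon)
      obtain ⟨j, hj⟩ := PermTypes.exists_notMem ({i, w i} : Finset α)
        (lt_of_le_of_lt Finset.card_le_two (by omega))
      obtain ⟨k, hk⟩ := PermTypes.exists_notMem ({i, w i, j} : Finset α)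
        (lt_of_le_of_lt Finset.card_le_three (by omega))
      simp only [Finset.mem_insert, Finset.mem_singleton, not_or] at hj hk
      have hy : cyc i j k ∈ alternatingGroup α :=
        PermTypes.cyc_mem_alt (Ne.symm hj.1) (Ne.symm hk.2.2)
      have h1 := (L.norm_img hA hB hne hx hx1 hxx hw hwx (hle hy)).2
      have h2 : w * cyc i j k * w⁻¹ * (cyc i j k)⁻¹ ∈ alternatingGroup α :=
        mul_mem ((inferInstance : (alternatingGroup α).Normal).conj_mem _ hy w) (inv_mem hy)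
      have h3 : (⟨_, h2⟩ : alternatingGroup α) ∈ M.subgroupOf (alternatingGroup α) :=
        mem_subgroupOf.2 h1
      rw [hbot, mem_bot] at h3
      have h4 : w * cyc i j k * w⁻¹ * (cyc i j k)⁻¹ = 1 := congrArg Subtype.val h3
      rw [mul_inv_eq_one, PermTypes.cyc_conj] at h4
      have h5 : cyc (w i) (w j) (w k) (w i) = w j :=
        PermTypes.cyc_apply_fst (fun e => hk.1 (w.injective e).symm)
          (fun e => hj.1 (w.injective e).symm)
      rw [h4, PermTypes.cyc_apply_of_ne hi (Ne.symm hj.2) (Ne.symm hk.2.1)] at h5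
      exact hj.1 (w.injective h5).symm
    -- but `C_Alt(x) ≠ 1`
    by_cases hxa : x ∈ alternatingGroup α
    · exact hx1 (hcen x hxa rfl)
    · obtain ⟨σ, hσ, hσ1, -, hσx, -⟩ := exists_sigma (by omega) hx1 hxx hxa
      exact hσ1 (hcen σ hσ hσx)
  · apply hA.ncomm B hB
    intro a ha
    have h1 : (⟨L.φ a, L.even a ha⟩ : alternatingGroup α) ∈ M.subgroupOf (alternatingGroup α) := by
      rw [htop]; trivial
    obtain ⟨b, hb, -, hab⟩ := L.mem_img.1 (mem_subgroupOf.1 h1)
    rw [← L.inj hA (mem_inf.1 hb).2 ha hab]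
    exact (mem_inf.1 hb).1

/-- **P1** for pairs -/
theorem Lab.exists_inv_mem [Finite G] (L : Lab A α) (hA : TE A) (hB : Cj A B) (hne : A ≠ B)
    (hα : 7 ≤ Fintype.card α) (h4 : 4 ∣ Nat.card ↥(C B ⊓ N A)) :
    ∃ u ∈ A, u ∈ C B ∧ u ≠ 1 ∧ u * u = 1 := by
  obtain ⟨u, hu, hu1, huu⟩ := PermTypes.exists_inv_of_four_dvd hα (L.img (C B)) (L.img (C B ⊓ A))
    (fun x hx hx1 hxx w hw hc y hy => (L.norm_img hA hB hne hx hx1 hxx hw hc hy).2)
    (L.four_dvd_img hA hB hne h4)
  obtain ⟨a, ha, haN, rfl⟩ := L.mem_img.1 hu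
  refine ⟨a, (mem_inf.1 ha).2, (mem_inf.1 ha).1, fun e => hu1 (by rw [e, L.one]), ?_⟩
  apply L.eq_one hA (mul_mem (mem_inf.1 ha).2 (mem_inf.1 ha).2)
  rw [L.mul _ _ haN haN, huu]

end Cfsg.Agent.StdAlt
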