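import Cfsg.Agent.StdAlt.Main

/-!
# From the normal alternating subgroup to the normal closure
-/

set_option autoImplicit false

namespace Cfsg.Agent.StdAlt.Glue

open Subgroup Equiv Equiv.Perm Cfsg.Agent.StdAlt Cfsg.Agent.StdAlt.Conj Cfsg.Agent.StdAlt.First

variable {G : Type*} [Group G]

/-- the normal closure of a nontrivial subgroup of a normal simple subgroup -/
theorem normalClosure_eq {A L₀ : Subgroup G} (hL : L₀.Normal) (hAL : A ≤ L₀) (hs : IsSimpleGroup L₀)
    (hA : A ≠ ⊥) : normalClosure (A : Set G) = L₀ := by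
  have hle : normalClosure (A : Set G) ≤ L₀ := normalClosure_le_normal hAL
  have hn : ((normalClosure (A : Set G)).subgroupOf L₀).Normal :=
    (inferInstance : (normalClosure (A : Set G)).Normal).subgroupOf L₀
  rcases hs.eq_bot_or_eq_top_of_normal _ hn with h | h
  · exfalso
    apply hA
    rw [subgroupOf_eq_bot] at h
    have h1 : A ≤ normalClosure (A : Set G) := le_normalClosure
    rw [eq_bot_iff]
    intro a ha
    have h2 := h.le_bot (⟨h1 ha, hAL ha⟩ : a ∈ normalClosure (A : Set G) ⊓ L₀)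
    exact h2
  · rw [subgroupOf_eq_top] at h
    exact le_antisymm hle h

theorem alt_of {A L₀ : Subgroup G} {m : ℕ} (hm : 5 ≤ m) (hL : L₀.Normal) (hAL : A ≤ L₀)
    (e : Nonempty (L₀ ≃* alternatingGroup (Fin m))) (hA : A ≠ ⊥) :
    Nonempty (↥(normalClosure (A : Set G)) ≃* alternatingGroup (Fin m)) := by
  obtain ⟨e⟩ := e
  rw [normalClosure_eq hL hAL (Main.simple_of_equiv hm e) hA]
  exact ⟨e⟩

theorem ne_bot_of {A : Subgroup G} {n : ℕ} (hn : 5 ≤ n) (e : A ≃* alternatingGroup (Fin n)) :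
    A ≠ ⊥ := by
  rintro rfl
  have hs := Main.simple_of_equiv hn e
  obtain ⟨x, y, hxy⟩ := hs.exists_pair_ne
  exact hxy (Subsingleton.elim x y)

/-- **degree at least seven** -/
theorem seven [Finite G] {A : Subgroup G} (hA : Cfsg.IsStandardSubgroup A) {n : ℕ} (hn : 7 ≤ n)
    (e : A ≃* alternatingGroup (Fin n)) (hR : ¬ Cfsg.PRankLE 2 1 ↥(centralizer (A : Set G)))
    (hcomm : CommHalf G) : A.Normal ∨
      Nonempty (↥(normalClosure (A : Set G)) ≃* alternatingGroup (Fin (n + 4))) := by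
  have hs := Main.simple_of_equiv (by omega) e
  rcases Main.normal_or (TE.of_standard hA hs) hn e (Main.hasFour_of_rank hR) hcomm with
    h | ⟨L₀, h1, h2, h3⟩
  · exact Or.inl h
  · exact Or.inr (alt_of (by omega) h1 h2 h3 (ne_bot_of (by omega) e))

end Cfsg.Agent.StdAlt.Glue
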