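import Cfsg.Agent.StdAlt.Struct
import Cfsg.Agent.StdAlt.PermRoot

/-!
# The root property of a pair of type two

* `isThreeCycle`: 3-cycles of `A` fixing the four points act as 3-cycles on `B`;
* `exists_swap`: the elements `(c d)(p q)` of `B` act on `A` as transpositions;
* `exists_root`: some `v ∈ B` acting on `B` as `(p c d)` is centralized by a point stabilizer in `A`.
-/

set_option autoImplicit false
set_option linter.unusedSectionVars false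

namespace Cfsg.Agent.StdAlt

open Subgroup Equiv Equiv.Perm Cfsg.Agent.StdAlt.Conj Cfsg.Agent.StdAlt.Pairs
open Cfsg.Agent.StdAlt.PermTypes (cyc fx R)
open Cfsg.Agent.StdAlt.PermRoot

variable {G : Type*} [Group G] [Finite G] {A B : Subgroup G}
variable {α : Type*} [Fintype α] [DecidableEq α]

namespace PD

variable (D : PD A B α)

theorem card_S : D.S.card = 4 := by
  obtain ⟨⟨m1, m2, m3⟩, ⟨m4, m5⟩, m6⟩ := PermTypes.of_nodup_four D.nd
  show (four4 D.a D.b D.c D.d).card = 4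
  unfold four4
  rw [Finset.card_insert_of_notMem, Finset.card_insert_of_notMem, Finset.card_insert_of_notMem,
    Finset.card_singleton]
  · rw [Finset.mem_singleton]; exact m6
  · simp only [Finset.mem_insert, Finset.mem_singleton, not_or]; exact ⟨m4, m5⟩
  · simp only [Finset.mem_insert, Finset.mem_singleton, not_or]; exact ⟨m1, m2, m3⟩

/-- the third conjugate -/
theorem mv_third (h8 : 8 ≤ Fintype.card α) {x : G} (hx : x ∈ A) {e f h : α} (he : e ∉ D.S)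
    (hf : f ∉ D.S) (hh : h ∉ D.S) (hef : e ≠ f) (hfh : f ≠ h) (heh : e ≠ h)
    (hφ : D.L.φ x = cyc e f h) : ∃ a b c d : α, Mv a b c d (D.L'.φ x) := by
  obtain ⟨⟨m1, m2, m3⟩, ⟨m4, m5⟩, m6⟩ := PermTypes.of_nodup_four D.nd
  obtain ⟨u, hu⟩ := exists_ne_list [D.a, D.b, D.c, D.d, e, f, h] (by simp; omega)
  simp only [List.mem_cons, List.not_mem_nil, or_false, not_or] at hu
  obtain ⟨u1, u2, u3, u4, u5, u6, u7⟩ := hu
  have he' := he
  have hf' := hf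
  have hh' := hh
  rw [mem_four4, not_or, not_or, not_or] at he' hf' hh'
  obtain ⟨e1, e2, e3, e4⟩ := he'
  obtain ⟨f1, f2, f3, f4⟩ := hf'
  obtain ⟨k1, k2, k3, k4⟩ := hh'
  have n1 : [D.a, e, D.b, f].Nodup := PermTypes.nodup_four (Ne.symm e1) m1 (Ne.symm f1) e2 hef
    (Ne.symm f2)
  have n2 : [D.c, h, D.d, u].Nodup := PermTypes.nodup_four (Ne.symm k3) m6 (Ne.symm u3) k4
    (Ne.symm u7) (Ne.symm u4)
  have n3 : [e, f, h, u].Nodup := PermTypes.nodup_four hef heh (Ne.symm u5) hfh (Ne.symm u6)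
    (Ne.symm u7)
  have hρ : (swap D.a e * swap D.b f) * (swap D.c h * swap D.d u) ∈ alternatingGroup α :=
    mul_mem (PermTypes.swap_mul_mem (Ne.symm e1) (Ne.symm f2))
      (PermTypes.swap_mul_mem (Ne.symm k3) (Ne.symm u4))
  obtain ⟨g, hg, hgφ⟩ := D.L.lift _ hρ
  have ra : D.L.φ g D.a = e := by
    rw [hgφ, mul_apply, d1_fix m2 (Ne.symm k1) m3 (Ne.symm u1), (d1_apply n1).1]
  have rb : D.L.φ g D.b = f := by
    rw [hgφ, mul_apply, d1_fix m4 (Ne.symm k2) m5 (Ne.symm u2), (d1_apply n1).2.2.1]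
  have rc : D.L.φ g D.c = h := by
    rw [hgφ, mul_apply, (d1_apply n2).1, d1_fix k1 (Ne.symm heh) k2 (Ne.symm hfh)]
  have rd : D.L.φ g D.d = u := by
    rw [hgφ, mul_apply, (d1_apply n2).2.2.1, d1_fix u1 u5 u2 u6]
  have hgN : g ∈ N A := le_N hg
  -- `x ∈ C B₃`
  have hx3 : x ∈ C (Conj.cj g B) := by
    rw [mem_C_cj]
    have h1 : D.L.φ (g⁻¹ * x * g) = cyc D.a D.b D.c := by
      rw [D.L.mul _ _ (mul_mem (inv_mem hgN) (le_N hx)) hgN, D.L.mul _ _ (inv_mem hgN) (le_N hx),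
        D.L.inv hgN, hφ, ← ra, ← rb, ← rc, ← PermTypes.cyc_conj]
      group
    have ha4 : D.a ∈ D.S := mem_four4.2 (Or.inl rfl)
    have hb4 : D.b ∈ D.S := mem_four4.2 (Or.inr (Or.inl rfl))
    have hc4 : D.c ∈ D.S := mem_four4.2 (Or.inr (Or.inr (Or.inl rfl)))
    apply D.mem_C_of (mul_mem (mul_mem (inv_mem hg) hx) hg)
    · rw [h1]; exact PermTypes.cyc_mem_alt m1 m4
    · rw [h1]
      intro i hi
      exact PermTypes.cyc_apply_of_ne (fun e => hi (by rw [e]; exact ha4))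
        (fun e => hi (by rw [e]; exact hb4)) (fun e => hi (by rw [e]; exact hc4))
  obtain ⟨v₁, h1, h1', w1⟩ := D.ex₁
  obtain ⟨v₂, h2, h2', w2⟩ := D.ex₂
  have sq1 : v₁ * v₁ = 1 := by
    apply D.L.eq_one D.two.teA (mul_mem h1 h1)
    rw [D.L.mul _ _ (le_N h1) (le_N h1), w1, d1_sq D.nd]
  have sq2 : v₂ * v₂ = 1 := by
    apply D.L.eq_one D.two.teA (mul_mem h2 h2)
    rw [D.L.mul _ _ (le_N h2) (le_N h2), w2, d1_sq D.nd₂]
  have ne1 : v₁ ≠ 1 := by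
    rintro rfl
    rw [D.L.one] at w1
    exact d1_ne D.nd w1.symm
  have ne2 : v₂ ≠ 1 := by
    rintro rfl
    rw [D.L.one] at w2
    exact d1_ne D.nd₂ w2.symm
  have ne12 : v₁ ≠ v₂ := by
    rintro rfl
    rw [w1] at w2
    exact d1_ne_d2 D.nd w2.symm
  have hcm : v₁ * v₂ = v₂ * v₁ := by
    apply D.L.comm_of D.two.teA h1 (le_N h2)
    rw [w1, w2]
    exact d1_comm_d2 D.nd
  -- the involution `k` of `C B₃`
  have hk : g * v₁ * g⁻¹ ∈ C (Conj.cj g B) := by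
    rw [mem_C_cj, show g⁻¹ * (g * v₁ * g⁻¹) * g = v₁ by group]; exact h1'
  have hkA : g * v₁ * g⁻¹ ∈ A := mul_mem (mul_mem hg h1) (inv_mem hg)
  have hkφ : D.L.φ (g * v₁ * g⁻¹) = swap e f * swap h u := by
    rw [D.L.conj hgN (le_N h1), w1, show D.L.φ g * (swap D.a D.b * swap D.c D.d) * (D.L.φ g)⁻¹ =
      (D.L.φ g * swap D.a D.b * (D.L.φ g)⁻¹) * (D.L.φ g * swap D.c D.d * (D.L.φ g)⁻¹) by group,
      PermTypes.swap_conj, PermTypes.swap_conj, ra, rb, rc, rd]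
  have hkF : swap e f * swap h u ∈ D.F := ⟨PermTypes.swap_mul_mem hef (Ne.symm u7),
    d1_fix (Ne.symm e1) (Ne.symm f1) (Ne.symm k1) (Ne.symm u1),
    d1_fix (Ne.symm e2) (Ne.symm f2) (Ne.symm k2) (Ne.symm u2),
    d1_fix (Ne.symm e3) (Ne.symm f3) (Ne.symm k3) (Ne.symm u3),
    d1_fix (Ne.symm e4) (Ne.symm f4) (Ne.symm k4) (Ne.symm u4)⟩
  have hk1 : g * v₁ * g⁻¹ ≠ 1 := by
    intro e
    apply ne1
    rw [show v₁ = g⁻¹ * (g * v₁ * g⁻¹) * g by group, e]; group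
  have hkk : g * v₁ * g⁻¹ * (g * v₁ * g⁻¹) = 1 := by
    rw [show g * v₁ * g⁻¹ * (g * v₁ * g⁻¹) = g * (v₁ * v₁) * g⁻¹ by group, sq1]; group
  have hN3 : ∀ {v : G}, v ∈ A → V4 D.a D.b D.c D.d (D.L.φ v) → v ∈ N (Conj.cj g B) := by
    intro v hv hV
    refine (D.two.teB.cj g).nrm hk hk1 hkk (D.L.comm_of D.two.teA hv (le_N hkA) ?_)
    rw [hkφ]
    exact Mv.comm_AF (fun i hi => hV.fix hi) hkF
  have hv1N : v₁ ∈ N (Conj.cj g B) := hN3 h1 (by rw [w1]; exact D.v4₁)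
  have hv2N : v₂ ∈ N (Conj.cj g B) := hN3 h2 (by rw [w2]; exact D.v4₂)
  have h4 : 4 ∣ Nat.card ↥(C B ⊓ N (Conj.cj g B)) := by
    have h5 : Pairs.four v₁ v₂ sq1 sq2 hcm ≤ C B ⊓ N (Conj.cj g B) := by
      intro z hz
      rcases mem_four.1 hz with rfl | rfl | rfl | rfl
      · exact one_mem _
      · exact ⟨h1', hv1N⟩
      · exact ⟨h2', hv2N⟩
      · exact mul_mem (⟨h1', hv1N⟩ : _ ∈ C B ⊓ N (Conj.cj g B)) ⟨h2', hv2N⟩
    have h6 := card_dvd_of_le h5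
    rwa [card_four ne1 ne2 ne12] at h6
  have hne : B ≠ Conj.cj g B := by
    intro hB
    rw [← hB] at hk
    have h5 := D.t6 hk e he
    rw [hkφ, (d1_apply n3).1] at h5
    exact hef h5.symm
  have htwo : Two B (Conj.cj g B) := Two.of_good D.L' (D.L'.cj g) D.two.teB (Cj.cj B g) hne D.card h4
  obtain ⟨D', hD', -⟩ := exists_pd D.L' (D.L'.cj g) htwo D.card (D.four.of_cj D.two.cj)
  refine ⟨D'.a, D'.b, D'.c, D'.d, ?_⟩
  rw [← hD']
  exact D'.t6 hx3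

/-- **S4** -/
theorem isThreeCycle {x : G} (hx : x ∈ A) {e f h : α} (he : e ∉ D.S)
    (hf : f ∉ D.S) (hh : h ∉ D.S) (hef : e ≠ f) (hfh : f ≠ h) (heh : e ≠ h)
    (hφ : D.L.φ x = cyc e f h) : (D.L'.φ x).IsThreeCycle := by
  have hxF : D.L.φ x ∈ D.F := by rw [hφ]; exact cyc_mem_AF he hf hh hef hfh
  have hxB := D.mem_B_of hx hxF
  obtain ⟨-, hF⟩ := D.t3 hx hxF
  have hx3 : x ^ 3 = 1 := by
    apply D.L.eq_one D.two.teA (pow_mem hx 3)
    rw [D.L.pow (le_N hx), hφ, PermTypes.cyc_pow_three hef hfh heh]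
  apply isThreeCycle_of
  · rw [← D.L'.pow (le_N hxB), hx3, D.L'.one]
  · intro h1
    have h2 := D.L'.eq_one D.two.teB hxB h1
    rw [h2, D.L.one] at hφ
    have h3 := congrArg (fun f : Perm α => f e) hφ
    simp only [one_apply] at h3
    rw [PermTypes.cyc_apply_fst heh hef] at h3
    exact hef h3
  · by_cases h8 : 8 ≤ Fintype.card α
    · obtain ⟨a, b, c, d, hm⟩ := D.mv_third h8 hx he hf hh hef hfh heh hφ
      have h1 : (D.L'.φ x).support ⊆ four4 a b c d := by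
        intro i hi
        by_contra hi'
        exact (mem_support.1 hi) (hm i hi')
      have h2 := Finset.card_le_card h1
      have h3 : (four4 a b c d).card ≤ 4 := card_four4_le
      omega
    · have h1 : Disjoint (D.L'.φ x).support D.S := by
        rw [Finset.disjoint_left]
        intro i hi hi'
        exact (mem_support.1 hi) (AF_app hF hi')
      have h2 := Finset.card_union_of_disjoint h1
      have h3 := Finset.card_le_univ ((D.L'.φ x).support ∪ D.S)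
      rw [h2, D.card_S] at h3
      omega

/-! ### the elements `(c d)(p q)` of `B` -/

theorem comm_d1_cd {p q : α} (hp : p ∉ D.S) (hq : q ∉ D.S) (hpq : p ≠ q) :
    (swap D.c D.d * swap p q) * (swap D.a D.b * swap D.c D.d) =
      (swap D.a D.b * swap D.c D.d) * (swap D.c D.d * swap p q) := by
  obtain ⟨⟨m1, m2, m3⟩, ⟨m4, m5⟩, m6⟩ := PermTypes.of_nodup_four D.nd
  have hp' := hp
  have hq' := hq
  rw [mem_four4, not_or, not_or, not_or] at hp' hq'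
  have hnd1 : [D.c, D.d, p, q].Nodup := PermTypes.nodup_four m6 (Ne.symm hp'.2.2.1)
    (Ne.symm hq'.2.2.1) (Ne.symm hp'.2.2.2) (Ne.symm hq'.2.2.2) hpq
  have hnd2 : [p, q, D.a, D.b].Nodup := PermTypes.nodup_four hpq hp'.1 hp'.2.1 hq'.1 hq'.2.1 m1
  have c1 : Commute (swap D.c D.d) (swap p q) := PermTypes.swap_swap_comm hnd1
  have c2 : Commute (swap D.a D.b) (swap D.c D.d) := PermTypes.swap_swap_comm D.nd
  have c3 : Commute (swap p q) (swap D.a D.b) := PermTypes.swap_swap_comm hnd2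
  exact ((c2.symm.mul_right (Commute.refl _)).mul_left (c3.mul_right c1.symm)).eq

/-- the elements `(c d)(p q)` of `B`: first properties -/
theorem cdpq {y : G} (hy : y ∈ B) {p q : α} (hp : p ∉ D.S) (hq : q ∉ D.S) (hpq : p ≠ q)
    (hyφ : D.L'.φ y = swap D.c D.d * swap p q) :
    y ∈ N A ∧ D.L.φ y * D.L.φ y = 1 ∧ ∀ i ∈ D.S, D.L.φ y i = i := by
  obtain ⟨⟨m1, m2, m3⟩, ⟨m4, m5⟩, m6⟩ := PermTypes.of_nodup_four D.nd
  have hyN : y ∈ N A := D.symm.mem_NB hy (by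
    show D.L'.φ y * (swap D.a D.b * swap D.c D.d) = (swap D.a D.b * swap D.c D.d) * D.L'.φ y
    rw [hyφ]; exact D.comm_d1_cd hp hq hpq)
  have hp' := hp
  have hq' := hq
  rw [mem_four4, not_or, not_or, not_or] at hp' hq'
  have hnd1 : [D.c, D.d, p, q].Nodup := PermTypes.nodup_four m6 (Ne.symm hp'.2.2.1)
    (Ne.symm hq'.2.2.1) (Ne.symm hp'.2.2.2) (Ne.symm hq'.2.2.2) hpq
  have hyy : y * y = 1 := by
    apply D.L'.eq_one D.two.teB (mul_mem hy hy)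
    rw [D.L'.mul _ _ (le_N hy) (le_N hy), hyφ, d1_sq hnd1]
  refine ⟨hyN, by rw [← D.L.mul _ _ hyN hyN, hyy, D.L.one], ?_⟩
  -- `φ y` commutes with the action of `A ⊓ C B`
  have hcomm : ∀ {z : G}, z ∈ A → z ∈ C B → D.L.φ y * D.L.φ z = D.L.φ z * D.L.φ y :=
    fun hz hz' => D.L.comm' hyN (le_N hz) (comm_of_C hz' hy).symm
  obtain ⟨v₁, h1, h1', w1⟩ := D.ex₁
  obtain ⟨x, hx, hxφ⟩ := D.L.lift _ (PermTypes.cyc_mem_alt m4 m6 (α := α))
  have hxC := D.mem_C_of_cyc hx hxφ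
  have k1 := hcomm h1 h1'
  have k2 := hcomm hx hxC
  rw [w1] at k1
  rw [hxφ] at k2
  obtain ⟨f1, f2, f3, f4⟩ := fix_of_comm D.nd k1 k2
  intro i hi
  rcases mem_four4.1 hi with e | e | e | e
  · rw [e]; exact f1
  · rw [e]; exact f2
  · rw [e]; exact f3
  · rw [e]; exact f4

/-- the product of two such elements -/
theorem cdpq_mul {y y' : G} (hy : y ∈ B) (hy' : y' ∈ B) {p q r : α} (hp : p ∉ D.S) (hq : q ∉ D.S)
    (hr : r ∉ D.S) (hpq : p ≠ q) (hpr : p ≠ r) (hqr : q ≠ r)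
    (hyφ : D.L'.φ y = swap D.c D.d * swap p q) (hyφ' : D.L'.φ y' = swap D.c D.d * swap p r) :
    D.L'.φ (y * y') = cyc q p r ∧ (D.L.φ y * D.L.φ y').IsThreeCycle := by
  obtain ⟨⟨m1, m2, m3⟩, ⟨m4, m5⟩, m6⟩ := PermTypes.of_nodup_four D.nd
  have hp' := hp
  have hq' := hq
  rw [mem_four4, not_or, not_or, not_or] at hp' hq'
  have hnd1 : [D.c, D.d, p, q].Nodup := PermTypes.nodup_four m6 (Ne.symm hp'.2.2.1)
    (Ne.symm hq'.2.2.1) (Ne.symm hp'.2.2.2) (Ne.symm hq'.2.2.2) hpq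
  have h1 : D.L'.φ (y * y') = cyc q p r := by
    rw [D.L'.mul _ _ (le_N hy) (le_N hy'), hyφ, hyφ', PermTypes.swap_swap_comm hnd1]
    calc swap p q * swap D.c D.d * (swap D.c D.d * swap p r)
        = swap p q * (swap D.c D.d * swap D.c D.d) * swap p r := by group
      _ = swap q p * swap p r := by rw [swap_mul_self, mul_one, swap_comm p q]
  refine ⟨h1, ?_⟩
  rw [← D.L.mul _ _ (D.cdpq hy hp hq hpq hyφ).1 (D.cdpq hy' hp hr hpr hyφ').1]
  exact D.symm.isThreeCycle (mul_mem hy hy') hq hp hr (Ne.symm hpq) hpr hqr h1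

/-- **the transposition claim** -/
theorem exists_swap {y : G} (hy : y ∈ B) {p q : α} (hp : p ∉ D.S) (hq : q ∉ D.S) (hpq : p ≠ q)
    (hyφ : D.L'.φ y = swap D.c D.d * swap p q) :
    ∃ i j, i ≠ j ∧ D.L.φ y = swap i j := by
  classical
  obtain ⟨⟨m1, m2, m3⟩, ⟨m4, m5⟩, m6⟩ := PermTypes.of_nodup_four D.nd
  obtain ⟨hyN, hxx, hfix⟩ := D.cdpq hy hp hq hpq hyφ
  -- a further point
  obtain ⟨r₀, hr₀⟩ := exists_ne_list [D.a, D.b, D.c, D.d, p, q] (by simp; have := D.card; omega)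
  simp only [List.mem_cons, List.not_mem_nil, or_false, not_or] at hr₀
  have hr₀S : r₀ ∉ D.S := by
    rw [mem_four4, not_or, not_or, not_or]
    exact ⟨hr₀.1, hr₀.2.1, hr₀.2.2.1, hr₀.2.2.2.1⟩
  choose f hf hfφ using fun r : {r : α // r ∉ D.S ∧ r ≠ p ∧ r ≠ q} =>
    D.L'.lift _ (PermTypes.swap_mul_mem m6 (Ne.symm r.2.2.1))
  have h1 : ∀ r, (D.L.φ y * D.L.φ (f r)).IsThreeCycle := fun r =>
    (D.cdpq_mul hy (hf r) hp hq r.2.1 hpq (Ne.symm r.2.2.1) (Ne.symm r.2.2.2) hyφ (hfφ r)).2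
  have h1' : ∀ r, D.L'.φ (y * f r) = cyc q p r := fun r =>
    (D.cdpq_mul hy (hf r) hp hq r.2.1 hpq (Ne.symm r.2.2.1) (Ne.symm r.2.2.2) hyφ (hfφ r)).1
  have h2 : ∀ r s, r ≠ s → (D.L.φ (f r) * D.L.φ (f s)).IsThreeCycle := fun r s hrs =>
    (D.cdpq_mul (hf r) (hf s) hp r.2.1 s.2.1 (Ne.symm r.2.2.1) (Ne.symm s.2.2.1)
      (fun e => hrs (Subtype.ext e)) (hfφ r) (hfφ s)).2
  have h3 : ∀ r, D.L.φ (f r) * D.L.φ (f r) = 1 := fun r =>
    (D.cdpq (hf r) hp r.2.1 (Ne.symm r.2.2.1) (hfφ r)).2.1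
  have hfN : ∀ r, f r ∈ N A := fun r => (D.cdpq (hf r) hp r.2.1 (Ne.symm r.2.2.1) (hfφ r)).1
  have hx1 : ∃ i, D.L.φ y i ≠ i := by
    by_contra hcon
    push Not at hcon
    have h4 : D.L.φ y = 1 := Equiv.ext hcon
    have h5 := h1 ⟨r₀, hr₀S, hr₀.2.2.2.2.1, hr₀.2.2.2.2.2⟩
    rw [h4, one_mul] at h5
    have h6 := h5.orderOf
    have h7 := orderOf_dvd_of_pow_eq_one (x := D.L.φ (f ⟨r₀, hr₀S, hr₀.2.2.2.2.1, hr₀.2.2.2.2.2⟩))
      (n := 2) (by rw [sq]; exact h3 _)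
    rw [h6] at h7
    exact absurd h7 (by decide)
  obtain ⟨i, hi⟩ := hx1
  refine ⟨i, D.L.φ y i, Ne.symm hi, ?_⟩
  by_contra hcon
  have hk : ∃ k, D.L.φ y k ≠ k ∧ k ≠ i ∧ k ≠ D.L.φ y i := by
    by_contra hcon'
    push Not at hcon'
    apply hcon
    ext k
    by_cases k1 : k = i
    · rw [k1, swap_apply_left]
    by_cases k2 : k = D.L.φ y i
    · rw [k2, swap_apply_right, ← mul_apply, hxx, one_apply]
    rw [swap_apply_of_ne_of_ne k1 k2]
    by_contra k3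
    exact k2 (hcon' k k3 k1)
  obtain ⟨k, hk, hki, hkxi⟩ := hk
  obtain ⟨m, hm, hall⟩ := two_fix hxx h3 h1 h2 hi hk hki hkxi
  have hmS : m ∉ D.S := fun h => hm (hfix m h)
  -- the elements of `B` acting in `F` fix `m`
  let M : Subgroup (Perm α) :=
    { carrier := {σ | σ ∈ D.F ∧ ∀ z ∈ B, D.L'.φ z = σ → D.L.φ z m = m}
      one_mem' := ⟨one_mem _, fun z hz h => by
        rw [D.L'.eq_one D.two.teB hz h, D.L.one]; rfl⟩
      mul_mem' := by
        rintro σ τ ⟨hσ, hσ'⟩ ⟨hτ, hτ'⟩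
        refine ⟨mul_mem hσ hτ, fun z hz h => ?_⟩
        obtain ⟨w, hw, hwτ⟩ := D.L'.lift τ hτ.1
        have e1 : D.L'.φ (z * w⁻¹) = σ := by
          rw [D.L'.mul _ _ (le_N hz) (inv_mem (le_N hw)), D.L'.inv (le_N hw), h, hwτ,
            mul_inv_cancel_right]
        have e2 := hσ' _ (mul_mem hz (inv_mem hw)) e1
        have e3 := hτ' w hw hwτ
        have hwA : w ∈ A := D.symm.mem_B_of hw (by rw [show D.symm.L.φ w = τ from hwτ]; exact hτ)
        have hzwA : z * w⁻¹ ∈ A := D.symm.mem_B_of (mul_mem hz (inv_mem hw))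
          (by rw [show D.symm.L.φ (z * w⁻¹) = σ from e1]; exact hσ)
        have e4 : z = z * w⁻¹ * w := by group
        rw [e4, D.L.mul _ _ (le_N hzwA) (le_N hwA), mul_apply, e3, e2]
      inv_mem' := by
        rintro σ ⟨hσ, hσ'⟩
        refine ⟨inv_mem hσ, fun z hz h => ?_⟩
        have e1 : D.L'.φ z⁻¹ = σ := by rw [D.L'.inv (le_N hz), h, inv_inv]
        have e2 := hσ' _ (inv_mem hz) e1
        have hzA : z⁻¹ ∈ A := D.symm.mem_B_of (inv_mem hz)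
          (by rw [show D.symm.L.φ z⁻¹ = σ from e1]; exact hσ)
        rw [D.L.inv (le_N ((inv_mem_iff).1 hzA)), Perm.inv_eq_iff_eq] at e2
        exact e2.symm }
  have hgen : ∀ r, r ∉ D.S → r ≠ q → r ≠ p → cyc q p r ∈ M := by
    intro r hr hrq hrp
    refine ⟨cyc_mem_AF hq hp hr (Ne.symm hpq) (Ne.symm hrp), fun z hz h => ?_⟩
    have e1 : z = y * f ⟨r, hr, hrp, hrq⟩ := by
      apply D.L'.inj D.two.teB hz (mul_mem hy (hf _))
      rw [h, h1']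
    rw [e1, D.L.mul _ _ hyN (hfN _)]
    exact hall _
  have hM := gen3 hq hp (Ne.symm hpq) hgen
  have hFM : D.F ≤ M := AF_le hM
  -- but `A ⊓ B` moves `m`
  obtain ⟨k', l', hk', hl', hkm, hlm, hkl⟩ := exists_two_more (a := D.a) (b := D.b) (c := D.c)
    (d := D.d) (i := m) D.card
  have hσF := cyc_mem_AF hmS hk' hl' (Ne.symm hkm) hkl
  obtain ⟨z, hz, hzφ⟩ := D.L.lift _ hσF.1
  have hzB : z ∈ B := D.mem_B_of hz (by rw [hzφ]; exact hσF)
  have hzF := (D.t3 hz (by rw [hzφ]; exact hσF)).2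
  have h5 := (hFM hzF).2 z hzB rfl
  rw [hzφ, PermTypes.cyc_apply_fst (Ne.symm hlm) (Ne.symm hkm)] at h5
  exact hkm h5

/-! ### elements commuting with an involution of `C A` -/

/-- involutions of `C B` lie in `A` -/
theorem inv_mem_A {w : G} (hw : w ∈ C B) (hww : w * w = 1) :
    w ∈ A ∧ V4 D.a D.b D.c D.d (D.L.φ w) := by
  obtain ⟨x, hx, hxB, hxw, hA', hB'⟩ := D.exists_mem_A hw
  generalize hκ : w * x⁻¹ = κ at hA' hB'
  have hwκ : w = κ * x := by rw [← hκ, inv_mul_cancel_right]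
  have hc : κ * x = x * κ := comm_of_C hA' hx
  have h1 : κ * κ * (x * x) = 1 := by
    calc κ * κ * (x * x) = κ * (κ * x) * x := by group
      _ = κ * (x * κ) * x := by rw [hc]
      _ = (κ * x) * (κ * x) := by group
      _ = 1 := by rw [← hwκ, hww]
  have h2 : κ * κ = 1 := by
    apply D.two.teA.disj _ _ (mul_mem hA' hA')
    rw [eq_inv_of_mul_eq_one_left h1]
    exact inv_mem (mul_mem hx hx)
  have h3 := odd_orderOf D.two.teA D.two.cj D.two.ne hA' hB'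
  have h4 : orderOf κ ∣ 2 := orderOf_dvd_of_pow_eq_one (by rw [sq]; exact h2)
  have h5 : κ = 1 := by
    rcases (Nat.dvd_prime Nat.prime_two).1 h4 with h5 | h5
    · exact orderOf_eq_one_iff.1 h5
    · rw [h5] at h3
      exact absurd h3 (by decide)
  rw [h5, one_mul] at hwκ
  subst hwκ
  exact ⟨hx, V4_of_even D.nd (D.t6 hw) (D.even_of_C hw)
    (by rw [← D.L.mul _ _ (le_N hx) (le_N hx), hww, D.L.one])⟩

/-- the elements of `A` acting in the four-group commute with `h` -/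
def CV (h : G) : Prop := ∀ z ∈ A, V4 D.a D.b D.c D.d (D.L.φ z) → h * z = z * h

theorem mem_CB_of_V4 {z : G} (hz : z ∈ A) (hV : V4 D.a D.b D.c D.d (D.L.φ z)) : z ∈ C B := by
  obtain ⟨z', hz', hz'B, e⟩ := D.exV hV
  rw [D.L.inj D.two.teA hz hz' e.symm]
  exact hz'B

/-- an element of order three commuting with one involution of the four-group commutes with all of them -/
theorem cv_of {h v₁ : G} (h3 : h ^ 3 = 1) (hv₁ : v₁ ∈ A) (hv₁φ : D.L.φ v₁ = D.d₁)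
    (hc : h * v₁ = v₁ * h) : D.CV h := by
  obtain ⟨v₂, h2, h2', w2⟩ := D.ex₂
  have h1' : v₁ ∈ C B := D.mem_CB_of_V4 hv₁ (by rw [hv₁φ]; exact D.v4₁)
  have ne1 : v₁ ≠ 1 := by
    rintro rfl
    rw [D.L.one] at hv₁φ
    exact d1_ne D.nd hv₁φ.symm
  have ne2 : v₂ ≠ 1 := by
    rintro rfl
    rw [D.L.one] at w2
    exact d1_ne D.nd₂ w2.symm
  have ne12 : v₂ ≠ v₁ := by
    rintro rfl
    rw [hv₁φ] at w2
    exact d1_ne_d2 D.nd w2.symm
  have sq1 : v₁ * v₁ = 1 := by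
    apply D.L.eq_one D.two.teA (mul_mem hv₁ hv₁)
    rw [D.L.mul _ _ (le_N hv₁) (le_N hv₁), hv₁φ, d1_sq D.nd]
  have sq2 : v₂ * v₂ = 1 := by
    apply D.L.eq_one D.two.teA (mul_mem h2 h2)
    rw [D.L.mul _ _ (le_N h2) (le_N h2), w2, d1_sq D.nd₂]
  have hN : h ∈ N B := D.two.teB.nrm h1' ne1 sq1 hc
  have hw : h * v₂ * h⁻¹ ∈ C B := conj_mem_C hN h2'
  have hww : h * v₂ * h⁻¹ * (h * v₂ * h⁻¹) = 1 := by
    rw [show h * v₂ * h⁻¹ * (h * v₂ * h⁻¹) = h * (v₂ * v₂) * h⁻¹ by group, sq2]; group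
  obtain ⟨hwA, hwV⟩ := D.inv_mem_A hw hww
  have hhv : h * v₁ * h⁻¹ = v₁ := by rw [hc, mul_inv_cancel_right]
  have hmain : h * v₂ * h⁻¹ = v₂ := by
    rcases hwV with e | e | e | e
    · exfalso
      apply ne2
      have h4 := D.L.eq_one D.two.teA hwA e
      rw [show v₂ = h⁻¹ * (h * v₂ * h⁻¹) * h by group, h4]; group
    · exfalso
      apply ne12
      have h4 : h * v₂ * h⁻¹ = v₁ := D.L.inj D.two.teA hwA hv₁ (by rw [e, hv₁φ])
      calc v₂ = h⁻¹ * (h * v₂ * h⁻¹) * h := by group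
        _ = h⁻¹ * (v₁ * h) := by rw [h4, mul_assoc]
        _ = h⁻¹ * (h * v₁) := by rw [hc]
        _ = v₁ := by group
    · exact D.L.inj D.two.teA hwA h2 (by rw [e, w2])
    · -- `h v₂ h⁻¹ = v₁ v₂`
      have h4 : h * v₂ * h⁻¹ = v₁ * v₂ := D.L.inj D.two.teA hwA (mul_mem hv₁ h2) (by
        rw [e, D.L.mul _ _ (le_N hv₁) (le_N h2), hv₁φ, w2, d1_mul_d2 D.nd])
      have h5 : h * (h * v₂ * h⁻¹) * h⁻¹ = v₂ := by
        calc h * (h * v₂ * h⁻¹) * h⁻¹ = h * (v₁ * v₂) * h⁻¹ := by rw [h4]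
          _ = (h * v₁ * h⁻¹) * (h * v₂ * h⁻¹) := by group
          _ = v₁ * (v₁ * v₂) := by rw [hhv, h4]
          _ = v₂ := by rw [← mul_assoc, sq1, one_mul]
      have h6 : h * h = h⁻¹ := by
        apply eq_inv_of_mul_eq_one_left
        rw [← h3, pow_succ, pow_two]
      have h7 : h⁻¹ * v₂ * h = v₂ := by
        calc h⁻¹ * v₂ * h = (h * h) * v₂ * (h * h)⁻¹ := by rw [h6, inv_inv]
          _ = h * (h * v₂ * h⁻¹) * h⁻¹ := by group
          _ = v₂ := h5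
      calc h * v₂ * h⁻¹ = h * (h⁻¹ * v₂ * h) * h⁻¹ := by rw [h7]
        _ = v₂ := by group
  have hc2 : h * v₂ = v₂ * h := mul_inv_eq_iff_eq_mul.1 hmain
  intro z hz hV
  rcases hV with e | e | e | e
  · rw [D.L.eq_one D.two.teA hz e, one_mul, mul_one]
  · rw [D.L.inj D.two.teA hz hv₁ (by rw [e, hv₁φ])]; exact hc
  · rw [D.L.inj D.two.teA hz h2 (by rw [e, w2])]; exact hc2
  · rw [D.L.inj D.two.teA hz (mul_mem hv₁ h2) (by
      rw [e, D.L.mul _ _ (le_N hv₁) (le_N h2), hv₁φ, w2, d1_mul_d2 D.nd])]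
    rw [← mul_assoc, hc, mul_assoc, hc2, mul_assoc]

/-- the property `Q` of elements centralizing `C A ⊓ C B`, up to which they commute with `v` -/
def Q (v h : G) : Prop := (∀ k, k ∈ C A → k ∈ C B → h * k = k * h) ∧
  v⁻¹ * (h * v * h⁻¹) ∈ C A ∧ v⁻¹ * (h * v * h⁻¹) ∈ C B

variable {D} in
omit [Finite G] in
theorem Q.mul {v h h' : G} (hh : Q (A := A) (B := B) v h) (hh' : Q (A := A) (B := B) v h') :
    Q (A := A) (B := B) v (h * h') := by
  obtain ⟨h1, h2, h3⟩ := hh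
  obtain ⟨h1', h2', h3'⟩ := hh'
  have e : v⁻¹ * (h * h' * v * (h * h')⁻¹) = v⁻¹ * (h * v * h⁻¹) * (v⁻¹ * (h' * v * h'⁻¹)) := by
    generalize hκ : v⁻¹ * (h' * v * h'⁻¹) = κ at h2' h3'
    have e1 : h' * v * h'⁻¹ = v * κ := by rw [← hκ]; group
    have e2 : h * κ * h⁻¹ = κ := by rw [h1 κ h2' h3', mul_inv_cancel_right]
    calc v⁻¹ * (h * h' * v * (h * h')⁻¹) = v⁻¹ * (h * (h' * v * h'⁻¹) * h⁻¹) := by group
      _ = v⁻¹ * (h * (v * κ) * h⁻¹) := by rw [e1]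
      _ = v⁻¹ * (h * v * h⁻¹) * (h * κ * h⁻¹) := by group
      _ = v⁻¹ * (h * v * h⁻¹) * κ := by rw [e2]
  refine ⟨fun k hk hk' => ?_, ?_, ?_⟩
  · rw [mul_assoc, h1' k hk hk', ← mul_assoc, h1 k hk hk', mul_assoc]
  · rw [e]; exact mul_mem h2 h2'
  · rw [e]; exact mul_mem h3 h3'

include D in
theorem Q.comm {v t : G} (h : Q (A := A) (B := B) v t) (htt : t * t = 1) : t * v = v * t := by
  obtain ⟨h1, h2, h3⟩ := h
  generalize hκ : v⁻¹ * (t * v * t⁻¹) = κ at h2 h3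
  have e1 : t * v * t⁻¹ = v * κ := by rw [← hκ]; group
  have e2 : t * κ * t⁻¹ = κ := by rw [h1 κ h2 h3, mul_inv_cancel_right]
  have e3 : v = v * (κ * κ) := by
    calc v = (t * t) * v * (t * t)⁻¹ := by rw [htt]; group
      _ = t * (t * v * t⁻¹) * t⁻¹ := by group
      _ = t * (v * κ) * t⁻¹ := by rw [e1]
      _ = (t * v * t⁻¹) * (t * κ * t⁻¹) := by group
      _ = v * (κ * κ) := by rw [e1, e2, mul_assoc]
  have e4 : κ * κ = 1 := mul_eq_left.1 e3.symm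
  have h4 := odd_orderOf D.two.teA D.two.cj D.two.ne h2 h3
  have h5 : orderOf κ ∣ 2 := orderOf_dvd_of_pow_eq_one (by rw [sq]; exact e4)
  have h6 : κ = 1 := by
    rcases (Nat.dvd_prime Nat.prime_two).1 h5 with h6 | h6
    · exact orderOf_eq_one_iff.1 h6
    · rw [h6] at h4
      exact absurd h4 (by decide)
  rw [h6, mul_one] at e1
  exact mul_inv_eq_iff_eq_mul.1 e1

/-- elements of order three commuting with an involution of the four-group have the property `Q` -/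
theorem Q_of {h v v₁ : G} (h3 : h ^ 3 = 1) (hv₁ : v₁ ∈ A) (hv₁φ : D.L.φ v₁ = D.d₁)
    (hc : h * v₁ = v₁ * h) (hD : ∀ k, k ∈ C A → k ∈ C B → h * k = k * h) (hv : v ∈ A)
    (hvB : v ∈ C B) : Q (A := A) (B := B) v h := by
  have hCV := D.cv_of h3 hv₁ hv₁φ hc
  have h1' : v₁ ∈ C B := D.mem_CB_of_V4 hv₁ (by rw [hv₁φ]; exact D.v4₁)
  have ne1 : v₁ ≠ 1 := by
    rintro rfl
    rw [D.L.one] at hv₁φ
    exact d1_ne D.nd hv₁φ.symm
  have sq1 : v₁ * v₁ = 1 := by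
    apply D.L.eq_one D.two.teA (mul_mem hv₁ hv₁)
    rw [D.L.mul _ _ (le_N hv₁) (le_N hv₁), hv₁φ, d1_sq D.nd]
  have hN : h ∈ N B := D.two.teB.nrm h1' ne1 sq1 hc
  have hu : v⁻¹ * (h * v * h⁻¹) ∈ C B := mul_mem (inv_mem hvB) (conj_mem_C hN hvB)
  generalize hueq : v⁻¹ * (h * v * h⁻¹) = u at hu
  have e1 : h * v * h⁻¹ = v * u := by rw [← hueq]; group
  -- `u` commutes with the four-group
  have huV : ∀ z ∈ A, V4 D.a D.b D.c D.d (D.L.φ z) → u * z = z * u := by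
    intro z hz hV
    have hz' : v * z * v⁻¹ ∈ A := mul_mem (mul_mem hv hz) (inv_mem hv)
    have hV' : V4 D.a D.b D.c D.d (D.L.φ (v * z * v⁻¹)) := by
      rw [D.L.conj (le_N hv) (le_N hz)]
      exact V4.conj D.nd (D.t6 hvB) hV
    have k1 : h * z = z * h := hCV z hz hV
    have k2 : h * (v * z * v⁻¹) = (v * z * v⁻¹) * h := hCV _ hz' hV'
    have k1' : h⁻¹ * z = z * h⁻¹ := by
      rw [inv_mul_eq_iff_eq_mul, ← mul_assoc, k1, mul_inv_cancel_right]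
    have k3 : h * (v * z * v⁻¹) * h⁻¹ = v * z * v⁻¹ := by rw [k2, mul_inv_cancel_right]
    rw [← hueq]
    calc v⁻¹ * (h * v * h⁻¹) * z = v⁻¹ * (h * v * (h⁻¹ * z)) := by group
      _ = v⁻¹ * (h * v * (z * h⁻¹)) := by rw [k1']
      _ = v⁻¹ * (h * (v * z * v⁻¹) * h⁻¹) * (h * v * h⁻¹) := by group
      _ = v⁻¹ * (v * z * v⁻¹) * (h * v * h⁻¹) := by rw [k3]
      _ = z * (v⁻¹ * (h * v * h⁻¹)) := by group
  obtain ⟨w₁, y1, y1', z1⟩ := D.ex₁
  obtain ⟨w₂, y2, y2', z2⟩ := D.ex₂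
  have huN := D.two.leA hu
  have c1 : D.L.φ u * (swap D.a D.b * swap D.c D.d) = (swap D.a D.b * swap D.c D.d) * D.L.φ u := by
    rw [← z1]
    exact D.L.comm' huN (le_N y1) (huV w₁ y1 (by rw [z1]; exact D.v4₁))
  have c2 : D.L.φ u * (swap D.a D.c * swap D.b D.d) = (swap D.a D.c * swap D.b D.d) * D.L.φ u := by
    rw [← z2]
    exact D.L.comm' huN (le_N y2) (huV w₂ y2 (by rw [z2]; exact D.v4₂))
  have huV4 : V4 D.a D.b D.c D.d (D.L.φ u) := V4_of_comm D.nd (D.t6 hu) c1 c2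
  obtain ⟨z, hz, hzB, hzφ⟩ := D.exV huV4
  have hkA : u * z⁻¹ ∈ C A := D.L.mul_inv_mem_C huN (le_N hz) hzφ.symm
  have hkB : u * z⁻¹ ∈ C B := mul_mem hu (inv_mem hzB)
  generalize hκ : u * z⁻¹ = κ at hkA hkB
  have huκ : u = κ * z := by rw [← hκ]; group
  have hκz : κ * z = z * κ := comm_of_C hkA hz
  have hhz : h * z * h⁻¹ = z := by
    rw [hCV z hz (by rw [hzφ]; exact huV4), mul_inv_cancel_right]
  have hhκ : h * κ * h⁻¹ = κ := by rw [hD κ hkA hkB, mul_inv_cancel_right]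
  have hhu : h * u * h⁻¹ = u := by
    rw [huκ]
    calc h * (κ * z) * h⁻¹ = (h * κ * h⁻¹) * (h * z * h⁻¹) := by group
      _ = κ * z := by rw [hhκ, hhz]
  have hu3 : u * u * u = 1 := by
    have e2 : h * h * h = 1 := by rw [← h3, pow_succ, pow_two]
    have e3 : v = v * (u * u * u) := by
      calc v = (h * h * h) * v * (h * h * h)⁻¹ := by rw [e2]; group
        _ = h * (h * (h * v * h⁻¹) * h⁻¹) * h⁻¹ := by group
        _ = h * (h * (v * u) * h⁻¹) * h⁻¹ := by rw [e1]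
        _ = h * ((h * v * h⁻¹) * (h * u * h⁻¹)) * h⁻¹ := by group
        _ = h * (v * u * u) * h⁻¹ := by rw [e1, hhu]
        _ = (h * v * h⁻¹) * (h * u * h⁻¹) * (h * u * h⁻¹) := by group
        _ = v * (u * u * u) := by rw [e1, hhu]; group
    exact mul_eq_left.1 e3.symm
  have hzz : z * z = 1 := by
    apply D.L.eq_one D.two.teA (mul_mem hz hz)
    rw [D.L.mul _ _ (le_N hz) (le_N hz), hzφ]
    exact huV4.sq D.nd
  have hz1 : z = 1 := by
    apply D.two.teA.disj z hz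
    have e2 : z = (κ * κ * κ)⁻¹ := by
      apply eq_inv_of_mul_eq_one_right
      calc κ * κ * κ * z = κ * κ * κ * z * (z * z) := by rw [hzz, mul_one]
        _ = κ * κ * (κ * z) * z * z := by group
        _ = κ * κ * (z * κ) * z * z := by rw [hκz]
        _ = κ * (κ * z) * (κ * z) * z := by group
        _ = κ * (z * κ) * (z * κ) * z := by rw [hκz]
        _ = (κ * z) * (κ * z) * (κ * z) := by group
        _ = 1 := by rw [← huκ, hu3]
    rw [e2]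
    exact inv_mem (mul_mem (mul_mem hkA hkA) hkA)
  rw [hz1, mul_one] at huκ
  rw [← hueq] at huκ
  exact ⟨hD, by rw [huκ]; exact hkA, by rw [huκ]; exact hkB⟩

/-! ### the root -/

/-- the labels of the elements of `A` commuting with `v` -/
def commH (v : G) : Subgroup (Perm α) where
  carrier := {σ | σ ∈ alternatingGroup α ∧ ∀ x ∈ A, D.L.φ x = σ → x * v = v * x}
  one_mem' := ⟨one_mem _, fun x hx h => by
    rw [D.L.eq_one D.two.teA hx h, one_mul, mul_one]⟩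
  mul_mem' := by
    rintro σ τ ⟨hσ, hσ'⟩ ⟨hτ, hτ'⟩
    refine ⟨mul_mem hσ hτ, fun x hx h => ?_⟩
    obtain ⟨y, hy, hyτ⟩ := D.L.lift τ hτ
    have h1 : D.L.φ (x * y⁻¹) = σ := by
      rw [D.L.mul _ _ (le_N hx) (inv_mem (le_N hy)), D.L.inv (le_N hy), h, hyτ,
        mul_inv_cancel_right]
    have h2 := hσ' _ (mul_mem hx (inv_mem hy)) h1
    have h3 := hτ' y hy hyτ
    calc x * v = (x * y⁻¹) * (y * v) := by group
      _ = (x * y⁻¹) * (v * y) := by rw [h3]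
      _ = ((x * y⁻¹) * v) * y := by group
      _ = (v * (x * y⁻¹)) * y := by rw [h2]
      _ = v * x := by group
  inv_mem' := by
    rintro σ ⟨hσ, hσ'⟩
    refine ⟨inv_mem hσ, fun x hx h => ?_⟩
    have h1 : D.L.φ x⁻¹ = σ := by rw [D.L.inv (le_N hx), h, inv_inv]
    have h2 := hσ' _ (inv_mem hx) h1
    calc x * v = x * (v * x⁻¹) * x := by group
      _ = x * (x⁻¹ * v) * x := by rw [h2]
      _ = v * x := by group

theorem pq_comm {y v : G} (hy : y ∈ B) {p q : α} (hp : p ∉ D.S) (hq : q ∉ D.S) (hpq : p ≠ q)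
    (hyφ : D.L'.φ y = swap D.c D.d * swap p q) (hv : v ∈ B) (hvφ : D.L'.φ v = cyc p D.c D.d)
    {i j : α} (hyL : D.L.φ y = swap i j) {l m n : α} (hl : l ≠ i) (hm : m ≠ i) (hn : n ≠ i)
    (hlj : l ≠ j) (hmj : m ≠ j) (hnj : n ≠ j) (hlm : l ≠ m) (hmn : m ≠ n) (hln : l ≠ n) :
    cyc l m n ∈ D.commH v := by
  obtain ⟨⟨m1, m2, m3⟩, ⟨m4, m5⟩, m6⟩ := PermTypes.of_nodup_four D.nd
  obtain ⟨hyN, hyy, hyS⟩ := D.cdpq hy hp hq hpq hyφ
  have hp' := hp
  have hq' := hq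
  rw [mem_four4, not_or, not_or, not_or] at hp' hq'
  have hnd1 : [D.a, p, D.b, q].Nodup := PermTypes.nodup_four (Ne.symm hp'.1) m1 (Ne.symm hq'.1)
    hp'.2.1 hpq (Ne.symm hq'.2.1)
  obtain ⟨g, hg, hgφ⟩ := D.L'.lift _ (PermTypes.swap_mul_mem (a := D.a) (b := p) (c := D.b) (d := q)
    (Ne.symm hp'.1) (Ne.symm hq'.2.1))
  have ga : D.L'.φ g D.a = p := by rw [hgφ, (d1_apply hnd1).1]
  have gb : D.L'.φ g D.b = q := by rw [hgφ, (d1_apply hnd1).2.2.1]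
  have gc : D.L'.φ g D.c = D.c := by
    rw [hgφ, d1_fix (Ne.symm m2) (Ne.symm hp'.2.2.1) (Ne.symm m4) (Ne.symm hq'.2.2.1)]
  have gd : D.L'.φ g D.d = D.d := by
    rw [hgφ, d1_fix (Ne.symm m3) (Ne.symm hp'.2.2.2) (Ne.symm m5) (Ne.symm hq'.2.2.2)]
  have hgN : g ∈ N B := le_N hg
  have ha4 : D.a ∈ D.S := mem_four4.2 (Or.inl rfl)
  have hc4 : D.c ∈ D.S := mem_four4.2 (Or.inr (Or.inr (Or.inl rfl)))
  have hd4 : D.d ∈ D.S := mem_four4.2 (Or.inr (Or.inr (Or.inr rfl)))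
  -- the conjugate of `v`
  have hv' : g⁻¹ * v * g ∈ B := mul_mem (mul_mem (inv_mem hg) hv) hg
  have hv'φ : D.L'.φ (g⁻¹ * v * g) = cyc D.a D.c D.d := by
    have e : cyc p D.c D.d = D.L'.φ g * cyc D.a D.c D.d * (D.L'.φ g)⁻¹ := by
      rw [PermTypes.cyc_conj, ga, gc, gd]
    rw [D.L'.mul _ _ (mul_mem (inv_mem hgN) (le_N hv)) hgN,
      D.L'.mul _ _ (inv_mem hgN) (le_N hv), D.L'.inv hgN, hvφ, e]
    group
  have hv'C : g⁻¹ * v * g ∈ C A := by
    refine D.symm.mem_C_of hv' ?_ ?_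
    · show D.L'.φ (g⁻¹ * v * g) ∈ _
      rw [hv'φ]; exact PermTypes.cyc_mem_alt m2 m6
    · show Mv D.a D.b D.c D.d (D.L'.φ (g⁻¹ * v * g))
      rw [hv'φ]
      intro o ho
      exact PermTypes.cyc_apply_of_ne (fun e => ho (by rw [e]; exact ha4))
        (fun e => ho (by rw [e]; exact hc4)) (fun e => ho (by rw [e]; exact hd4))
  -- the conjugate of `y`
  have hy' : g⁻¹ * y * g ∈ B := mul_mem (mul_mem (inv_mem hg) hy) hg
  have hy'φ : D.L'.φ (g⁻¹ * y * g) = swap D.a D.b * swap D.c D.d := by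
    have e : swap D.c D.d * swap p q = D.L'.φ g * (swap D.a D.b * swap D.c D.d) * (D.L'.φ g)⁻¹ := by
      rw [show D.L'.φ g * (swap D.a D.b * swap D.c D.d) * (D.L'.φ g)⁻¹ =
        (D.L'.φ g * swap D.a D.b * (D.L'.φ g)⁻¹) * (D.L'.φ g * swap D.c D.d * (D.L'.φ g)⁻¹) by group,
        PermTypes.swap_conj, PermTypes.swap_conj, ga, gb, gc, gd]
      exact PermTypes.swap_swap_comm (PermTypes.nodup_four m6 (Ne.symm hp'.2.2.1)
        (Ne.symm hq'.2.2.1) (Ne.symm hp'.2.2.2) (Ne.symm hq'.2.2.2) hpq)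
    rw [D.L'.mul _ _ (mul_mem (inv_mem hgN) (le_N hy)) hgN,
      D.L'.mul _ _ (inv_mem hgN) (le_N hy), D.L'.inv hgN, hyφ, e]
    group
  -- 3-cycles have the property `Q`
  have hQ : ∀ {x : G}, x ∈ A → ∀ {l m n : α}, l ≠ i → m ≠ i → n ≠ i → l ≠ j → m ≠ j → n ≠ j →
      l ≠ m → m ≠ n → l ≠ n → D.L.φ x = cyc l m n → Q (A := B) (B := A) (g⁻¹ * v * g) (g⁻¹ * x * g) := by
    intro x hx l m n hl hm hn hlj hmj hnj hlm hmn hln hxφ
    have hx3 : x ^ 3 = 1 := by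
      apply D.L.eq_one D.two.teA (pow_mem hx 3)
      rw [D.L.pow (le_N hx), hxφ, PermTypes.cyc_pow_three hlm hmn hln]
    have hxy : x * y = y * x := by
      apply D.L.comm_of D.two.teA hx hyN
      rw [hxφ, hyL]
      have h1 := PermTypes.swap_conj (cyc l m n) i j
      rw [PermTypes.cyc_apply_of_ne (Ne.symm hl) (Ne.symm hm) (Ne.symm hn),
        PermTypes.cyc_apply_of_ne (Ne.symm hlj) (Ne.symm hmj) (Ne.symm hnj)] at h1
      exact mul_inv_eq_iff_eq_mul.1 h1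
    refine D.symm.Q_of (v₁ := g⁻¹ * y * g) ?_ hy' hy'φ ?_ ?_ hv' hv'C
    · rw [show (g⁻¹ * x * g) ^ 3 = g⁻¹ * x ^ 3 * g by simp only [pow_succ, pow_zero, one_mul]; group,
        hx3]
      group
    · calc g⁻¹ * x * g * (g⁻¹ * y * g) = g⁻¹ * (x * y) * g := by group
        _ = g⁻¹ * (y * x) * g := by rw [hxy]
        _ = g⁻¹ * y * g * (g⁻¹ * x * g) := by group
    · intro k hkB hkA
      have k1 : k * g = g * k := comm_of_C hkB hg
      have k2 : k * x = x * k := comm_of_C hkA hx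
      have k3 : k * g⁻¹ = g⁻¹ * k := comm_of_C hkB (inv_mem hg)
      calc g⁻¹ * x * g * k = g⁻¹ * x * (g * k) := by group
        _ = g⁻¹ * x * (k * g) := by rw [k1]
        _ = g⁻¹ * (x * k) * g := by group
        _ = g⁻¹ * (k * x) * g := by rw [k2]
        _ = (g⁻¹ * k) * x * g := by group
        _ = (k * g⁻¹) * x * g := by rw [k3]
        _ = k * (g⁻¹ * x * g) := by group
  refine double_le D.card (H := D.commH v) (i := i) (j := j) ?_ hl hm hn hlj hmj hnj hlm hmn hln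
  intro l m n o hnd l1 m1' n1 o1 l2 m2' n2 o2
  obtain ⟨⟨k1, k2, k3⟩, ⟨k4, k5⟩, k6⟩ := PermTypes.of_nodup_four hnd
  refine ⟨PermTypes.swap_mul_mem k1 k6, fun t ht htφ => ?_⟩
  obtain ⟨x₁, hx₁, hx₁φ⟩ := D.L.lift _ (PermTypes.cyc_mem_alt k1 k4 (α := α))
  obtain ⟨x₂, hx₂, hx₂φ⟩ := D.L.lift _ (PermTypes.cyc_mem_alt k4 k6 (α := α))
  have ht12 : t = x₁ * x₂ := by
    apply D.L.inj D.two.teA ht (mul_mem hx₁ hx₂)
    rw [D.L.mul _ _ (le_N hx₁) (le_N hx₂), htφ, hx₁φ, hx₂φ]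
    show swap l m * swap n o = swap l m * swap m n * (swap m n * swap n o)
    rw [← mul_assoc, mul_assoc (swap l m), swap_mul_self, mul_one]
  have htt : t * t = 1 := by
    apply D.L.eq_one D.two.teA (mul_mem ht ht)
    rw [D.L.mul _ _ (le_N ht) (le_N ht), htφ, d1_sq hnd]
  have hQt : Q (A := B) (B := A) (g⁻¹ * v * g) (g⁻¹ * t * g) := by
    have h1 := hQ hx₁ l1 m1' n1 l2 m2' n2 k1 k4 k2 hx₁φ
    have h2 := hQ hx₂ m1' n1 o1 m2' n2 o2 k4 k6 k5 hx₂φ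
    have h3 := Q.mul h1 h2
    rwa [show g⁻¹ * x₁ * g * (g⁻¹ * x₂ * g) = g⁻¹ * (x₁ * x₂) * g by group, ← ht12] at h3
  have h4 := Q.comm D.symm hQt (by
    rw [show g⁻¹ * t * g * (g⁻¹ * t * g) = g⁻¹ * (t * t) * g by group, htt]; group)
  calc t * v = g * (g⁻¹ * t * g * (g⁻¹ * v * g)) * g⁻¹ := by group
    _ = g * (g⁻¹ * v * g * (g⁻¹ * t * g)) * g⁻¹ := by rw [h4]
    _ = v * t := by group

/-- **the root property** -/
theorem exists_root : ∃ i₀ p₀, i₀ ∉ D.S ∧ p₀ ∉ D.S ∧ ∃ v ∈ B, D.L'.φ v = cyc p₀ D.c D.d ∧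
    ∀ x ∈ A, D.L.φ x i₀ = i₀ → x * v = v * x := by
  obtain ⟨⟨m1, m2, m3⟩, ⟨m4, m5⟩, m6⟩ := PermTypes.of_nodup_four D.nd
  have hcard := D.card
  obtain ⟨p, hp⟩ := exists_ne_list [D.a, D.b, D.c, D.d] (by simp; omega)
  obtain ⟨q, hq⟩ := exists_ne_list [D.a, D.b, D.c, D.d, p] (by simp; omega)
  obtain ⟨r, hr⟩ := exists_ne_list [D.a, D.b, D.c, D.d, p, q] (by simp; omega)
  simp only [List.mem_cons, List.not_mem_nil, or_false, not_or] at hp hq hr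
  have hpS : p ∉ D.S := by rw [mem_four4, not_or, not_or, not_or]; exact hp
  have hqS : q ∉ D.S := by
    rw [mem_four4, not_or, not_or, not_or]; exact ⟨hq.1, hq.2.1, hq.2.2.1, hq.2.2.2.1⟩
  have hrS : r ∉ D.S := by
    rw [mem_four4, not_or, not_or, not_or]; exact ⟨hr.1, hr.2.1, hr.2.2.1, hr.2.2.2.1⟩
  have hpq : p ≠ q := Ne.symm hq.2.2.2.2
  have hpr : p ≠ r := Ne.symm hr.2.2.2.2.1
  have hqr : q ≠ r := Ne.symm hr.2.2.2.2.2
  obtain ⟨y, hy, hyφ⟩ := D.L'.lift _ (PermTypes.swap_mul_mem m6 hpq)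
  obtain ⟨y', hy', hyφ'⟩ := D.L'.lift _ (PermTypes.swap_mul_mem m6 hpr)
  obtain ⟨i, j, hij, hyL⟩ := D.exists_swap hy hpS hqS hpq hyφ
  obtain ⟨i', j', hij', hyL'⟩ := D.exists_swap hy' hpS hrS hpr hyφ'
  obtain ⟨-, h3⟩ := D.cdpq_mul hy hy' hpS hqS hrS hpq hpr hqr hyφ hyφ'
  rw [hyL, hyL'] at h3
  obtain ⟨u, s, w, hus, huw, hsw, e1, e2⟩ := share hij hij' h3
  rw [e1] at hyL
  rw [e2] at hyL'
  obtain ⟨v, hv, hvφ⟩ := D.L'.lift _ (PermTypes.cyc_mem_alt (i := p) (Ne.symm (Ne.symm hp.2.2.1)) m6)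
  refine ⟨u, p, ?_, hpS, v, hv, hvφ, ?_⟩
  · intro hu
    have h4 := (D.cdpq hy hpS hqS hpq hyφ).2.2 u hu
    rw [hyL, swap_apply_left] at h4
    exact hus h4.symm
  · intro x hx hxu
    have h4 : D.L.φ x ∈ D.commH v := by
      refine fix_le (T := {u}) ?_ (D.L.even x hx) (fun i hi => ?_)
      · intro l m n hl hm hn hlm hmn hln
        rw [Finset.mem_singleton] at hl hm hn
        refine stab_le (by omega) hus huw hsw ?_ ?_ hl hm hn hlm hmn hln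
        · intro l m n l1 m1 n1 l2 m2 n2 k1 k2 k3
          exact D.pq_comm hy hpS hqS hpq hyφ hv hvφ hyL l1 m1 n1 l2 m2 n2 k1 k2 k3
        · intro l m n l1 m1 n1 l2 m2 n2 k1 k2 k3
          exact D.pq_comm hy' hpS hrS hpr hyφ' hv hvφ hyL' l1 m1 n1 l2 m2 n2 k1 k2 k3
      · rw [Finset.mem_singleton] at hi
        rw [hi]; exact hxu
    exact h4.2 x hx rfl

end PD

end Cfsg.Agent.StdAlt
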