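import Cfsg.Agent.StdAlt.PermFour

/-!
# Structure of a pair of type two

For the data `D : PD A B α` of a pair of type two:

* `mem_AS`: elements of `C B` act on `A` as even permutations of the four points;
* `mem_C_of_AS`: the elements of `A` acting as even permutations of the four points lie in `C B`;
* `mem_B_of_AF`: the elements of `A` acting as even permutations fixing the four points lie in `B`, and act in the
  same way on `B`;
* `isThreeCycle`: 3-cycles of this kind act as 3-cycles on `B`.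
-/

set_option autoImplicit false
set_option linter.unusedSectionVars false

namespace Cfsg.Agent.StdAlt

open Subgroup Equiv Equiv.Perm Cfsg.Agent.StdAlt.Conj Cfsg.Agent.StdAlt.Pairs
open Cfsg.Agent.StdAlt.PermTypes (cyc fx R)

variable {G : Type*} [Group G] [Finite G] {A B : Subgroup G}
variable {α : Type*} [Fintype α] [DecidableEq α]

namespace PD

variable (D : PD A B α)

/-- `d₁` -/
abbrev d₁ : Perm α := swap D.a D.b * swap D.c D.d
/-- `d₂` -/
abbrev d₂ : Perm α := swap D.a D.c * swap D.b D.d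
/-- `d₃` -/
abbrev d₃ : Perm α := swap D.a D.d * swap D.b D.c
/-- even permutations fixing the four points -/
abbrev F : Subgroup (Perm α) := AF D.a D.b D.c D.d
/-- the four points -/
abbrev S : Finset α := four4 D.a D.b D.c D.d

theorem nd₂ : [D.a, D.c, D.b, D.d].Nodup := by
  obtain ⟨⟨m1, m2, m3⟩, ⟨m4, m5⟩, m6⟩ := PermTypes.of_nodup_four D.nd
  exact PermTypes.nodup_four m2 m1 m3 (Ne.symm m4) m6 m5

theorem nd₃ : [D.a, D.d, D.b, D.c].Nodup := by
  obtain ⟨⟨m1, m2, m3⟩, ⟨m4, m5⟩, m6⟩ := PermTypes.of_nodup_four D.nd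
  exact PermTypes.nodup_four m3 m1 m2 (Ne.symm m5) (Ne.symm m6) m4

omit [Finite G] in
/-- involutions of `C B` from `A` -/
theorem exV {v : Perm α} (hv : V4 D.a D.b D.c D.d v) : ∃ z ∈ A, z ∈ C B ∧ D.L.φ z = v := by
  obtain ⟨v₁, h1, h1', e1⟩ := D.ex₁
  obtain ⟨v₂, h2, h2', e2⟩ := D.ex₂
  rcases hv with rfl | rfl | rfl | rfl
  · exact ⟨1, one_mem _, one_mem _, D.L.one⟩
  · exact ⟨v₁, h1, h1', e1⟩
  · exact ⟨v₂, h2, h2', e2⟩
  · refine ⟨v₁ * v₂, mul_mem h1 h2, mul_mem h1' h2', ?_⟩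
    rw [D.L.mul _ _ (le_N h1) (le_N h2), e1, e2, d1_mul_d2 D.nd]

omit [Finite G] in
theorem V_mem_img {v : Perm α} (hv : V4 D.a D.b D.c D.d v) : v ∈ D.L.img (C B) := by
  obtain ⟨z, hz, hz', rfl⟩ := D.exV hv
  exact D.L.φ_mem_img hz' (le_N hz)

omit [Finite G] in
/-- elements of `N A` commuting modulo `φ` with `d₁`, lying in `A`, normalize `B` -/
theorem mem_NB {x : G} (hx : x ∈ A) (h : D.L.φ x * D.d₁ = D.d₁ * D.L.φ x) : x ∈ N B := by
  obtain ⟨v₁, h1, h1', e1⟩ := D.ex₁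
  have hv1 : v₁ ≠ 1 := by
    rintro rfl
    rw [D.L.one] at e1
    exact d1_ne D.nd e1.symm
  have hvv : v₁ * v₁ = 1 := by
    apply D.L.eq_one D.two.teA (mul_mem h1 h1)
    rw [D.L.mul _ _ (le_N h1) (le_N h1), e1, d1_sq D.nd]
  exact D.two.teB.nrm h1' hv1 hvv (D.L.comm_of D.two.teA hx (le_N h1) (by rw [e1]; exact h))

omit [Finite G] in
/-- elements of `A ⊓ N B` commute with `d₁`, `d₂` in their action on `B` -/
theorem comm' {x : G} (hx : x ∈ A) (hxB : x ∈ N B) {v : Perm α} (hv : V4 D.a D.b D.c D.d v) :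
    D.L'.φ x * v = v * D.L'.φ x := by
  obtain ⟨z, hz, hz', rfl⟩ := D.symm.exV hv
  exact D.L'.comm' hxB (le_N hz) (comm_of_C hz' hx).symm

theorem v4₁ : V4 D.a D.b D.c D.d D.d₁ := Or.inr (Or.inl rfl)
theorem v4₂ : V4 D.a D.b D.c D.d D.d₂ := Or.inr (Or.inr (Or.inl rfl))
theorem v4₃ : V4 D.a D.b D.c D.d D.d₃ := Or.inr (Or.inr (Or.inr rfl))

/-- **T3** -/
theorem t3 {x : G} (hx : x ∈ A) (h : D.L.φ x ∈ D.F) : x ∈ N B ∧ D.L'.φ x ∈ D.F := by
  have hNB : ∀ {x : G}, x ∈ A → D.L.φ x ∈ D.F → x ∈ N B := fun hx h =>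
    D.mem_NB hx (AF_comm_d1 h)
  refine ⟨hNB hx h, ?_⟩
  let H : Subgroup (Perm α) :=
    { carrier := {σ | σ ∈ D.F ∧ ∀ x ∈ A, D.L.φ x = σ → D.L'.φ x ∈ D.F}
      one_mem' := ⟨one_mem _, fun x hx h => by
        rw [D.L.eq_one D.two.teA hx h, D.L'.one]; exact one_mem _⟩
      mul_mem' := by
        rintro σ τ ⟨hσ, hσ'⟩ ⟨hτ, hτ'⟩
        refine ⟨mul_mem hσ hτ, fun x hx h => ?_⟩
        obtain ⟨y, hy, hyτ⟩ := D.L.lift τ hτ.1
        have h1 : D.L.φ (x * y⁻¹) = σ := by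
          rw [D.L.mul _ _ (le_N hx) (inv_mem (le_N hy)), D.L.inv (le_N hy), h, hyτ,
            mul_inv_cancel_right]
        have h2 := hσ' _ (mul_mem hx (inv_mem hy)) h1
        have h3 := hτ' y hy hyτ
        have h4 : x = x * y⁻¹ * y := by group
        rw [h4, D.L'.mul _ _ (hNB (mul_mem hx (inv_mem hy)) (by rw [h1]; exact hσ))
          (hNB hy (by rw [hyτ]; exact hτ))]
        exact mul_mem h2 h3
      inv_mem' := by
        rintro σ ⟨hσ, hσ'⟩
        refine ⟨inv_mem hσ, fun x hx h => ?_⟩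
        have h1 : D.L.φ x⁻¹ = σ := by rw [D.L.inv (le_N hx), h, inv_inv]
        have h2 := hσ' _ (inv_mem hx) h1
        have h3 : x ∈ N B := hNB hx (by rw [h]; exact inv_mem hσ)
        rw [D.L'.inv h3] at h2
        exact (inv_mem_iff).1 h2 }
  have hle : D.F ≤ H := by
    apply AF_le
    intro i j k hi hj hk hij hjk hik
    refine ⟨cyc_mem_AF hi hj hk hij hjk, fun x hx h => ?_⟩
    have hxB : x ∈ N B := hNB hx (by rw [h]; exact cyc_mem_AF hi hj hk hij hjk)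
    have hx3 : x ^ 3 = 1 := by
      apply D.L.eq_one D.two.teA (pow_mem hx 3)
      rw [D.L.pow (le_N hx), h, PermTypes.cyc_pow_three hij hjk hik]
    have h3 : D.L'.φ x ^ 3 = 1 := by rw [← D.L'.pow hxB, hx3, D.L'.one]
    obtain ⟨f1, f2, f3, f4⟩ := fix_of_cube D.nd (D.comm' hx hxB D.v4₁) (D.comm' hx hxB D.v4₂) h3
    exact ⟨even_of_cube h3, f1, f2, f3, f4⟩
  exact (hle h).2 x hx rfl

/-- commuting involutions of the image of `C B` have the same fixed points -/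
theorem same_fix {x y : Perm α} (hx : x ∈ D.L.img (C B)) (hy : y ∈ D.L.img (C B)) (hx1 : x ≠ 1)
    (hy1 : y ≠ 1) (hxx : x * x = 1) (hyy : y * y = 1) (hc : y * x = x * y) (hne : y ≠ x) (i : α) :
    x i = i ↔ y i = i := by
  have hA := D.two.caseA D.L D.L' D.card D.four
  have hgood := D.L.img_good D.two.teA D.two.cj D.two.ne D.card hx hx1 hxx
  obtain ⟨s, hs, hs'⟩ := hgood.caseA hA hx hy hx1 hy1 hxx hyy hc hne
  obtain ⟨⟨m1, m2, m3⟩, ⟨m4, m5⟩, m6⟩ := PermTypes.of_nodup_four hs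
  have hx2 : ∀ k, x (x k) = k := PermTypes.app_app hxx
  have hy2 : ∀ k, y (y k) = k := PermTypes.app_app hyy
  have hcom : ∀ k, y (x k) = x (y k) := fun k => by rw [← mul_apply, hc, mul_apply]
  by_cases h1 : i = s
  · subst h1
    exact ⟨fun e => absurd e.symm m1, fun e => absurd e.symm m2⟩
  by_cases h2 : i = x s
  · subst h2
    exact ⟨fun e => absurd ((hx2 s).symm.trans e) m1, fun e => absurd ((hcom s).symm.trans e).symm m5⟩
  by_cases h3 : i = y s
  · subst h3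
    exact ⟨fun e => absurd e.symm m6, fun e => absurd ((hy2 s).symm.trans e) m2⟩
  by_cases h4 : i = x (y s)
  · subst h4
    refine ⟨fun e => absurd ((hx2 _).symm.trans e) m6, fun e => ?_⟩
    rw [hcom, hy2] at e
    exact absurd e m5
  exact ⟨fun _ => (hs' i h1 h2 h3 h4).2, fun _ => (hs' i h1 h2 h3 h4).1⟩

/-- an involution of the image of `C B` commuting with an element of the four-group moves only the four points -/
theorem mv_of_comm {x v : Perm α} (hx : x ∈ D.L.img (C B)) (hx1 : x ≠ 1) (hxx : x * x = 1)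
    (hv : V4 D.a D.b D.c D.d v) (hv1 : v ≠ 1) (hc : v * x = x * v) : Mv D.a D.b D.c D.d x := by
  intro i hi
  by_cases hne : v = x
  · rw [← hne]; exact hv.fix hi
  · exact (D.same_fix hx (D.V_mem_img hv) hx1 hv1 hxx (hv.sq D.nd) hc hne i).2 (hv.fix hi)

/-- an involution of the image of `C B` commuting with an element of the four-group moves all four points -/
theorem moves_of_comm {x v : Perm α} (hx : x ∈ D.L.img (C B)) (hx1 : x ≠ 1) (hxx : x * x = 1)
    (hv : V4 D.a D.b D.c D.d v) (hv1 : v ≠ 1) (hc : v * x = x * v) {i : α} (hvi : v i ≠ i) :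
    x i ≠ i := by
  by_cases hne : v = x
  · rw [← hne]; exact hvi
  · exact fun e => hvi ((D.same_fix hx (D.V_mem_img hv) hx1 hv1 hxx (hv.sq D.nd) hc hne i).1 e)

/-- **T4'**: the elements `(a b)(p q)` of `B` move a point outside of the four points -/
theorem t4' {t : G} (ht : t ∈ B) {p q : α} (hp : p ∉ D.S) (hq : q ∉ D.S) (hpq : p ≠ q)
    (htφ : D.L'.φ t = swap D.a D.b * swap p q) :
    t ∈ N A ∧ (∀ j ∈ C B, D.L.φ t * D.L.φ j = D.L.φ j * D.L.φ t) ∧
      D.L.φ t * D.L.φ t = 1 ∧ (∀ i, i ∉ D.S → D.L.φ t i ∉ D.S) ∧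
      ∃ i, i ∉ D.S ∧ D.L.φ t i ≠ i := by
  obtain ⟨⟨m1, m2, m3⟩, ⟨m4, m5⟩, m6⟩ := PermTypes.of_nodup_four D.nd
  have hp' := hp
  have hq' := hq
  rw [mem_four4, not_or, not_or, not_or] at hp' hq'
  have hndq : [D.a, D.b, p, q].Nodup := PermTypes.nodup_four m1 (Ne.symm hp'.1) (Ne.symm hq'.1)
    (Ne.symm hp'.2.1) (Ne.symm hq'.2.1) hpq
  have hnd2 : [p, q, D.c, D.d].Nodup := PermTypes.nodup_four hpq hp'.2.2.1 hp'.2.2.2 hq'.2.2.1
    hq'.2.2.2 m6
  have hcd1 : D.L'.φ t * D.d₁ = D.d₁ * D.L'.φ t := by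
    rw [htφ]
    have c1 : Commute (swap D.a D.b) (swap p q) := PermTypes.swap_swap_comm hndq
    have c2 : Commute (swap D.a D.b) (swap D.c D.d) := PermTypes.swap_swap_comm D.nd
    have c3 : Commute (swap p q) (swap D.c D.d) := PermTypes.swap_swap_comm hnd2
    exact (((Commute.refl _).mul_right c2).mul_left ((c1.symm).mul_right c3)).eq
  have htN : t ∈ N A := D.symm.mem_NB ht hcd1
  have hcomm : ∀ j ∈ C B, D.L.φ t * D.L.φ j = D.L.φ j * D.L.φ t := fun j hj =>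
    D.L.comm' htN (D.two.leA hj) (comm_of_C hj ht).symm
  have hcv : ∀ {v : Perm α}, V4 D.a D.b D.c D.d v → D.L.φ t * v = v * D.L.φ t :=
    fun hv => D.symm.comm' ht htN hv
  have htt : t * t = 1 := by
    apply D.L'.eq_one D.two.teB (mul_mem ht ht)
    rw [D.L'.mul _ _ (le_N ht) (le_N ht), htφ, d1_sq hndq]
  have hmem : ∀ i, i ∉ D.S → D.L.φ t i ∉ D.S := by
    intro i hi hi'
    -- `d₁` fixes `i`, so it fixes `φ t i`
    have h1 : D.d₁ (D.L.φ t i) = D.L.φ t i := by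
      rw [← mul_apply, ← hcv D.v4₁, mul_apply, D.v4₁.fix hi]
    have e1 := d1_apply D.nd
    rcases mem_four4.1 hi' with e | e | e | e
    · rw [e, e1.1] at h1; exact m1 h1.symm
    · rw [e, e1.2.1] at h1; exact m1 h1
    · rw [e, e1.2.2.1] at h1; exact m6 h1.symm
    · rw [e, e1.2.2.2] at h1; exact m6 h1
  refine ⟨htN, hcomm, by rw [← D.L.mul _ _ htN htN, htt, D.L.one], hmem, ?_⟩
  by_contra hcon
  push Not at hcon
  have hV : V4 D.a D.b D.c D.d (D.L.φ t) := V4_of_comm D.nd hcon (hcv D.v4₁) (hcv D.v4₂)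
  obtain ⟨v, hv, hv', hvφ⟩ := D.exV hV
  -- `k = v⁻¹ t` lies in `C A`
  have hk : t * v⁻¹ ∈ C A := D.L.mul_inv_mem_C htN (le_N hv) hvφ.symm
  have hkφ : D.L'.φ (t * v⁻¹) = swap D.a D.b * swap p q := by
    rw [D.L'.mul _ _ (le_N ht) (inv_mem (C_le_N hv')), D.L'.inv (C_le_N hv'), D.L'.of_C hv', inv_one,
      mul_one, htφ]
  have hkX : swap D.a D.b * swap p q ∈ D.L'.img (C A) := by
    rw [← hkφ]
    exact D.L'.φ_mem_img hk (D.two.leB hk)
  have h1 := D.symm.mv_of_comm hkX (d1_ne hndq) (d1_sq hndq) D.v4₁ (d1_ne D.nd)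
    (by rw [← htφ]; exact hcd1.symm) p hp
  rw [(d1_apply hndq).2.2.1] at h1
  exact hpq h1.symm

theorem exists_t : ∃ t ∈ B, t ∈ N A ∧ (∀ j ∈ C B, D.L.φ t * D.L.φ j = D.L.φ j * D.L.φ t) ∧
      D.L.φ t * D.L.φ t = 1 ∧ (∀ i, i ∉ D.S → D.L.φ t i ∉ D.S) ∧
      ∃ i, i ∉ D.S ∧ D.L.φ t i ≠ i := by
  obtain ⟨⟨m1, m2, m3⟩, ⟨m4, m5⟩, m6⟩ := PermTypes.of_nodup_four D.nd
  obtain ⟨p, q, hp, hq, -, -, hpq⟩ := exists_two_more (a := D.a) (b := D.b) (c := D.c) (d := D.d)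
    (i := D.a) D.card
  obtain ⟨t, ht, htφ⟩ := D.L'.lift _ (PermTypes.swap_mul_mem m1 hpq)
  exact ⟨t, ht, D.t4' ht hp hq hpq htφ⟩

/-- **T4** -/
theorem t4 {x : G} (hx : x ∈ A) (hxB : x ∈ C B) (h : D.L.φ x ∈ D.F) : x = 1 := by
  apply D.L.eq_one D.two.teA hx
  by_cases h8 : 8 ≤ Fintype.card α
  · -- the subgroup of the alternating group on the other points
    let f : Perm {i // i ∉ D.S} →* Perm α := Equiv.Perm.ofSubtype
    let M : Subgroup (alternatingGroup {i // i ∉ D.S}) :=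
      { carrier := {τ | ∃ z ∈ A, z ∈ C B ∧ D.L.φ z = f τ}
        one_mem' := ⟨1, one_mem _, one_mem _, by rw [D.L.one]; exact (map_one f).symm⟩
        mul_mem' := by
          rintro σ τ ⟨z, hz, hz', e⟩ ⟨w, hw, hw', e'⟩
          refine ⟨z * w, mul_mem hz hw, mul_mem hz' hw', ?_⟩
          rw [D.L.mul _ _ (le_N hz) (le_N hw), e, e', ← map_mul]
          rfl
        inv_mem' := by
          rintro σ ⟨z, hz, hz', e⟩
          refine ⟨z⁻¹, inv_mem hz, inv_mem hz', ?_⟩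
          rw [D.L.inv (le_N hz), e, ← map_inv]
          rfl }
    have hfF : ∀ τ ∈ alternatingGroup {i // i ∉ D.S}, f τ ∈ D.F := by
      intro τ hτ
      have hfixf : ∀ i, i ∈ D.S → f τ i = i := fun i hi => ofSubtype_apply_of_not_mem τ (by
        rw [not_not]; exact hi)
      refine ⟨?_, hfixf _ (mem_four4.2 (Or.inl rfl)), hfixf _ (mem_four4.2 (Or.inr (Or.inl rfl))),
        hfixf _ (mem_four4.2 (Or.inr (Or.inr (Or.inl rfl)))),
        hfixf _ (mem_four4.2 (Or.inr (Or.inr (Or.inr rfl))))⟩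
      rw [mem_alternatingGroup]
      exact (sign_ofSubtype τ).trans (mem_alternatingGroup.1 hτ)
    have hMn : M.Normal := by
      constructor
      rintro m ⟨z, hz, hz', e⟩ g
      obtain ⟨y, hy, hyφ⟩ := D.L.lift (f g) (hfF g g.2).1
      have hyB : y ∈ N B := (D.t3 hy (by rw [hyφ]; exact hfF g g.2)).1
      refine ⟨y * z * y⁻¹, mul_mem (mul_mem hy hz) (inv_mem hy), conj_mem_C hyB hz', ?_⟩
      rw [D.L.conj (le_N hy) (le_N hz), hyφ, e, ← map_mul, ← map_inv, ← map_mul]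
      rfl
    have hbot := eq_bot_of_no_inv (β := {i // i ∉ D.S}) (by
      rw [Fintype.card_subtype_compl, Fintype.card_coe]
      have : D.S.card ≤ 4 := card_four4_le (a := D.a) (b := D.b) (c := D.c) (d := D.d)
      omega) M (by
      rintro m ⟨z, hz, hz', e⟩ hmm
      by_contra hm1
      have hmm' : (m : Perm {i // i ∉ D.S}) * m = 1 := congrArg Subtype.val hmm
      have hx1 : D.L.φ z ≠ 1 := by
        intro h1
        rw [e] at h1
        exact hm1 (Subtype.ext (ofSubtype_injective (h1.trans (map_one f).symm)))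
      have hxx : D.L.φ z * D.L.φ z = 1 := by
        rw [e, ← map_mul, hmm', map_one]
      have hF : D.L.φ z ∈ D.F := by rw [e]; exact hfF m m.2
      have h1 := D.moves_of_comm (D.L.φ_mem_img hz' (le_N hz)) hx1 hxx D.v4₁ (d1_ne D.nd)
        (AF_comm_d1 hF).symm (i := D.a) (by
          rw [(d1_apply D.nd).1]
          exact Ne.symm (PermTypes.of_nodup_four D.nd).1.1)
      exact h1 hF.2.1)
    -- `φ x = f τ`
    have hfixS : ∀ i, i ∈ D.S → D.L.φ x i = i := by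
      intro i hi
      rcases mem_four4.1 hi with rfl | rfl | rfl | rfl
      · exact h.2.1
      · exact h.2.2.1
      · exact h.2.2.2.1
      · exact h.2.2.2.2
    have hp : ∀ i, D.L.φ x i ∉ D.S ↔ i ∉ D.S := by
      intro i
      rw [not_iff_not]
      constructor
      · intro hi
        have := hfixS _ hi
        rwa [(D.L.φ x).injective this] at hi
      · intro hi
        rw [hfixS i hi]; exact hi
    have hσf : f ((D.L.φ x).subtypePerm hp) = D.L.φ x := ofSubtype_subtypePerm _ (by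
      intro i hi hi'
      exact hi (hfixS i hi'))
    have hev : (D.L.φ x).subtypePerm hp ∈ alternatingGroup {i // i ∉ D.S} := by
      rw [mem_alternatingGroup, ← Equiv.Perm.sign_ofSubtype]
      change Perm.sign (f ((D.L.φ x).subtypePerm hp)) = 1
      rw [hσf]
      exact mem_alternatingGroup.1 h.1
    have hmem : (⟨_, hev⟩ : alternatingGroup {i // i ∉ D.S}) ∈ M := ⟨x, hx, hxB, hσf.symm⟩
    rw [hbot, mem_bot] at hmem
    have h1 : (D.L.φ x).subtypePerm hp = 1 := congrArg Subtype.val hmem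
    rw [← hσf, h1, map_one]
  · have h7 : Fintype.card α = 7 := by have := D.card; omega
    obtain ⟨t, ht, htN, hcomm, htt, hS, i, hi, hti⟩ := D.exists_t
    exact AF_eq_one7 h7 D.nd htt hS hi hti h (hcomm x hxB).symm

/-- **T5** -/
theorem t5 {σ : Perm α} (hσ : σ ∈ D.F) : ∃ x ∈ A, D.L.φ x ∈ D.F ∧ D.L'.φ x = σ := by
  classical
  choose f hf hfφ using fun τ : D.F => D.L.lift τ τ.2.1
  have hf3 : ∀ τ : D.F, f τ ∈ N B ∧ D.L'.φ (f τ) ∈ D.F := fun τ =>
    D.t3 (hf τ) (by rw [hfφ]; exact τ.2)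
  let ψ : D.F → D.F := fun τ => ⟨D.L'.φ (f τ), (hf3 τ).2⟩
  have hinj : Function.Injective ψ := by
    intro τ₁ τ₂ h
    have h1 : D.L'.φ (f τ₁) = D.L'.φ (f τ₂) := congrArg Subtype.val h
    have h2 := D.L'.mul_inv_mem_C (hf3 τ₁).1 (hf3 τ₂).1 h1
    have h3 : f τ₁ * (f τ₂)⁻¹ ∈ A := mul_mem (hf τ₁) (inv_mem (hf τ₂))
    have h4 : D.L.φ (f τ₁ * (f τ₂)⁻¹) = (τ₁ : Perm α) * (τ₂ : Perm α)⁻¹ := by
      rw [D.L.mul _ _ (le_N (hf τ₁)) (inv_mem (le_N (hf τ₂))), D.L.inv (le_N (hf τ₂)), hfφ, hfφ]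
    have h5 := D.t4 h3 h2 (by rw [h4]; exact mul_mem τ₁.2 (inv_mem τ₂.2))
    rw [h5, D.L.one] at h4
    exact Subtype.ext (mul_inv_eq_one.1 h4.symm)
  obtain ⟨τ, hτ⟩ := (Finite.injective_iff_surjective.1 hinj) ⟨σ, hσ⟩
  exact ⟨f τ, hf τ, by rw [hfφ]; exact τ.2, congrArg Subtype.val hτ⟩

/-- **T6**: elements of `C B` move only the four points -/
theorem t6 {j : G} (hj : j ∈ C B) : Mv D.a D.b D.c D.d (D.L.φ j) := by
  have hcomm : ∀ σ ∈ D.F, D.L.φ j * σ = σ * D.L.φ j := by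
    intro σ hσ
    obtain ⟨y, hy, hyF, rfl⟩ := D.symm.t5 hσ
    have hyN : y ∈ N A := (D.symm.t3 hy hyF).1
    exact D.L.comm' (D.two.leA hj) hyN (comm_of_C hj hy)
  by_cases h8 : 8 ≤ Fintype.card α
  · exact comm_AF_fix h8 hcomm
  · have h7 : Fintype.card α = 7 := by have := D.card; omega
    obtain ⟨t, ht, htN, hc, htt, hS, i, hi, hti⟩ := D.exists_t
    exact comm_AF_fix7 h7 D.nd htt hS hi hti hcomm (hc j hj).symm

/-- elements of `C B`: the decomposition -/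
theorem decomp {g : Perm α} (hg : g ∈ D.L.img (C B)) : ∃ v, V4 D.a D.b D.c D.d v ∧
    (v * g = 1 ∨ v * g = cyc D.b D.c D.d ∨ v * g = cyc D.b D.d D.c) := by
  obtain ⟨j, hj, hjN, rfl⟩ := D.L.mem_img.1 hg
  obtain ⟨⟨m1, m2, m3⟩, ⟨m4, m5⟩, m6⟩ := PermTypes.of_nodup_four D.nd
  obtain ⟨v, hv, h⟩ := s4_decomp D.nd (D.t6 hj)
  refine ⟨v, hv, ?_⟩
  have hX : v * D.L.φ j ∈ D.L.img (C B) := mul_mem (D.V_mem_img hv) hg
  -- transpositions do not occur
  have key : ∀ {p q r s : α}, [p, q, r, s].Nodup → V4 D.a D.b D.c D.d (swap p q * swap r s) →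
      swap p q ∈ D.L.img (C B) → False := by
    intro p q r s hnd hV hmem
    obtain ⟨⟨n1, n2, n3⟩, ⟨n4, n5⟩, n6⟩ := PermTypes.of_nodup_four hnd
    have h1 := D.moves_of_comm hmem (by
      intro e
      have := congrArg (fun f : Perm α => f p) e
      simp only [swap_apply_left, one_apply] at this
      exact n1 this.symm) (swap_mul_self _ _) hV (d1_ne hnd) (by
      rw [mul_assoc, ← PermTypes.swap_swap_comm hnd]) (i := r) (by
      rw [(d1_apply hnd).2.2.1]; exact Ne.symm n6)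
    exact h1 (swap_apply_of_ne_of_ne (Ne.symm n2) (Ne.symm n4))
  rcases h with h | h | h | h | h | h
  · exact Or.inl h
  · exact Or.inr (Or.inl h)
  · exact Or.inr (Or.inr h)
  · exfalso
    rw [h] at hX
    refine key (p := D.c) (q := D.d) (r := D.a) (s := D.b)
      (PermTypes.nodup_four m6 (Ne.symm m2) (Ne.symm m4) (Ne.symm m3) (Ne.symm m5) m1) ?_ hX
    rw [← PermTypes.swap_swap_comm D.nd]
    exact D.v4₁
  · exfalso
    rw [h] at hX
    refine key (p := D.b) (q := D.c) (r := D.a) (s := D.d)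
      (PermTypes.nodup_four m4 (Ne.symm m1) m5 (Ne.symm m2) m6 m3) ?_ hX
    rw [← PermTypes.swap_swap_comm D.nd₃]
    exact D.v4₃
  · exfalso
    rw [h] at hX
    refine key (p := D.b) (q := D.d) (r := D.a) (s := D.c)
      (PermTypes.nodup_four m5 (Ne.symm m1) m4 (Ne.symm m3) (Ne.symm m6) m2) ?_ hX
    rw [← PermTypes.swap_swap_comm D.nd₂]
    exact D.v4₂

/-- **S1**: the action of `C B` on `A` is even -/
theorem even_of_C {j : G} (hj : j ∈ C B) : D.L.φ j ∈ alternatingGroup α := by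
  obtain ⟨⟨m1, m2, m3⟩, ⟨m4, m5⟩, m6⟩ := PermTypes.of_nodup_four D.nd
  obtain ⟨v, hv, h⟩ := D.decomp (D.L.φ_mem_img hj (D.two.leA hj))
  have h1 : v * D.L.φ j ∈ alternatingGroup α := by
    rcases h with h | h | h
    · rw [h]; exact one_mem _
    · rw [h]; exact PermTypes.cyc_mem_alt m4 m6
    · rw [h]; exact PermTypes.cyc_mem_alt m5 (Ne.symm m6)
  have h2 := mul_mem (inv_mem (hv.even D.nd)) h1
  rwa [inv_mul_cancel_left] at h2

/-- elements of `AF` preserve the complement of the four points -/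
theorem F_inv_fix {τ : Perm α} (hτ : τ ∈ D.F) {i : α} (hi : i ∉ D.S) : τ⁻¹ i ∉ D.S := by
  intro hi'
  apply hi
  have h1 : τ (τ⁻¹ i) = τ⁻¹ i := by
    rcases mem_four4.1 hi' with e | e | e | e
    · rw [e]; exact hτ.2.1
    · rw [e]; exact hτ.2.2.1
    · rw [e]; exact hτ.2.2.2.1
    · rw [e]; exact hτ.2.2.2.2
  have h2 : τ (τ⁻¹ i) = i := by rw [← mul_apply, mul_inv_cancel, one_apply]
  rw [h2] at h1
  rw [h1]; exact hi'

/-- `AF` and the permutations of the four points meet trivially -/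
theorem F_inter {τ : Perm α} (hτ : τ ∈ D.F) (h : Mv D.a D.b D.c D.d τ) : τ = 1 := by
  ext i
  by_cases hi : i ∈ D.S
  · rcases mem_four4.1 hi with e | e | e | e
    · rw [e]; exact hτ.2.1
    · rw [e]; exact hτ.2.2.1
    · rw [e]; exact hτ.2.2.2.1
    · rw [e]; exact hτ.2.2.2.2
  · exact h i hi

theorem mem_C_of_cyc {x : G} (hx : x ∈ A) (h : D.L.φ x = cyc D.b D.c D.d) : x ∈ C B := by
  obtain ⟨⟨m1, m2, m3⟩, ⟨m4, m5⟩, m6⟩ := PermTypes.of_nodup_four D.nd
  obtain ⟨v₁, h1, h1', e1⟩ := D.ex₁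
  obtain ⟨v₂, h2, h2', e2⟩ := D.ex₂
  have hv1 : v₁ ≠ 1 := by
    rintro rfl
    rw [D.L.one] at e1
    exact d1_ne D.nd e1.symm
  have hvv : v₁ * v₁ = 1 := by
    apply D.L.eq_one D.two.teA (mul_mem h1 h1)
    rw [D.L.mul _ _ (le_N h1) (le_N h1), e1, d1_sq D.nd]
  have hconj : x * v₁ * x⁻¹ = v₂ := by
    apply D.L.inj D.two.teA (mul_mem (mul_mem hx h1) (inv_mem hx)) h2
    rw [D.L.conj (le_N hx) (le_N h1), h, e1, e2]
    have c1 : cyc D.b D.c D.d * (swap D.a D.b * swap D.c D.d) * (cyc D.b D.c D.d)⁻¹ =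
        (cyc D.b D.c D.d * swap D.a D.b * (cyc D.b D.c D.d)⁻¹) *
          (cyc D.b D.c D.d * swap D.c D.d * (cyc D.b D.c D.d)⁻¹) := by group
    rw [c1, PermTypes.swap_conj, PermTypes.swap_conj, PermTypes.cyc_apply_of_ne m1 m2 m3,
      PermTypes.cyc_apply_fst m5 m4, PermTypes.cyc_apply_snd m5 m6, PermTypes.cyc_apply_thd,
      swap_comm D.d D.b]
  have hxB : x ∈ N B := D.two.teB.key v₁ x h1' hv1 hvv (by rw [hconj]; exact h2')
  have hx3 : x ^ 3 = 1 := by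
    apply D.L.eq_one D.two.teA (pow_mem hx 3)
    rw [D.L.pow (le_N hx), h, PermTypes.cyc_pow_three m4 m6 m5]
  have h3 : D.L'.φ x ^ 3 = 1 := by rw [← D.L'.pow hxB, hx3, D.L'.one]
  obtain ⟨f1, f2, f3, f4⟩ := fix_of_cube D.nd (D.comm' hx hxB D.v4₁) (D.comm' hx hxB D.v4₂) h3
  obtain ⟨y, hy, hyF, hyx⟩ := D.t5 (σ := D.L'.φ x) ⟨even_of_cube h3, f1, f2, f3, f4⟩
  have hyB : y ∈ N B := (D.t3 hy hyF).1
  have hj : x * y⁻¹ ∈ C B := D.L'.mul_inv_mem_C hxB hyB hyx.symm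
  have h6 := D.t6 hj
  have h7 : D.L.φ y = 1 := by
    apply D.F_inter hyF
    intro i hi
    have h8 := h6 i hi
    rw [D.L.mul _ _ (le_N hx) (inv_mem (le_N hy)), D.L.inv (le_N hy), mul_apply, h] at h8
    have h9 := D.F_inv_fix hyF hi
    have h9' := h9
    rw [mem_four4, not_or, not_or, not_or] at h9'
    rw [PermTypes.cyc_apply_of_ne h9'.2.1 h9'.2.2.1 h9'.2.2.2] at h8
    exact (Perm.inv_eq_iff_eq.1 h8).symm
  have h8 := D.L.eq_one D.two.teA hy h7
  rwa [h8, inv_one, mul_one] at hj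

/-- **S2** -/
theorem mem_C_of {x : G} (hx : x ∈ A) (he : D.L.φ x ∈ alternatingGroup α)
    (hm : Mv D.a D.b D.c D.d (D.L.φ x)) : x ∈ C B := by
  obtain ⟨⟨m1, m2, m3⟩, ⟨m4, m5⟩, m6⟩ := PermTypes.of_nodup_four D.nd
  obtain ⟨v, hv, h⟩ := s4_decomp D.nd hm
  obtain ⟨z, hz, hz', hzφ⟩ := D.exV hv
  have hzx : D.L.φ (z * x) = v * D.L.φ x := by rw [D.L.mul _ _ (le_N hz) (le_N hx), hzφ]
  have hev : v * D.L.φ x ∈ alternatingGroup α := mul_mem (hv.even D.nd) he
  have hodd : ∀ p q : α, p ≠ q → swap p q ∈ alternatingGroup α → False := by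
    intro p q hpq h1
    have h2 := mem_alternatingGroup.1 h1
    rw [sign_swap hpq] at h2
    exact absurd h2 (by decide)
  have key : z * x ∈ C B := by
    rcases h with h | h | h | h | h | h
    · rw [D.L.eq_one D.two.teA (mul_mem hz hx) (hzx.trans h)]
      exact one_mem _
    · exact D.mem_C_of_cyc (mul_mem hz hx) (hzx.trans h)
    · have h1 : (z * x)⁻¹ ∈ C B := by
        apply D.mem_C_of_cyc (inv_mem (mul_mem hz hx))
        rw [D.L.inv (le_N (mul_mem hz hx)), hzx, h, PermTypes.cyc_inv]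
        rw [PermTypes.cyc_rot m4 m6 m5]
      exact (inv_mem_iff).1 h1
    · rw [h] at hev; exact (hodd _ _ m6 hev).elim
    · rw [h] at hev; exact (hodd _ _ m4 hev).elim
    · rw [h] at hev; exact (hodd _ _ m5 hev).elim
  have h1 := mul_mem (inv_mem hz') key
  rwa [inv_mul_cancel_left] at h1

/-- **S2'** -/
theorem exists_mem_A {j : G} (hj : j ∈ C B) : ∃ x ∈ A, x ∈ C B ∧ D.L.φ x = D.L.φ j ∧
    j * x⁻¹ ∈ C A ∧ j * x⁻¹ ∈ C B := by
  obtain ⟨x, hx, hxj⟩ := D.L.lift _ (D.even_of_C hj)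
  have hxB : x ∈ C B := D.mem_C_of hx (by rw [hxj]; exact D.even_of_C hj)
    (by rw [hxj]; exact D.t6 hj)
  exact ⟨x, hx, hxB, hxj, D.L.mul_inv_mem_C (D.two.leA hj) (le_N hx) hxj.symm,
    mul_mem hj (inv_mem hxB)⟩

/-- elements of `A` acting in `F` differ from elements of `B` by elements of `C A ⊓ C B` -/
theorem exists_diff {x : G} (hx : x ∈ A) (h : D.L.φ x ∈ D.F) : ∃ y ∈ B, D.L'.φ y = D.L'.φ x ∧
    x * y⁻¹ ∈ C A ∧ x * y⁻¹ ∈ C B := by
  obtain ⟨hxB, hF⟩ := D.t3 hx h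
  obtain ⟨y, hy, hyx⟩ := D.L'.lift _ hF.1
  obtain ⟨hyA, hyF⟩ := D.symm.t3 hy (by rw [show D.symm.L.φ y = _ from hyx]; exact hF)
  have hj : x * y⁻¹ ∈ C B := D.L'.mul_inv_mem_C hxB (le_N hy) hyx.symm
  refine ⟨y, hy, hyx, ?_, hj⟩
  rw [← D.L.ker _ (D.two.leA hj)]
  apply D.F_inter _ (D.t6 hj)
  rw [D.L.mul _ _ (le_N hx) (inv_mem hyA), D.L.inv hyA]
  exact mul_mem h (inv_mem hyF)

/-- **S3** -/
theorem mem_B_of {x : G} (hx : x ∈ A) (h : D.L.φ x ∈ D.F) : x ∈ B := by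
  obtain ⟨⟨m1, m2, m3⟩, ⟨m4, m5⟩, m6⟩ := PermTypes.of_nodup_four D.nd
  let H : Subgroup (Perm α) :=
    { carrier := {σ | σ ∈ D.F ∧ ∀ x ∈ A, D.L.φ x = σ → x ∈ B}
      one_mem' := ⟨one_mem _, fun x hx h => by
        rw [D.L.eq_one D.two.teA hx h]; exact one_mem _⟩
      mul_mem' := by
        rintro σ τ ⟨hσ, hσ'⟩ ⟨hτ, hτ'⟩
        refine ⟨mul_mem hσ hτ, fun x hx h => ?_⟩
        obtain ⟨y, hy, hyτ⟩ := D.L.lift τ hτ.1
        have h1 : D.L.φ (x * y⁻¹) = σ := by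
          rw [D.L.mul _ _ (le_N hx) (inv_mem (le_N hy)), D.L.inv (le_N hy), h, hyτ,
            mul_inv_cancel_right]
        have h2 := hσ' _ (mul_mem hx (inv_mem hy)) h1
        have h3 := hτ' y hy hyτ
        have h4 := mul_mem h2 h3
        rwa [inv_mul_cancel_right] at h4
      inv_mem' := by
        rintro σ ⟨hσ, hσ'⟩
        refine ⟨inv_mem hσ, fun x hx h => ?_⟩
        have h1 : D.L.φ x⁻¹ = σ := by rw [D.L.inv (le_N hx), h, inv_inv]
        exact (inv_mem_iff).1 (hσ' _ (inv_mem hx) h1) }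
  have hle : D.F ≤ H := by
    apply AF_le
    intro i j k hi hj hk hij hjk hik
    refine ⟨cyc_mem_AF hi hj hk hij hjk, fun x hx h => ?_⟩
    have hxF : D.L.φ x ∈ D.F := by rw [h]; exact cyc_mem_AF hi hj hk hij hjk
    obtain ⟨y, hy, hyx, hA', hB'⟩ := D.exists_diff hx hxF
    have hxB : x ∈ N B := (D.t3 hx hxF).1
    have hx3 : x ^ 3 = 1 := by
      apply D.L.eq_one D.two.teA (pow_mem hx 3)
      rw [D.L.pow (le_N hx), h, PermTypes.cyc_pow_three hij hjk hik]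
    have hy3 : y ^ 3 = 1 := by
      apply D.L'.eq_one D.two.teB (pow_mem hy 3)
      rw [D.L'.pow (le_N hy), hyx, ← D.L'.pow hxB, hx3, D.L'.one]
    generalize hκ : x * y⁻¹ = κ at hA' hB'
    have hxκ : x = κ * y := by rw [← hκ, inv_mul_cancel_right]
    have hκy : κ * y = y * κ := comm_of_C hB' hy
    have hκ3 : κ ^ 3 = 1 := by
      have h1 : (κ * y) ^ 3 = κ ^ 3 * y ^ 3 := (show Commute κ y from hκy).mul_pow 3
      rw [← hxκ, hx3, hy3, mul_one] at h1
      exact h1.symm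
    -- the inverting element
    have hi' := hi
    have hj' := hj
    rw [mem_four4, not_or, not_or, not_or] at hi' hj'
    have hnd : [D.a, D.b, i, j].Nodup := PermTypes.nodup_four m1 (Ne.symm hi'.1) (Ne.symm hj'.1)
      (Ne.symm hi'.2.1) (Ne.symm hj'.2.1) hij
    have hnd2 : [i, j, D.c, D.d].Nodup := PermTypes.nodup_four hij hi'.2.2.1 hi'.2.2.2
      hj'.2.2.1 hj'.2.2.2 m6
    obtain ⟨t, ht, htφ⟩ := D.L.lift _ (PermTypes.swap_mul_mem m1 hij)
    have htB : t ∈ N B := by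
      apply D.mem_NB ht
      rw [htφ]
      have c1 : Commute (swap D.a D.b) (swap i j) := PermTypes.swap_swap_comm hnd
      have c2 : Commute (swap D.a D.b) (swap D.c D.d) := PermTypes.swap_swap_comm D.nd
      have c3 : Commute (swap i j) (swap D.c D.d) := PermTypes.swap_swap_comm hnd2
      exact (((Commute.refl _).mul_right c2).mul_left ((c1.symm).mul_right c3)).eq
    have htx : t * x * t⁻¹ = x⁻¹ := by
      apply D.L.inj D.two.teA (mul_mem (mul_mem ht hx) (inv_mem ht)) (inv_mem hx)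
      have hk' := hk
      rw [mem_four4, not_or, not_or, not_or] at hk'
      rw [D.L.conj (le_N ht) (le_N hx), D.L.inv (le_N hx), h, htφ, PermTypes.cyc_conj,
        (d1_apply hnd).2.2.1, (d1_apply hnd).2.2.2, d1_fix hk'.1 hk'.2.1 (Ne.symm hik)
        (Ne.symm hjk), PermTypes.cyc_inv]
      exact (PermTypes.cyc_rot (Ne.symm hjk) (Ne.symm hij) (Ne.symm hik)).symm
    have htκ : t * κ * t⁻¹ = κ := by
      rw [mul_inv_eq_iff_eq_mul]
      exact (comm_of_C hA' ht).symm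
    have hty : t * y * t⁻¹ ∈ B := conj_mem htB hy
    have h1 : t * x * t⁻¹ = κ * (t * y * t⁻¹) := by
      calc t * x * t⁻¹ = t * (κ * y) * t⁻¹ := by rw [← hxκ]
        _ = (t * κ * t⁻¹) * (t * y * t⁻¹) := by group
        _ = κ * (t * y * t⁻¹) := by rw [htκ]
    have h2 : x⁻¹ = κ⁻¹ * y⁻¹ := by
      rw [hxκ, hκy, mul_inv_rev]
    rw [htx, h2] at h1
    -- `κ² ∈ B`
    have h3 : κ * κ ∈ B := by
      have h4 : κ * κ = y⁻¹ * (t * y * t⁻¹)⁻¹ := by
        have h5 : y⁻¹ = κ * κ * (t * y * t⁻¹) := by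
          calc y⁻¹ = κ * (κ⁻¹ * y⁻¹) := by group
            _ = κ * (κ * (t * y * t⁻¹)) := by rw [h1]
            _ = κ * κ * (t * y * t⁻¹) := (mul_assoc _ _ _).symm
        rw [eq_mul_inv_iff_mul_eq]
        exact h5.symm
      rw [h4]
      exact mul_mem (inv_mem hy) (inv_mem hty)
    have h4 : κ * κ = 1 := D.two.teB.disj _ h3 (mul_mem hB' hB')
    have h5 : κ = 1 := by
      have h6 : κ ^ 3 = κ * κ * κ := by rw [pow_succ, pow_two]
      rw [hκ3, h4, one_mul] at h6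
      exact h6.symm
    rw [hxκ, h5, one_mul]
    exact hy
  exact (hle h).2 x hx rfl

end PD

end Cfsg.Agent.StdAlt
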